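/- The centralizer `3^(1+4).SL(2,3)` or `3^(1+4).(SL(2,3) × 2)` with one noncentral chief factor. -/
import Mathlib
import Cfsg.Agent.PERM.L43G
import Cfsg.Agent.PERM.O8.Def

set_option autoImplicit false

namespace CL.O8

open Subgroup CL.McL3 CL.Odd CL.L43

/-- the hypotheses on the centralizer of `z` -/
structure HC2 {G : Type*} [Group G] (Q : Subgroup G) (z : G)
    (π : cz z →* S2 × Multiplicative (ZMod 2)) : Prop extends ES Q z where
  sur : ∀ x : S2, ∃ g, Rel π g (x, 1)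
  ker : ∀ g, Rel π g 1 ↔ g ∈ Q
  nneg : ∃ g, ∃ q ∈ Q, Rel π g (-1, 1) ∧ g * q * g⁻¹ * q ∉ zpowers z
  card : ¬ 3 ^ 7 ∣ Nat.card G
  ex : ∃ k, k * z * k⁻¹ ∈ Q ∧ k * z * k⁻¹ ∉ zpowers z

end CL.O8
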