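/- S3372: linear algebra on a symplectic space of dimension four with a noncentral involution. -/
import Mathlib
import Cfsg.Agent.PERM.O8.HC

set_option autoImplicit false
set_option synthInstance.maxSize 4096
set_option linter.unusedSectionVars false

namespace CL.O8.A1

open CL.L43 (S2)

variable {U : Type*} [AddCommGroup U] [Module F U]

/-- a symplectic space of order 81 with a noncentral symplectic involution -/
structure LA (ω : U →ₗ[F] U →ₗ[F] F) (T : U →ₗ[F] U) : Prop where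
  alt : ∀ u, ω u u = 0
  nd : ∀ u, (∀ v, ω u v = 0) → u = 0
  card : Nat.card U = 81
  TT : ∀ u, T (T u) = u
  ωT : ∀ u v, ω (T u) (T v) = ω u v
  n1 : ∃ u, T u ≠ u
  n2 : ∃ u, T u ≠ -u

theorem three (u : U) : (3 : F) • u = 0 := by rw [show (3 : F) = 0 from rfl, zero_smul]

theorem eq_zero_of_neg {u : U} (h : -u = u) : u = 0 := by
  linear_combination (norm := module) h + three u

theorem sq_eq : ∀ {a : F}, a ≠ 0 → a * a = 1 := by decide

namespace LA

variable {ω : U →ₗ[F] U →ₗ[F] F} {T : U →ₗ[F] U} (h : LA ω T)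
include h

theorem an (u v : U) : ω u v = -ω v u := by
  have := h.alt (u + v)
  simp only [map_add, LinearMap.add_apply, h.alt] at this; linear_combination this

theorem neg : LA ω (-T) :=
  ⟨h.alt, h.nd, h.card, by simp [h.TT], by simp [h.ωT], by simpa [neg_eq_iff_eq_neg] using h.n2,
    by simpa using h.n1⟩

theorem orth {u v : U} (hu : T u = -u) (hv : T v = v) : ω u v = 0 := by
  have := h.ωT u v
  rw [hu, hv, map_neg, LinearMap.neg_apply] at this
  exact eq_zero_of_neg (U := F) this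

theorem orth' {u v : U} (hu : T u = -u) (hv : T v = v) : ω v u = 0 := by rw [h.an, h.orth hu hv, neg_zero]

theorem dec (u : U) : ∃ m p, T m = -m ∧ T p = p ∧ u = m + p :=
  ⟨T u - u, -(u + T u), by simp [h.TT], by simp [h.TT, add_comm], by
    linear_combination (norm := module) three u⟩

theorem partner {u : U} (hu : T u = -u) (h0 : u ≠ 0) : ∃ v, T v = -v ∧ ω u v ≠ 0 := by
  by_contra! c
  refine h0 (h.nd u fun v => ?_)
  obtain ⟨m, p, hm, hp, rfl⟩ := h.dec v
  rw [map_add, c m hm, h.orth hu hp, add_zero]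

theorem span {e1 e2 f1 f2 : U} (h1 : T e1 = -e1) (h2 : T e2 = -e2) (h3 : T f1 = f1) (h4 : T f2 = f2)
    (he : ω e1 e2 ≠ 0) (hf : ω f1 f2 ≠ 0) (u : U) :
    ∃ x x' y y' : F, u = x • e1 + x' • e2 + y • f1 + y' • f2 := by
  have : Finite U := Nat.finite_of_card_ne_zero (by rw [h.card]; decide)
  have := (Nat.bijective_iff_injective_and_card
    (fun c : F × F × F × F => c.1 • e1 + c.2.1 • e2 + c.2.2.1 • f1 + c.2.2.2 • f2)).2 ⟨fun c d e => by
      have k := fun w => congrArg (ω w) e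
      have a1 := k e1
      have a2 := k e2
      have a3 := k f1
      have a4 := k f2
      simp only [map_add, map_smul, smul_eq_mul, h.alt, h.orth h1 h3, h.orth h1 h4, h.orth h2 h3, h.orth h2 h4,
        h.orth' h1 h3, h.orth' h1 h4, h.orth' h2 h3, h.orth' h2 h4, h.an e2 e1, h.an f2 f1, mul_zero, add_zero,
        zero_add, mul_neg, neg_inj] at a1 a2 a3 a4
      exact Prod.ext (mul_right_cancel₀ he a2) (Prod.ext (mul_right_cancel₀ he a1)
        (Prod.ext (mul_right_cancel₀ hf a4) (mul_right_cancel₀ hf a3))), by simp [h.card]⟩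
  obtain ⟨c, e⟩ := this.2 u
  exact ⟨_, _, _, _, e.symm⟩

theorem exists_pos : ∃ f1 f2, T f1 = f1 ∧ T f2 = f2 ∧ ω f1 f2 ≠ 0 := by
  obtain ⟨u, hu⟩ := h.n2
  obtain ⟨v, h1, h2⟩ := h.neg.partner (u := T u + u) (by simp [h.TT, add_comm]) (by rwa [Ne, add_eq_zero_iff_eq_neg])
  exact ⟨_, v, by simp [h.TT, add_comm], by simpa using h1, h2⟩

theorem span2 {e1 e2 v : U} (h1 : T e1 = -e1) (h2 : T e2 = -e2) (he : ω e1 e2 ≠ 0) (hv : T v = -v) :
    ∃ x x' : F, v = x • e1 + x' • e2 := by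
  obtain ⟨f1, f2, h3, h4, hf⟩ := h.exists_pos
  obtain ⟨x, x', y, y', e⟩ := h.span h1 h2 h3 h4 he hf v
  refine ⟨x, x', ?_⟩
  rw [e] at hv ⊢
  simp only [map_add, map_smul, h1, h2, h3, h4] at hv
  linear_combination (norm := module) -hv + three (y • f1 + y' • f2)

theorem pl {u v : U} (hu : T u = -u) (hv : T v = -v) (h0 : u ≠ 0) (e : ω u v = 0) : ∃ c : F, v = c • u := by
  obtain ⟨w, hw, hw'⟩ := h.partner hu h0
  obtain ⟨x, x', rfl⟩ := h.span2 hu hw hw' hv
  simp only [map_add, map_smul, h.alt, smul_eq_mul, mul_zero, zero_add, mul_eq_zero, hw', or_false] at e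
  exact ⟨x, by simp [e]⟩

theorem sign {I : U →ₗ[F] U} (c : ∀ u, T (I u) = I (T u)) (ωI : ∀ u v, ω (I u) (I v) = ω u v)
    (II : ∀ u, T u = -u → I (I u) = u) : (∀ u, T u = -u → I u = u) ∨ ∀ u, T u = -u → I u = -u := by
  by_contra! hc
  obtain ⟨⟨u, hu, h1⟩, v, hv, h2⟩ := hc
  have a1 : I (I u - u) = -(I u - u) := by simp [II u hu]
  have a2 : I (I v + v) = I v + v := by simp [II v hv, add_comm]
  have a3 := ωI (I u - u) (I v + v)
  rw [a1, a2, map_neg, LinearMap.neg_apply] at a3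
  obtain ⟨k, hk⟩ := h.pl (u := I u - u) (v := I v + v) (by simp [c, hu]; abel) (by simp [c, hv]; abel)
    (sub_ne_zero.2 h1) (eq_zero_of_neg (U := F) a3)
  rw [hk, map_smul, a1, smul_neg, ← hk] at a2
  exact h2 (add_eq_zero_iff_eq_neg.1 (eq_zero_of_neg a2))

variable {S : U →ₗ[F] U} (c : ∀ u, T (S u) = S (T u)) (ωS : ∀ u v, ω (S u) (S v) = ω u v)
  (S3 : ∀ u, S (S (S u)) = u)
include c ωS

theorem fix_orth {k : U} (hk : S k = k) (u : U) : ω (S u - u) k = 0 := by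
  have := ωS u k
  rw [hk] at this
  simp [this]

include S3

theorem nil {u : U} (hu : T u = -u) : S (S u - u) = S u - u := by
  by_contra h0
  have a1 : S (S (S u - u) - (S u - u)) = S (S u - u) - (S u - u) := by
    simp only [map_sub, S3]
    linear_combination (norm := module) three (S u) - three (S (S u))
  obtain ⟨k, hk⟩ := h.pl (u := S (S u - u) - (S u - u)) (v := S u - u) (by simp [c, hu]; abel) (by simp [c, hu]; abel)
    (sub_ne_zero.2 h0) (by rw [h.an, h.fix_orth c ωS a1, neg_zero])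
  exact h0 (by rw [hk, map_smul, a1])

theorem fix_of {u : U} (hu : T u = -u) (e : ω u (S u - u) = 0) : S u = u := by
  by_cases h0 : u = 0
  · simp [h0]
  obtain ⟨k, hk⟩ := h.pl (v := S u - u) hu (by simp [c, hu]; abel) h0 e
  have := h.nil c ωS S3 hu
  rw [hk, map_smul, ← sub_eq_zero, ← smul_sub, hk, smul_smul, smul_eq_zero, or_iff_left h0, mul_self_eq_zero] at this
  rwa [this, zero_smul, sub_eq_zero] at hk

theorem both {m p : U} (hm : T m = -m) (hp : T p = p) (e : ω (m + p) (S (m + p) - (m + p)) = 0)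
    (h0 : S (m + p) ≠ m + p) : ω m (S m - m) ≠ 0 ∧ ω p (S p - p) = -ω m (S m - m) := by
  have e1 : ω p (S p - p) = -ω m (S m - m) := by
    have a1 := h.orth hm (v := S p - p) (by simp [c, hp])
    have a2 := h.orth' (u := S m - m) (by simp [c, hm]; abel) hp
    rw [show S (m + p) - (m + p) = (S m - m) + (S p - p) by rw [map_add]; abel, map_add, map_add,
      LinearMap.add_apply, LinearMap.add_apply, a1, a2] at e
    linear_combination e
  refine ⟨fun e2 => h0 ?_, e1⟩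
  rw [map_add, h.fix_of c ωS S3 hm e2, h.neg.fix_of (by simp [c]) ωS S3 (by simpa using hp) (by rw [e1, e2, neg_zero])]

end LA

/-! ### facts on `SL(2,3)` -/

theorem s_ex : ∀ σ : S2, σ ^ 3 = 1 → σ ≠ 1 → ∃ ι : S2, ι * ι = -1 ∧
    σ * (σ * ι * σ⁻¹) * σ⁻¹ = ι * (σ * ι * σ⁻¹) ∧ ι * (σ * ι * σ⁻¹) = σ * ι * σ⁻¹ * ι⁻¹ := by decide +kernel

theorem s_gen : ∀ σ : S2, σ ^ 3 = 1 → σ ≠ 1 → ∀ ι : S2, ι * ι = -1 →
    (∀ x : S2, ∃ a : Fin 4, ∃ b : Fin 2, ∃ m : Fin 3, x = (σ * ι * σ⁻¹) ^ b.val * ι ^ a.val * σ ^ m.val) ∧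
    ∀ x : S2, x ^ 4 = 1 → ∃ a : Fin 4, ∃ b : Fin 2, x = (σ * ι * σ⁻¹) ^ b.val * ι ^ a.val := by decide +kernel

theorem s_norm : ∀ σ : S2, σ ^ 3 = 1 → σ ≠ 1 → ∀ x : S2, ∀ k m : F, k ≠ 0 → x * σ ^ k.val * x⁻¹ = σ ^ m.val →
    (∃ l : F, x = σ ^ l.val ∨ x = -1 * σ ^ l.val) ∧ (x ^ 4 = 1 → x * x = 1) := by decide +kernel

theorem s_pow : ∀ σ : S2, σ ^ 3 = 1 → σ ≠ 1 → ∀ k : F, σ ^ k.val = 1 → k = 0 := by decide +kernel

theorem q_gen : ∀ x : Q8, ∃ a : Fin 4, ∃ b : Fin 2, x = (.xa 0) ^ b.val * (.a 1) ^ a.val := by decide +kernel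

theorem q_sq : ∀ x : Q8, x = 1 ∨ x = .a 2 ∨ x * x = .a 2 := by decide +kernel

theorem al_mul : ∀ x y : Q8, al (x * y) = al x * al y := by decide +kernel

end CL.O8.A1
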