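/- S3372: from the hypotheses of the statement to `HC2`. -/
import Mathlib
import Cfsg.Agent.PERM.L43I
import Cfsg.Agent.PERM.O8.A1a

set_option autoImplicit false
set_option linter.unusedVariables false

namespace CL.O8

namespace A0

open Subgroup CL.McL3 CL.Odd
open CL.L43 (S2 ES)

theorem la {U : Type*} [AddCommGroup U] [Module F U] [Nontrivial U] {X I J : U →ₗ[F] U}
    (X3 : ∀ u, X (X (X u)) = u) (II : ∀ u, I (I u) = -u) (JJ : ∀ u, J (J u) = -u) (IJ : ∀ u, I (J u) = -J (I u))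
    (XI : ∀ u, X (I u) = J (X u)) (XJ : ∀ u, X (J u) = I (J (X u))) : ∃ w ≠ 0, X w = w ∧ J w = w + I w := by
  obtain ⟨v, v0, hv⟩ : ∃ v ≠ 0, X v = v := by
    by_contra! c
    obtain ⟨u, u0⟩ := exists_ne (0 : U)
    refine c _ (sub_ne_zero.2 (c _ (sub_ne_zero.2 (c u u0)))) ?_
    simp only [map_sub, X3]
    linear_combination (norm := module) A1.three (X u) - A1.three (X (X u))
  have JI : ∀ u, J (I u) = -I (J u) := fun u => by rw [IJ, neg_neg]
  have k : ∀ w, I w + J w + I (J w) = 0 → J w = w + I w := fun w e => by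
    have := congrArg I e
    simp only [map_add, II, map_zero] at this
    linear_combination (norm := module) this - e + A1.three (J w)
  by_cases e : I v + J v + I (J v) = 0
  · exact ⟨v, v0, hv, k v e⟩
  · refine ⟨_, e, ?_, k _ ?_⟩
    · simp only [map_add, XI, XJ, hv, JI, JJ, map_neg, neg_neg]; abel
    · simp only [map_add, II, JI, JJ, map_neg, neg_neg]
      linear_combination (norm := module) -A1.three v

theorem irr {G : Type*} [Group G] [Finite G] {Q : Subgroup G} {z : G} {π : cz z →* S2 × Multiplicative (ZMod 2)}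
    (h : ES Q z) (sur : ∀ x : S2, ∃ g, Rel π g (x, 1)) (ker : ∀ g, Rel π g 1 ↔ g ∈ Q) {t : G} (ht : Rel π t (-1, 1))
    (ng : ∀ q ∈ Q, t * q * t⁻¹ * q ∈ zpowers z) : ∃ B : Subgroup G, zpowers z < B ∧ B < Q ∧
      ∀ k x, Rel π k (x, 1) → ∀ b ∈ B, k * b * k⁻¹ ∈ B := by
  obtain ⟨U, _, _, p, φ, -, add, k0, sj, hφ, -⟩ := h.sympl
  have nz : ∀ {k x}, Rel π k x → NZ z k := fun hk => .of_comm (mem_cz'.1 hk.mem)
  have mul : ∀ {k l x y}, Rel π k x → Rel π l y → ∀ u, φ (k * l) u = φ k (φ l u) := fun hk hl u => by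
    obtain ⟨a, ha, rfl⟩ := sj u
    rw [hφ _ (nz (hk.mul hl)) a ha, hφ _ (nz hl) a ha, hφ _ (nz hk) _ (h.nQ _ (nz hl) a ha)]
    congr 1; group
  have one : ∀ {k}, Rel π k 1 → ∀ u, φ k u = u := fun {k} hk u => by
    obtain ⟨a, ha, rfl⟩ := sj u
    have m := h.Qc k ((ker k).1 hk) a ha
    rw [hφ _ (nz hk) a ha, ← inv_mul_cancel_right (k * a * k⁻¹) a, add _ (h.ZQ m) a ha, (k0 _ (h.ZQ m)).2 m, zero_add]
  have eq : ∀ {k l x}, Rel π k x → Rel π l x → ∀ u, φ k u = φ l u := fun {k l x} hk hl u => by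
    have := (hk.mul hl.inv).congr (mul_inv_cancel x)
    rw [← inv_mul_cancel_right k l, mul this hl, one this]
  have T : ∀ u, φ t u = -u := fun u => by
    obtain ⟨a, ha, rfl⟩ := sj u
    rw [hφ _ (nz ht) a ha, eq_neg_iff_add_eq_zero, ← add _ (h.nQ _ (nz ht) a ha) a ha,
      k0 _ (mul_mem (h.nQ _ (nz ht) a ha) ha)]
    exact ng a ha
  let ψ : Q →* Multiplicative U := MonoidHom.mk' (fun a => .ofAdd (p a)) fun a b => add a a.2 b b.2
  have hc := card_of_hom (π := ψ) h.ZQ (fun x => (sj x.toAdd).elim fun a e => ⟨a, e.1, e.2⟩)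
    fun l => ⟨fun e => (k0 l e.1).1 e.2, fun e => ⟨h.ZQ e, (k0 l (h.ZQ e)).2 e⟩⟩
  rw [show Nat.card (Multiplicative U) = Nat.card U from rfl, h.cQ, h.cZ] at hc
  have : Finite U := Nat.finite_of_card_ne_zero (by omega)
  have : Nontrivial U := Finite.one_lt_card_iff_nontrivial.1 (by omega)
  obtain ⟨σ, s3, s1⟩ := CL.L43.Ix.s0
  rw [← pow_three'] at s3
  obtain ⟨ι, ii, e1, e2⟩ := A1.s_ex σ s3 s1
  obtain ⟨s, hs⟩ := sur σ
  obtain ⟨i, hi⟩ := sur ι
  obtain ⟨j, hj⟩ := sur (σ * ι * σ⁻¹)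
  obtain ⟨w, w0, Xw, Jw⟩ := la (X := φ s) (I := φ i) (J := φ j)
    (fun u => by rw [← mul hs hs, ← mul (hs.mul hs) hs, one (((hs.mul hs).mul hs).congr
      (Prod.ext ((pow_three' σ).symm.trans s3) rfl))])
    (fun u => by rw [← mul hi hi, eq ((hi.mul hi).congr (y := (-1, 1)) (Prod.ext ii rfl)) ht, T])
    (fun u => by rw [← mul hj hj, eq ((hj.mul hj).congr (y := (-1, 1)) (Prod.ext (by simp [ii]) rfl)) ht, T])
    (fun u => by
      rw [← T, ← mul hi hj, ← mul hj hi, ← mul ht (hj.mul hi)]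
      exact eq (hi.mul hj) ((ht.mul (hj.mul hi)).congr (Prod.ext (show -1 * (_ * ι) = ι * _ by
        rw [e2, inv_eq_of_mul_eq_one_right (show ι * -ι = 1 by simp [ii])]; simp) rfl)) u)
    (fun u => by
      rw [← mul hs hi, ← mul hj hs]; exact eq (hs.mul hi) ((hj.mul hs).congr (Prod.ext (by simp) rfl)) u)
    fun u => by
      rw [← mul hs hj, ← mul hi hj, ← mul (hi.mul hj) hs]
      exact eq (hs.mul hj) (((hi.mul hj).mul hs).congr (Prod.ext (show ι * _ * σ = σ * _ by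
        rw [← e1, inv_mul_cancel_right]) rfl)) u
  let W := Submodule.span F {w, φ i w}
  have m1 : w ∈ W := Submodule.subset_span (by simp)
  have m2 : φ i w ∈ W := Submodule.subset_span (by simp)
  have iv : ∀ {k}, φ k w ∈ W → φ k (φ i w) ∈ W → ∀ u ∈ W, φ k u ∈ W := fun a b u hu => by
    obtain ⟨c, d, rfl⟩ := Submodule.mem_span_pair.1 hu
    rw [map_add, map_smul, map_smul]
    exact add_mem (W.smul_mem _ a) (W.smul_mem _ b)
  have pw : ∀ {k x}, Rel π k x → (∀ u ∈ W, φ k u ∈ W) → ∀ n : ℕ, ∀ u ∈ W, φ (k ^ n) u ∈ W := fun hk e n => by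
    induction n with
    | zero => intro u hu; rwa [pow_zero, one Rel.one]
    | succ n ih => intro u hu; rw [pow_succ, mul (hk.pow n) hk]; exact ih _ (e u hu)
  have Wi := iv m2 (by rw [← mul hi hi, eq ((hi.mul hi).congr (y := (-1, 1)) (Prod.ext ii rfl)) ht, T]; exact neg_mem m1)
  have Ws := iv (k := s) (by rwa [Xw]) (by
    rw [← mul hs hi, eq (hs.mul hi) ((hj.mul hs).congr (Prod.ext (by simp) rfl)), mul hj hs, Xw, Jw]
    exact add_mem m1 m2)
  have Wj : ∀ u ∈ W, φ j u ∈ W := fun u hu => by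
    rw [eq hj (((hs.mul hi).mul (hs.pow 2)).congr (Prod.ext (show σ * ι * σ ^ 2 = _ by
      rw [inv_eq_sq_of_cube s3, pow_two]) rfl)), mul (hs.mul hi) (hs.pow 2), mul hs hi]
    exact Ws _ (Wi _ (pw hs Ws 2 u hu))
  have p1 := (k0 1 (one_mem _)).2 (one_mem _)
  refine ⟨{ carrier := {b | b ∈ Q ∧ p b ∈ W}
            one_mem' := ⟨one_mem _, p1 ▸ zero_mem _⟩
            mul_mem' := fun ha hb => ⟨mul_mem ha.1 hb.1, by rw [add _ ha.1 _ hb.1]; exact add_mem ha.2 hb.2⟩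
            inv_mem' := fun {b} hb => ⟨inv_mem hb.1, by
              have := add _ (inv_mem hb.1) _ hb.1
              rw [inv_mul_cancel, p1] at this
              rw [eq_neg_of_add_eq_zero_left this.symm]; exact neg_mem hb.2⟩ },
    lt_of_le_of_ne (fun a ha => ⟨h.ZQ ha, (k0 a (h.ZQ ha)).2 ha ▸ zero_mem _⟩) fun e => ?_,
    lt_of_le_of_ne (fun _ => And.left) fun e => ?_, fun k x hk b hb => ⟨h.nQ k (nz hk) b hb.1, ?_⟩⟩
  · obtain ⟨a, ha, rfl⟩ := sj w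
    exact w0 ((k0 a ha).2 (e.ge ⟨ha, m1⟩))
  · have := Nat.card_le_card_of_surjective (fun c : F × F => c.1 • w + c.2 • φ i w) fun u => by
      obtain ⟨a, ha, rfl⟩ := sj u
      obtain ⟨c, d, e⟩ := Submodule.mem_span_pair.1 (e.ge ha).2
      exact ⟨(c, d), e⟩
    rw [Nat.card_prod, Nat.card_zmod] at this
    omega
  · obtain ⟨a, c, m, rfl⟩ := (A1.s_gen σ s3 s1 ι ii).1 x
    rw [← hφ k (nz hk) b hb.1, eq hk ((((hj.pow c.val).mul (hi.pow a.val)).mul (hs.pow m.val)).congr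
      (Prod.ext rfl (by simp))), mul ((hj.pow _).mul (hi.pow _)) (hs.pow _), mul (hj.pow _) (hi.pow _)]
    exact pw hj Wj _ _ (pw hi Wi _ _ (pw hs Ws _ _ hb.2))

end A0

open Subgroup CL.McL3 CL.Odd CL.L43 in
theorem exists_hc {G : Type*} [Group G] [Finite G]
    (S : Sylow 3 G) (Z : Subgroup G) (hZ : Z = (S : Subgroup G) ⊓ Subgroup.centralizer ((S : Subgroup G) : Set G))
    (C : Subgroup G) (hCZ : C = Subgroup.centralizer (Z : Set G))
    (Q : Subgroup G) (hQ : Q = (Cfsg.pCore 3 C).map C.subtype)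
    (hQex : Cfsg.IsExtraspecial 3 Q) (hQcard : Nat.card Q = 3 ^ 5) (hQexp : ∀ a ∈ Q, a ^ 3 = 1)
    (hCQ : Subgroup.centralizer (Q : Set G) ≤ Q)
    (hZQ : ∃ x : G, Z.map (MulAut.conj x).toMonoidHom ≤ Q ∧ Z.map (MulAut.conj x).toMonoidHom ≠ Z)
    (K : Subgroup G) (hK : K = ((Cfsg.pResidual 2 (C ⧸ Cfsg.pCore 3 C)).comap (QuotientGroup.mk' (Cfsg.pCore 3 C))).map C.subtype)
    (r : ℕ) (A : Fin (r + 1) → Subgroup G) (hA0 : A 0 = Z) (hAr : A (Fin.last r) = Q)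
    (hmono : ∀ i : Fin r, A i.castSucc < A i.succ)
    (hinv : ∀ i : Fin (r + 1), ∀ k ∈ K, ∀ a ∈ A i, k * a * k⁻¹ ∈ A i)
    (hmax : ∀ i : Fin r, ∀ B : Subgroup G, A i.castSucc < B → B < A i.succ → ∃ k ∈ K, ∃ b ∈ B, k * b * k⁻¹ ∉ B)
    (e : Nonempty (C ⧸ Cfsg.pCore 3 C ≃* Matrix.SpecialLinearGroup (Fin 2) (ZMod 3)) ∨
      Nonempty (C ⧸ Cfsg.pCore 3 C ≃* Matrix.SpecialLinearGroup (Fin 2) (ZMod 3) × Multiplicative (ZMod 2)))
    (hone : ∃! i : Fin r, (∃ k ∈ K, ∃ a ∈ A i.succ, k * a * k⁻¹ * a⁻¹ ∉ A i.castSucc)) :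
    ∃ (z : G) (π : CL.Odd.cz z →* CL.L43.S2 × Multiplicative (ZMod 2)), HC2 Q z π := by
  have hc : ∀ s ∈ S, ∀ z ∈ Z, s * z = z * s := fun s hs z hz => (hZ.le hz).2 s hs
  have SC : (S : Subgroup G) ≤ C := fun s hs => hCZ.ge fun z hz => (hc s hs z hz).symm
  have QS : Q ≤ S := hQ ▸ le_sylow S.isPGroup' (fun d => S.not_dvd_index (d.trans (relIndex_dvd_index_of_le SC)))
    (PComp.pCoreOf_isPGroup 3 C) (PComp.pCoreOf_le 3 C) (PComp.le_normalizer_pCoreOf 3 C)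
  have ZQ : Z ≤ Q := fun z hz => hCQ fun q hq => hc q (QS hq) z hz
  have : Nontrivial (S : Subgroup G) := (nontrivial_iff_ne_bot _).2 fun e => by
    have h2 := card_le_of_le (QS.trans e.le)
    rw [card_bot] at h2
    omega
  have := S.isPGroup'.center_nontrivial
  obtain ⟨⟨⟨z, zS⟩, hz⟩, z1⟩ := exists_ne (1 : center (S : Subgroup G))
  have zZ : z ∈ Z := hZ.ge ⟨zS, fun s hs => congrArg Subtype.val (mem_center_iff.1 hz ⟨s, hs⟩)⟩
  replace z1 : z ≠ 1 := fun e => z1 (Subtype.ext (Subtype.ext e))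
  have z3 := hQexp _ (ZQ zZ)
  obtain ⟨Qc, QZ⟩ := es hQex (ZQ zZ) z1 z3 fun q hq => hc q (QS hq) _ zZ
  obtain rfl : Z = zpowers z :=
    le_antisymm (fun y hy => QZ y (ZQ hy) fun q hq => (hc q (QS hq) y hy).symm) (zpowers_le.2 zZ)
  rw [cent_zp] at hCZ
  subst hCZ
  obtain ⟨ρ, inj, sr⟩ : ∃ ρ : cz z ⧸ Cfsg.pCore 3 (cz z) →* S2 × Multiplicative (ZMod 2), Function.Injective ρ ∧
      ∀ x, ∃ y, ρ y = (x, 1) := by
    obtain ⟨⟨e⟩⟩ | ⟨⟨e⟩⟩ := e
    · exact ⟨(MonoidHom.inl _ _).comp e.toMonoidHom, fun a b c => e.injective (congrArg Prod.fst c),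
        fun x => ⟨e.symm x, Prod.ext (e.apply_symm_apply x) rfl⟩⟩
    · exact ⟨e.toMonoidHom, e.injective, fun x => e.surjective _⟩
  let π := ρ.comp (QuotientGroup.mk' _)
  have sur : ∀ x, ∃ g, Rel π g (x, 1) := fun x => by
    obtain ⟨y, hy⟩ := sr x
    obtain ⟨g, rfl⟩ := QuotientGroup.mk_surjective y
    exact ⟨g, g.2, hy⟩
  have ker : ∀ g, Rel π g 1 ↔ g ∈ Q := fun g => hQ ▸
    ⟨fun ⟨h1, h2⟩ => ⟨_, (QuotientGroup.eq_one_iff _).1 ((map_eq_one_iff ρ inj).1 h2), rfl⟩,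
      by rintro ⟨g, hg, rfl⟩; exact ⟨g.2, (map_eq_one_iff ρ inj).2 ((QuotientGroup.eq_one_iff _).2 hg)⟩⟩
  have h : ES Q z := ⟨z1, z3, ZQ zZ, hQcard, hQexp, fun q hq => hc q (QS hq) _ zZ, Qc,
    fun g hg => QZ g (hCQ fun q hq => (hg q hq).symm) hg,
    fun g hg q => hQ ▸ Tr.conj_mem_of_mem_normalizer (PComp.normalizer_le_normalizer_pCoreOf 3 _ hg.cent),
    fun X h1 h2 => by
      let ψ := π.comp (inclusion h1)
      have e1 : ψ.ker = (X ⊓ Q).subgroupOf X := Subgroup.ext fun x =>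
        ⟨fun e => ⟨x.2, (ker x).1 ⟨h1 x.2, e⟩⟩, fun e => ((ker x).2 e.2).2⟩
      obtain ⟨k, hk⟩ := (h2.of_surjective _ ψ.rangeRestrict_surjective).exists_card_eq
      have d := card_subgroup_dvd_card ψ.range
      rw [hk, Nat.card_prod, show Nat.card S2 = 24 by rw [Nat.card_eq_fintype_card]; decide +kernel,
        show Nat.card (Multiplicative (ZMod 2)) = 2 from Nat.card_zmod 2] at d
      have k2 : k < 2 := by
        by_contra c
        exact absurd ((pow_dvd_pow 3 (not_lt.1 c)).trans d) (by norm_num)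
      rw [← ψ.ker.card_mul_index, index_ker, hk, e1, Nat.card_congr (subgroupOfEquivOfLe inf_le_left).toEquiv, mul_comm]
      exact Nat.mul_le_mul_right _ (by interval_cases k <;> norm_num)⟩
  have mK : ∀ g, g ∈ K ↔ ∃ x, Rel π g (x, 1) := fun g => hK ▸ ⟨by
    rintro ⟨g, hg, rfl⟩
    refine ⟨_, g.2, Prod.ext rfl ((closure_le ((MonoidHom.snd _ _).comp ρ).ker).2 (fun y hy => ?_) hg)⟩
    exact orderOf_eq_one_iff.1 (Nat.eq_one_of_dvd_coprimes hy (orderOf_map_dvd ((MonoidHom.snd _ _).comp ρ) y)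
      (orderOf_dvd_of_pow_eq_one ((by decide : ∀ e : Multiplicative (ZMod 2), e ^ 2 = 1) _))), fun ⟨x, hg, e⟩ => ⟨⟨g, hg⟩, by
    obtain ⟨y, w, h1, h2, h3⟩ := Ix.three x
    have m : ∀ y : S2, y ^ 3 = 1 → ∀ a, ρ a = (y, 1) → a ∈ Cfsg.pResidual 2 _ := fun y hy a ha => subset_closure
      ((show Nat.Coprime 3 2 by norm_num).coprime_dvd_left (orderOf_dvd_of_pow_eq_one (inj (by
        rw [map_pow, ha, map_one]; exact Prod.ext hy (one_pow 3)))))
    obtain ⟨a, ha⟩ := sr y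
    obtain ⟨b, hb⟩ := sr w
    exact (mul_mem_cancel_left (mul_mem (m y h1 a ha) (m w h2 b hb))).1 (m _ h3 _ (by
      rw [map_mul, map_mul, ha, hb, show ρ (QuotientGroup.mk' _ ⟨g, hg⟩) = (x, 1) from e]; rfl)), rfl⟩⟩
  have mono : Monotone A := (Fin.strictMono_iff_lt_succ.2 hmono).monotone
  refine ⟨z, π, h, sur, ker, by_contra fun c => ?_, fun d => ?_, ?_⟩
  · push Not at c
    obtain ⟨t, ht⟩ := sur (-1)
    obtain ⟨B, b1, b2, b3⟩ := A0.irr h sur ker ht fun q hq => c t q hq ht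
    obtain ⟨i, -, u⟩ := hone
    have v : ∀ j, j = i := fun j => u j (by
      obtain ⟨a, a1, a2⟩ := SetLike.exists_of_lt (hmono j)
      have aQ := (mono (Fin.le_last _)).trans hAr.le a1
      refine ⟨t, (mK t).2 ⟨_, ht⟩, a, a1, fun m => a2 ?_⟩
      have := mul_mem (inv_mem m) (hA0.ge.trans (mono (Fin.zero_le _)) (c t a aQ ht))
      rwa [show (t * a * t⁻¹ * a⁻¹)⁻¹ * (t * a * t⁻¹ * a) = a * a by group, ← inv_eq_sq_of_cube (hQexp a aQ),
        inv_mem_iff] at this)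
    have i0 := congrArg Fin.val (v ⟨0, i.pos⟩)
    have i1 := congrArg Fin.val (v ⟨r - 1, Nat.sub_one_lt i.pos.ne'⟩)
    obtain ⟨k, hk, b, hb, n⟩ := hmax i B (by rwa [show i.castSucc = 0 from Fin.ext i0.symm, hA0])
      (by rwa [show i.succ = Fin.last r from Fin.ext (by have := i.pos; simp at i1 ⊢; omega), hAr])
    obtain ⟨x, hx⟩ := (mK k).1 hk
    exact n (b3 k x hx b hb)
  · have c1 := h.syl S SC S.isPGroup'
    have c2 := card_le_of_le (inf_le_right : (S : Subgroup G) ⊓ Q ≤ Q)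
    rw [← (S : Subgroup G).card_mul_index] at d
    have := Nat.le_of_dvd Nat.card_pos ((Nat.Coprime.pow_left 7
      ((Nat.Prime.coprime_iff_not_dvd Nat.prime_three).2 S.not_dvd_index)).dvd_of_dvd_mul_right d)
    omega
  · obtain ⟨x, h1, h2⟩ := hZQ
    rw [MonoidHom.map_zpowers] at h1 h2
    refine ⟨x, h1 (mem_zpowers _), fun m => h2 (eq_of_le_of_card_ge (zpowers_le.2 m) ?_)⟩
    rw [h.cZ, card_zpowers_three (by simpa using z1) (by rw [← map_pow, z3, map_one])]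

end CL.O8
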