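/- S3372: the symplectic space `Q / Z` as a module for the centralizer of `z`. -/
import Mathlib
import Cfsg.Agent.PERM.O8.A1a

set_option autoImplicit false
set_option linter.unusedSectionVars false

namespace CL.O8.A1

open Subgroup CL.McL3 CL.Odd
open CL.L43 (S2 ES pow_val_inj exists_val)

universe u

variable {G : Type u} [Group G]

abbrev X2 := S2 × Multiplicative (ZMod 2)

/-- the module `U = Q / Z` and the involution `t` -/
structure Cx (Q : Subgroup G) (z : G) (π : cz z →* X2) {U : Type u} [AddCommGroup U] [Module F U] (p : G → U)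
    (φ : G → U →ₗ[F] U) (ω : U →ₗ[F] U →ₗ[F] F) (t : G) : Prop extends HC2 Q z π where
  pa : ∀ a ∈ Q, ∀ b ∈ Q, p (a * b) = p a + p b
  p0 : ∀ a ∈ Q, p a = 0 ↔ a ∈ zpowers z
  ps : ∀ u, ∃ a ∈ Q, p a = u
  pφ : ∀ g, g * z = z * g → ∀ a ∈ Q, φ g (p a) = p (g * a * g⁻¹)
  hω : ∀ a ∈ Q, ∀ b ∈ Q, a * b * a⁻¹ * b⁻¹ = z ^ (ω (p a) (p b)).val
  rt : Rel π t (-1, 1)
  tt : t * t = 1

theorem exists_cx {Q : Subgroup G} {z : G} {π : cz z →* X2} (h : HC2 Q z π) :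
    ∃ (U : Type u) (_ : AddCommGroup U) (_ : Module F U) (p : G → U) (φ : G → U →ₗ[F] U)
      (ω : U →ₗ[F] U →ₗ[F] F) (t : G), Cx Q z π p φ ω t := by
  obtain ⟨U, _, _, p, φ, ω, pa, p0, ps, pφ, hω⟩ := h.sympl
  obtain ⟨g, hg⟩ := h.sur (-1)
  refine ⟨U, _, ‹_›, p, φ, ω, g ^ 3, h, pa, p0, ps, fun g hg => pφ g (.of_comm hg), hω,
    (hg.pow 3).congr (by decide +kernel), ?_⟩
  rw [← (Commute.refl g).mul_pow, h.Q3 _ ((h.ker _).1 ((hg.mul hg).congr (by decide +kernel)))]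

theorem rz {z : G} {π : cz z →* X2} {g : G} {x : X2} (h : Rel π g x) : g * z = z * g := mem_cz'.1 h.mem

theorem cmul {z g k : G} (hg : g * z = z * g) (hk : k * z = z * k) : g * k * z = z * (g * k) :=
  Commute.mul_left hg hk

theorem cinv {z g : G} (hg : g * z = z * g) : g⁻¹ * z = z * g⁻¹ := Commute.inv_left hg

theorem cpow {z g : G} (hg : g * z = z * g) (n : ℕ) : g ^ n * z = z * g ^ n := Commute.pow_left hg n

theorem zc {z g c : G} (hg : g * z = z * g) (hc : c ∈ zpowers z) : g * c = c * g := by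
  obtain ⟨k, rfl⟩ := hc; exact (show Commute g z from hg).zpow_right k

namespace Cx

variable {Q : Subgroup G} {z : G} {π : cz z →* X2} {U : Type u} [AddCommGroup U] [Module F U] {p : G → U}
  {φ : G → U →ₗ[F] U} {ω : U →ₗ[F] U →ₗ[F] F} {t : G} (h : Cx Q z π p φ ω t)
include h

theorem ex_rel {g : G} (hg : g * z = z * g) : ∃ x e, Rel π g (x, e) :=
  let ⟨x, hx⟩ := rel_of_mem π (mem_cz'.2 hg); ⟨x.1, x.2, hx⟩

theorem nq {g q : G} (hg : g * z = z * g) (hq : q ∈ Q) : g * q * g⁻¹ ∈ Q := h.nQ g (.of_comm hg) q hq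

theorem mem_Q {a b : G} {x : X2} (ha : Rel π a x) (hb : Rel π b x) : a⁻¹ * b ∈ Q :=
  (h.ker _).1 ((ha.inv.mul hb).congr (inv_mul_cancel x))

theorem rq {q : G} (hq : q ∈ Q) : Rel π q 1 := (h.ker q).2 hq

theorem rmul {g q : G} {x : X2} (hg : Rel π g x) (hq : q ∈ Q) : Rel π (g * q) x :=
  (hg.mul (h.rq hq)).congr (mul_one x)

theorem p1 : p 1 = 0 := (h.p0 _ (one_mem _)).2 (one_mem _)

theorem pz (n : ℕ) : p (z ^ n) = 0 := (h.p0 _ (pow_mem h.zQ n)).2 (pow_mem (mem_zpowers z) n)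

theorem pi {a : G} (ha : a ∈ Q) : p a⁻¹ = -p a :=
  eq_neg_of_add_eq_zero_left (by rw [← h.pa _ (inv_mem ha) _ ha, inv_mul_cancel, h.p1])

theorem pk {a : G} (ha : a ∈ Q) (k : F) : p (a ^ k.val) = k • p a := by
  rw [← ZMod.natCast_zmod_val k, Nat.cast_smul_eq_nsmul, ZMod.natCast_zmod_val]
  induction k.val with
  | zero => simp [h.p1]
  | succ n ih => rw [pow_succ, h.pa _ (pow_mem ha n) _ ha, ih, succ_nsmul]

theorem eq_of_p {a b : G} (ha : a ∈ Q) (hb : b ∈ Q) (e : p a = p b) : ∃ k : F, a = b * z ^ k.val := by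
  obtain ⟨k, hk⟩ := exists_val h.z3 ((h.p0 _ (mul_mem (inv_mem hb) ha)).1 (by
    rw [h.pa _ (inv_mem hb) _ ha, h.pi hb, e, neg_add_cancel]))
  exact ⟨k, by rw [← hk, mul_inv_cancel_left]⟩

theorem φ_mul {g k : G} (hg : g * z = z * g) (hk : k * z = z * k) (u : U) : φ (g * k) u = φ g (φ k u) := by
  obtain ⟨a, ha, rfl⟩ := h.ps u
  rw [h.pφ _ (cmul hg hk) a ha, h.pφ k hk a ha, h.pφ g hg _ (h.nq hk ha)]
  congr 1; group

theorem φ_Q {q : G} (hq : q ∈ Q) (u : U) : φ q u = u := by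
  obtain ⟨a, ha, rfl⟩ := h.ps u
  have := h.pa _ (h.ZQ (h.Qc q hq a ha)) a ha
  rw [(h.p0 _ (h.ZQ (h.Qc q hq a ha))).2 (h.Qc q hq a ha), zero_add, inv_mul_cancel_right] at this
  rw [h.pφ q (h.Qz q hq) a ha, this]

theorem φ_one (u : U) : φ 1 u = u := h.φ_Q (one_mem _) u

theorem φ_eq {g k : G} {x : X2} (hg : Rel π g x) (hk : Rel π k x) (u : U) : φ g u = φ k u := by
  have := h.φ_mul (rz hg) (h.Qz _ (h.mem_Q hg hk)) u
  rw [mul_inv_cancel_left, h.φ_Q (h.mem_Q hg hk)] at this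
  exact this.symm

theorem φ_inv {g : G} (hg : g * z = z * g) (u : U) : φ g⁻¹ (φ g u) = u := by
  rw [← h.φ_mul (cinv hg) hg, inv_mul_cancel, h.φ_one]

theorem φ_inv' {g : G} (hg : g * z = z * g) (u : U) : φ g (φ g⁻¹ u) = u := by
  rw [← h.φ_mul hg (cinv hg), mul_inv_cancel, h.φ_one]

theorem φ_fix {g : G} (hg : g * z = z * g) {u : U} (e : φ g u = u) (n : ℕ) : φ (g ^ n) u = u := by
  induction n with
  | zero => rw [pow_zero, h.φ_one]
  | succ n ih => rw [pow_succ, h.φ_mul (cpow hg n) hg, e, ih]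

theorem ωφ {g : G} (hg : g * z = z * g) (u v : U) : ω (φ g u) (φ g v) = ω u v := by
  obtain ⟨a, ha, rfl⟩ := h.ps u
  obtain ⟨b, hb, rfl⟩ := h.ps v
  refine pow_val_inj h.z1 h.z3 ?_
  rw [h.pφ g hg a ha, h.pφ g hg b hb, ← h.hω _ (h.nq hg ha) _ (h.nq hg hb), ← h.hω a ha b hb]
  calc _ = g * (a * b * a⁻¹ * b⁻¹) * g⁻¹ := by group
    _ = _ := by rw [zc hg (h.Qc a ha b hb), mul_inv_cancel_right]

theorem comm_iff {a b : G} (ha : a ∈ Q) (hb : b ∈ Q) : a * b = b * a ↔ ω (p a) (p b) = 0 := by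
  rw [← mul_inv_eq_iff_eq_mul, ← mul_inv_eq_one, h.hω a ha b hb]
  exact ⟨fun e => pow_val_inj h.z1 h.z3 (by simpa using e), fun e => by simp [e]⟩

theorem conj_eq {a b : G} (ha : a ∈ Q) (hb : b ∈ Q) : a * b * a⁻¹ = b * z ^ (ω (p a) (p b)).val := by
  rw [zc (h.Qz b hb) (pow_mem (mem_zpowers z) _), ← h.hω a ha b hb, inv_mul_cancel_right]

theorem star {g q : G} (hg : g * z = z * g) (g4 : g ^ 4 = 1) (hq : q ∈ Q) (e : φ g (p q) = p q) :
    g * q = q * g := by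
  obtain ⟨k, hk⟩ := h.eq_of_p (h.nq hg hq) hq (by rw [← h.pφ g hg q hq, e])
  have c := zc hg (pow_mem (mem_zpowers z) k.val)
  have c3 : (z ^ k.val) ^ 3 = 1 := by rw [← pow_mul, mul_comm, pow_mul, h.z3, one_pow]
  generalize z ^ k.val = c' at hk c c3
  have : ∀ n : ℕ, g ^ n * q * (g ^ n)⁻¹ = q * c' ^ n := fun n => by
    induction n with
    | zero => simp
    | succ n ih =>
      calc _ = g * (g ^ n * q * (g ^ n)⁻¹) * g⁻¹ := by group
        _ = g * q * g⁻¹ * (g * c' ^ n * g⁻¹) := by rw [ih, conj_mul]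
        _ = _ := by rw [hk, ((show Commute g c' from c).pow_right n).eq]; group
  have h4 := this 4
  rw [g4, pow_succ, c3] at h4
  rw [show c' = 1 by simpa using h4.symm, mul_one] at hk
  exact mul_inv_eq_iff_eq_mul.1 hk

theorem star1 {g : G} (hg : g * z = z * g) (g4 : g ^ 4 = 1) (e : ∀ u, φ g u = u) : g = 1 := by
  have := h.Q3 g (h.ZQ (h.CQ g fun q hq => h.star hg g4 hq (e _)))
  rwa [pow_succ, this, one_mul] at g4

theorem tz : t * z = z * t := rz h.rt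

theorem t_inv : t⁻¹ = t := inv_eq_of_mul_eq_one_right h.tt

theorem t4 : t ^ 4 = 1 := by rw [show 4 = 2 * 2 from rfl, pow_mul, pow_two t, h.tt, one_pow]

theorem t1 : t ≠ 1 := fun e => absurd ((e ▸ h.rt).uniq Rel.one) (by decide +kernel)

theorem cT {g : G} (hg : g * z = z * g) (u : U) : φ t (φ g u) = φ g (φ t u) := by
  obtain ⟨x, e, hx⟩ := h.ex_rel hg
  rw [← h.φ_mul h.tz hg, ← h.φ_mul hg h.tz]
  exact h.φ_eq (h.rt.mul hx) ((hx.mul h.rt).congr (by simp)) u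

theorem lift {g : G} {x : X2} (hg : Rel π g x) : ∃ k, Rel π k x ∧ k * t = t * k := by
  obtain ⟨r, hr, e⟩ := exists_mul_comm (x := g) h.pQ h.tt ((h.ker _).1
    ((((hg.mul h.rt).mul hg.inv).mul h.rt.inv).congr (by ext <;> simp)))
  exact ⟨r * g, ((h.rq hr).mul hg).congr (one_mul x), e⟩

theorem lift_neg {u : U} (hu : φ t u = -u) : ∃ a ∈ Q, p a = u ∧ t * a * t⁻¹ = a⁻¹ := by
  obtain ⟨a, ha, rfl⟩ := h.ps u
  refine ⟨t * a * t⁻¹ * a⁻¹, mul_mem (h.nq h.tz ha) (inv_mem ha), ?_, ?_⟩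
  · rw [h.pa _ (h.nq h.tz ha) _ (inv_mem ha), ← h.pφ t h.tz a ha, hu, h.pi ha]
    linear_combination (norm := module) -three (p a)
  · calc _ = t * t * a * (t * t)⁻¹ * (t * a⁻¹ * t⁻¹) := by group
      _ = _ := by rw [h.tt]; group

theorem pos_of {q : G} (hq : q ∈ Q) (e : q * t = t * q) : φ t (p q) = p q := by
  rw [h.pφ t h.tz q hq, ← e, mul_inv_cancel_right]

variable [Finite G]

theorem la : LA ω (φ t) := by
  refine ⟨fun u => ?_, fun u e => ?_, ?_, fun u => by rw [← h.φ_mul h.tz h.tz, h.tt, h.φ_one], h.ωφ h.tz, ?_, ?_⟩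
  · obtain ⟨a, ha, rfl⟩ := h.ps u
    exact (h.comm_iff ha ha).1 rfl
  · obtain ⟨a, ha, rfl⟩ := h.ps u
    exact (h.p0 a ha).2 (h.CQ a fun q hq => (h.comm_iff ha hq).2 (e _))
  · let f : Q →* Multiplicative U := MonoidHom.mk' (fun a => .ofAdd (p a)) fun a b => congrArg _ (h.pa a a.2 b b.2)
    have k1 : f.ker = (zpowers z).subgroupOf Q := by
      ext a; exact h.p0 a a.2
    have k2 : f.range = ⊤ := MonoidHom.range_eq_top.2 fun u => by
      obtain ⟨a, ha, e⟩ := h.ps u.toAdd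
      exact ⟨⟨a, ha⟩, congrArg Multiplicative.ofAdd e⟩
    have := f.ker.card_mul_index
    rw [index_ker, k2, k1, Nat.card_congr (subgroupOfEquivOfLe h.ZQ).toEquiv, h.cZ, h.cQ, card_top] at this
    have e : Nat.card (Multiplicative U) = Nat.card U := rfl
    omega
  · by_contra! c
    exact h.t1 (h.star1 h.tz h.t4 c)
  · obtain ⟨g, q, hq, hg, e⟩ := h.nneg
    refine ⟨p q, fun c => e ((h.p0 _ (mul_mem (h.nq (rz hg) hq) hq)).1 ?_)⟩
    rw [h.pa _ (h.nq (rz hg) hq) _ hq, ← h.pφ g (rz hg) q hq, h.φ_eq hg h.rt, c, neg_add_cancel]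

theorem S3 {s : G} (hs : s * z = z * s) (s3 : s ^ 3 = 1) (u : U) : φ s (φ s (φ s u)) = u := by
  rw [← h.φ_mul hs hs, ← h.φ_mul (cmul hs hs) hs, ← pow_three', s3, h.φ_one]

theorem exists_sw {k : G} (hz : k * z * k⁻¹ ∈ Q) (hn : k * z * k⁻¹ ∉ zpowers z) :
    ∃ s ∈ Q.map (MulAut.conj k : G →* G), ∃ w ∈ Q ⊓ Q.map (MulAut.conj k : G →* G), s * z = z * s ∧ s ∉ Q ∧
      ∃ m n, φ t m = -m ∧ φ t n = n ∧ p w = m + n ∧ φ s (m + n) - (m + n) = p (k * z * k⁻¹) ∧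
        ω m (φ s m - m) = 1 ∧ ω n (φ s n - n) = -1 := by
  have h' : ES _ (k * z * k⁻¹) := h.toES.map (MulAut.conj k)
  generalize k * z * k⁻¹ = y at *
  generalize Q.map (MulAut.conj k : G →* G) = Q' at *
  obtain ⟨s, sQ, sz, sn⟩ := h.exists_s h' hz hn
  obtain ⟨w, hw, e⟩ : ∃ w ∈ Q ⊓ Q', φ s (p w) - p w = p y := by
    obtain ⟨w, hw, e⟩ : ∃ w ∈ Q ⊓ Q', s * w ≠ w * s := by
      by_contra! c
      exact sn (h'.max_ab inf_le_right (h.toES.inf_comm h' hn) (h.card_inf h' hz hn) sQ c).1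
    have e1 : p (s * w * s⁻¹ * w⁻¹) = φ s (p w) - p w := by
      rw [h.pa _ (h.nq sz hw.1) _ (inv_mem hw.1), h.pi hw.1, h.pφ s sz w hw.1, sub_eq_add_neg]
    rcases (mem_zpowers_three h'.z3).1 (h'.Qc s sQ w hw.2) with a | a | a
    · exact absurd (mul_inv_eq_iff_eq_mul.1 (mul_inv_eq_one.1 a)) e
    · exact ⟨w, hw, by rw [← e1, a]⟩
    · exact ⟨w⁻¹, inv_mem hw, by rw [h.pi hw.1, map_neg, ← neg_sub', ← e1, a, h.pi hz, neg_neg]⟩
  obtain ⟨m, n, hm, hn', e1⟩ := h.la.dec (p w)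
  have s3 := h.S3 sz (h'.Q3 s sQ)
  rw [e1] at e
  obtain ⟨a1, a2⟩ := h.la.both (h.cT sz) (h.ωφ sz) s3 hm hn'
    (by rw [e, ← e1]; exact (h.comm_iff hw.1 hz).1 (h'.Qz w hw.2))
    (fun c => hn ((h.p0 y hz).1 (by rw [← e, c, sub_self])))
  rcases (by decide : ∀ a : F, a ≠ 0 → a = 1 ∨ a = -1) _ a1 with a | a
  · exact ⟨s, sQ, w, hw, sz, sn, m, n, hm, hn', e1, e, a, by rw [a2, a]⟩
  · have b1 : φ s⁻¹ (-m) - -m = φ s m - m := by
      have := congrArg (φ s⁻¹) (h.la.nil (h.cT sz) (h.ωφ sz) s3 hm)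
      rw [h.φ_inv sz, map_sub, h.φ_inv sz] at this
      rw [map_neg, this]; abel
    have b2 : φ s⁻¹ (-n) - -n = φ s n - n := by
      have := congrArg (φ s⁻¹) (h.la.neg.nil (S := φ s) (by simp [h.cT sz]) (h.ωφ sz) s3 (u := n) (by simpa using hn'))
      rw [h.φ_inv sz, map_sub, h.φ_inv sz] at this
      rw [map_neg, this]; abel
    refine ⟨s⁻¹, inv_mem sQ, w⁻¹, inv_mem hw, cinv sz, fun c => sn (inv_mem_iff.1 c), -m, -n, by simp [hm],
      by simp [hn'], by rw [h.pi hw.1, e1, neg_add], ?_, by rw [b1, map_neg, LinearMap.neg_apply, a, neg_neg],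
      by rw [b2, map_neg, LinearMap.neg_apply, a2, a, neg_neg]⟩
    rw [← e, map_add, map_add]
    linear_combination (norm := module) b1 + b2

theorem both {k : G} (hz : k * z * k⁻¹ ∈ Q) (hn : k * z * k⁻¹ ∉ zpowers z) :
    φ t (p (k * z * k⁻¹)) ≠ p (k * z * k⁻¹) ∧ φ t (p (k * z * k⁻¹)) ≠ -p (k * z * k⁻¹) := by
  obtain ⟨s, -, w, -, sz, -, m, n, hm, hn, -, e, a, b⟩ := h.exists_sw hz hn
  rw [← e]
  simp only [map_add, map_sub, h.cT sz, hm, hn, map_neg]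
  refine ⟨fun c => ?_, fun c => ?_⟩
  · rw [eq_zero_of_neg (u := φ s m - m) (by linear_combination (norm := module) c), map_zero] at a
    exact zero_ne_one a
  · rw [eq_zero_of_neg (u := φ s n - n) (by linear_combination (norm := module) -c), map_zero] at b
    exact absurd b (by decide)

end Cx

end CL.O8.A1
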