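/- S3372: generators of the Thompson subgroup and of the quaternion group. -/
import Mathlib
import Cfsg.Agent.PERM.O8.A1b

set_option autoImplicit false
set_option linter.unusedSectionVars false

namespace CL.O8.A1

open Subgroup CL.McL3 CL.Odd
open CL.L43 (S2 ES pow_val_inj exists_val)

universe u

variable {G : Type u} [Group G]

/-- lifts of a symplectic basis -/
structure Bs (Q : Subgroup G) (z : G) (π : cz z →* X2) {U : Type u} [AddCommGroup U] [Module F U] (p : G → U)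
    (φ : G → U →ₗ[F] U) (ω : U →ₗ[F] U →ₗ[F] F) (t a a' b b' : G) : Prop extends Cx Q z π p φ ω t where
  aQ : a ∈ Q
  a'Q : a' ∈ Q
  bQ : b ∈ Q
  b'Q : b' ∈ Q
  ta : t * a * t⁻¹ = a⁻¹
  ta' : t * a' * t⁻¹ = a'⁻¹
  Tb : φ t (p b) = p b
  Tb' : φ t (p b') = p b'
  ωa : ω (p a') (p a) = 1
  ωb : ω (p b') (p b) = -1

/-- generators `a, w, b, z` of the Thompson subgroup -/
structure Fm (Q : Subgroup G) (z : G) (π : cz z →* X2) {U : Type u} [AddCommGroup U] [Module F U] (p : G → U)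
    (φ : G → U →ₗ[F] U) (ω : U →ₗ[F] U →ₗ[F] F) (t a a' b b' w : G) (σ : S2) : Prop
    extends Bs Q z π p φ ω t a a' b b' where
  Na : φ w (p a') - p a' = p a
  Nb : φ w (p b') - p b' = p b
  rσ : Rel π w (σ, 1)
  σ3 : σ ^ 3 = 1
  σ1 : σ ≠ 1
  w3 : w ^ 3 = 1
  wt : w * t = t * w
  wa : w * a = a * w
  wb : w * b = b * w
  wb' : w * b' * w⁻¹ = b * b'
  exk : ∃ k s, k * z * k⁻¹ ∈ Q ∧ k * z * k⁻¹ ∉ zpowers z ∧ p (k * z * k⁻¹) = p a + p b ∧ k⁻¹ * z * k ∈ Q ∧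
    k⁻¹ * s * k ∈ Q ∧ Rel π s (σ, 1) ∧ s * a = a * s ∧ s * b = b * s

/-- the quaternion group -/
structure Fq (Q : Subgroup G) (z : G) (π : cz z →* X2) {U : Type u} [AddCommGroup U] [Module F U] (p : G → U)
    (φ : G → U →ₗ[F] U) (ω : U →ₗ[F] U →ₗ[F] F) (t a a' b b' w : G) (σ : S2) (ψ : Q8 →* G) (ψ₀ : Q8 →* S2) : Prop
    extends Fm Q z π p φ ω t a a' b b' w σ where
  rψ : ∀ x, Rel π (ψ x) (ψ₀ x, 1)
  ψt : ψ (.a 2) = t
  pos : ∀ x u, φ t u = u → φ (ψ x) u = u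
  ψd : ∀ x, w * ψ x * w⁻¹ = ψ (al x)
  gen : ∀ g : S2, ∃ x, ∃ m : Fin 3, g = ψ₀ x * σ ^ m.val
  gen4 : ∀ g : S2, g ^ 4 = 1 → ∃ x, g = ψ₀ x

variable {Q : Subgroup G} {z : G} {π : cz z →* X2} {U : Type u} [AddCommGroup U] [Module F U] {p : G → U}
  {φ : G → U →ₗ[F] U} {ω : U →ₗ[F] U →ₗ[F] F} {t a a' b b' w : G} {σ : S2}

theorem Cx.adj (h : Cx Q z π p φ ω t) {g q q' r : G} (hg : g * z = z * g) (hq : q ∈ Q) (hq' : q' ∈ Q)
    (hr : r ∈ Q) (e : φ g (p q) = p q') (e' : ω (p r) (p q) = 1) :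
    ∃ k : F, g * r ^ k.val * q * (g * r ^ k.val)⁻¹ = q' := by
  obtain ⟨k, hk⟩ := h.eq_of_p (h.nq hg hq) hq' (by rw [← h.pφ g hg q hq, e])
  have := h.conj_eq (pow_mem hr (-k).val) hq
  rw [h.pk hr, map_smul, LinearMap.smul_apply, e', smul_eq_mul, mul_one] at this
  refine ⟨-k, ?_⟩
  calc _ = g * (r ^ (-k).val * q * (r ^ (-k).val)⁻¹) * g⁻¹ := by group
    _ = g * q * g⁻¹ * (g * z ^ (-k).val * g⁻¹) := by rw [this, conj_mul]
    _ = _ := by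
      rw [hk, zc hg (pow_mem (mem_zpowers z) _), mul_inv_cancel_right, mul_assoc, ← pow_val_add h.z3]; simp

theorem Cx.uniq (h : Cx Q z π p φ ω t) {g g' : G} {x : X2} (r : Rel π g x) (r' : Rel π g' x) (g4 : g ^ 4 = 1)
    (g4' : g' ^ 4 = 1) (c : g * t = t * g) (c' : g' * t = t * g') (e : ∀ u, φ t u = u → φ g u = u) : g = g' := by
  have q := h.mem_Q r r'
  have := (show Commute g _ from h.star (rz r) g4 q (e _ (h.pos_of q
    ((show Commute g t from c).inv_left.mul_left c')))).mul_pow 4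
  rw [mul_inv_cancel_left, g4, g4', pow_succ, h.Q3 _ q, one_mul, one_mul] at this
  exact inv_mul_eq_one.1 this.symm

variable [Finite G]

namespace Bs

variable (h : Bs Q z π p φ ω t a a' b b')
include h

theorem Ta : φ t (p a) = -p a := by rw [h.pφ t h.tz a h.aQ, h.ta, h.pi h.aQ]

theorem Ta' : φ t (p a') = -p a' := by rw [h.pφ t h.tz a' h.a'Q, h.ta', h.pi h.a'Q]

theorem ab : a * b = b * a := (h.comm_iff h.aQ h.bQ).2 (h.la.orth h.Ta h.Tb)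

theorem bt : b * t = t * b := (h.star h.tz h.t4 h.bQ h.Tb).symm

theorem mem_B {q : G} (hq : q ∈ Q) (ha : q * a = a * q) (hb : q * b = b * q) :
    ∃ x y k : F, q = a ^ x.val * b ^ y.val * z ^ k.val := by
  obtain ⟨x', x, y', y, e⟩ := h.la.span h.Ta' h.Ta h.Tb' h.Tb (by simp [h.ωa]) (by simp [h.ωb]) (p q)
  rw [h.comm_iff hq h.aQ, e] at ha
  rw [h.comm_iff hq h.bQ, e] at hb
  simp only [map_add, map_smul, LinearMap.add_apply, LinearMap.smul_apply, h.ωa, h.ωb, h.la.alt,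
    h.la.orth h.Ta h.Tb, h.la.orth h.Ta' h.Tb, h.la.orth' h.Ta h.Tb, h.la.orth' h.Ta h.Tb', smul_eq_mul,
    mul_zero, add_zero, zero_add, mul_one, mul_neg, neg_eq_zero] at ha hb
  obtain ⟨k, hk⟩ := h.eq_of_p hq (mul_mem (pow_mem h.aQ x.val) (pow_mem h.bQ y.val)) (by
    rw [h.pa _ (pow_mem h.aQ _) _ (pow_mem h.bQ _), h.pk h.aQ, h.pk h.bQ, e, ha, hb]; simp)
  exact ⟨x, y, k, hk⟩

end Bs

theorem Cx.exists_fm (h : Cx Q z π p φ ω t) : ∃ a a' b b' w σ, Fm Q z π p φ ω t a a' b b' w σ := by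
  obtain ⟨k, hz, hn⟩ := h.ex
  obtain ⟨s, sQ, w, hw, sz, sn, m, n, hm, hn', pw, e, ωm, ωn⟩ := h.exists_sw hz hn
  have h' : ES _ (k * z * k⁻¹) := h.toES.map (MulAut.conj k)
  have mQ : ∀ x ∈ Q.map (MulAut.conj k : G →* G), k⁻¹ * x * k ∈ Q := by
    rintro _ ⟨x, hx, rfl⟩; simpa [mul_assoc] using hx
  obtain ⟨a', a'Q, pa', ta'⟩ := h.lift_neg hm
  obtain ⟨a, aQ, pa, ta⟩ := h.lift_neg (u := φ s m - m) (by simp [h.cT sz, hm]; abel)
  obtain ⟨b', b'Q, pb'⟩ := h.ps n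
  obtain ⟨b, bQ, pb⟩ := h.ps (φ s n - n)
  have B : Bs Q z π p φ ω t a a' b b' := ⟨h, aQ, a'Q, bQ, b'Q, ta, ta', by simp [pb, h.cT sz, hn'],
    by rw [pb', hn'], by rw [pa', pa, ωm], by rw [pb', pb, ωn]⟩
  obtain ⟨σ, ε, rs⟩ := h.ex_rel sz
  have s3 := rs.pow_eq_one (h'.Q3 s sQ)
  obtain rfl : ε = 1 := (by decide : ∀ ε : Multiplicative (ZMod 2), ε ^ 3 = 1 → ε = 1) ε (congrArg Prod.snd s3)
  obtain ⟨j, hj⟩ := h.adj sz aQ aQ hw.1 (pa ▸ h.la.nil (h.cT sz) (h.ωφ sz) (h.S3 sz (h'.Q3 s sQ)) hm)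
    (by rw [pw, map_add, LinearMap.add_apply, h.la.orth' B.Ta hn', pa, ωm, add_zero])
  have s'Q := mul_mem sQ (pow_mem hw.2 j.val)
  have rs' := h.rmul rs (pow_mem hw.1 j.val)
  generalize s * w ^ j.val = s' at hj s'Q rs'
  have py : p (k * z * k⁻¹) = p a + p b := by rw [← e, pa, pb, map_add]; abel
  obtain ⟨l, hl⟩ := h.eq_of_p hz (mul_mem aQ bQ) (by rw [py, h.pa a aQ b bQ])
  have ca : Commute s' a := mul_inv_eq_iff_eq_mul.1 hj
  have cb : Commute s' b := by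
    have := (ca.inv_right.mul_right (h'.Qz s' s'Q)).mul_right ((show Commute s' z from rz rs').pow_right l.val).inv_right
    rwa [hl, show a⁻¹ * (a * b * z ^ l.val) * (z ^ l.val)⁻¹ = b by group] at this
  have ct : ∀ {x y : G}, Commute s' x → Commute s' y → t * y * t⁻¹ = x → s' * t * s'⁻¹ * t⁻¹ ∈ cz x :=
    fun {x y} c1 c2 e => by
      have := c1.mul_left (e ▸ c2.inv_left.conj t)
      exact mem_cz'.2 (by simpa only [mul_assoc] using this.eq)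
  obtain ⟨r, ⟨⟨rQ, ra⟩, rb⟩, rt⟩ := exists_mul_comm (P := Q ⊓ cz a ⊓ cz b) (x := s')
    (h.pQ.to_le (inf_le_left.trans inf_le_left)) h.tt ⟨⟨(h.ker _).1
      ((((rs'.mul h.rt).mul rs'.inv).mul h.rt.inv).congr (by ext <;> simp)),
      ct ca ca.inv_right (by rw [← conj_inv, ta, inv_inv])⟩, ct cb cb (by rw [← B.bt, mul_inv_cancel_right])⟩
  have cr : Commute s' r := by
    obtain ⟨x, y, k', rfl⟩ := B.mem_B rQ (mem_cz'.1 ra) (mem_cz'.1 rb)
    exact ((ca.pow_right _).mul_right (cb.pow_right _)).mul_right ((show Commute s' z from rz rs').pow_right _)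
  have r1 : Rel π (r * s') (σ, 1) := ((h.rq rQ).mul rs').congr (one_mul _)
  have c1 : Commute (r * s') a := Commute.mul_left (mem_cz'.1 ra) ca
  have c2 : Commute (r * s') b := Commute.mul_left (mem_cz'.1 rb) cb
  have c3 : (r * s') ^ 3 = 1 := by rw [cr.symm.mul_pow, h.Q3 r rQ, h'.Q3 s' s'Q, one_mul]
  generalize r * s' = v at rt r1 c1 c2 c3
  obtain ⟨i, hi⟩ := h.adj (rz r1) b'Q (mul_mem bQ b'Q) bQ
    (by rw [h.φ_eq r1 rs, h.pa b bQ b' b'Q, pb, pb', sub_add_cancel]) (by rw [h.la.an, B.ωb, neg_neg])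
  have r2 := h.rmul r1 (pow_mem bQ i.val)
  exact ⟨a, a', b, b', _, σ, B, by rw [h.φ_eq r2 rs, pa', pa], by rw [h.φ_eq r2 rs, pb', pb], r2,
    congrArg Prod.fst s3, fun c => sn ((h.ker s).1 (rs.congr (Prod.ext c rfl))),
    by rw [(c2.pow_right _).mul_pow, c3, h.Q3 _ (pow_mem bQ _), one_mul],
    Commute.mul_left rt ((show Commute b t from B.bt).pow_left _),
    c1.mul_left ((show Commute a b from B.ab).symm.pow_left _), c2.mul_left ((Commute.refl b).pow_left _), hi,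
    k, s', hz, hn, py, mQ z (h.symm_mem h' hz), mQ s' s'Q, rs', ca, cb⟩

theorem Fm.exists_fq (h : Fm Q z π p φ ω t a a' b b' w σ) : ∃ ψ ψ₀, Fq Q z π p φ ω t a a' b b' w σ ψ ψ₀ := by
  obtain ⟨ι, ι2, e1, e2⟩ := s_ex σ h.σ3 h.σ1
  obtain ⟨g1, g2⟩ := s_gen σ h.σ3 h.σ1 ι ι2
  have ι4 : ι ^ 4 = 1 := by rw [show 4 = 2 * 2 from rfl, pow_mul, pow_two ι, ι2, neg_one_sq]
  obtain ⟨i, ri, i4, it⟩ : ∃ i, Rel π i (ι, 1) ∧ i ^ 4 = 1 ∧ Commute i t := by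
    obtain ⟨g, hg⟩ := h.sur ι
    obtain ⟨i, ri, it⟩ := h.lift hg
    refine ⟨i ^ 9, (ri.pow 9).congr (Prod.ext ?_ (one_pow 9)), ?_, Commute.pow_left it 9⟩
    · show ι ^ (4 * 2 + 1) = ι
      rw [pow_succ, pow_mul, ι4, one_pow, one_mul]
    · rw [← pow_mul, show 9 * 4 = 4 * 3 * 3 from rfl, pow_mul, pow_mul,
        h.Q3 _ ((h.ker _).1 ((ri.pow 4).congr (Prod.ext ι4 (one_pow 4)))), one_pow]
  have ii : t = i * i := h.uniq h.rt ((ri.mul ri).congr (Prod.ext ι2 rfl)) h.t4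
    (by rw [(Commute.refl i).mul_pow, i4, one_mul]) rfl (it.mul_left it) fun u e => e
  have wz := rz h.rσ
  have cj : ∀ {g : G} {x : S2}, Rel π g (x, 1) → Rel π (w * g * w⁻¹) (σ * x * σ⁻¹, 1) := fun r =>
    ((h.rσ.mul r).mul h.rσ.inv).congr (Prod.ext rfl (by simp))
  have cw : ∀ {g : G}, Commute g t → Commute (w * g * w⁻¹) t := fun c =>
    (Commute.mul_left h.wt c).mul_left (Commute.inv_left h.wt)
  have sg : ∀ {g : G} (c : F), g * z = z * g → (∀ u, φ t u = u → φ g u = c • u) →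
      ∀ u, φ t u = u → φ (w * g * w⁻¹) u = c • u := fun c hg e u hu => by
    rw [h.φ_mul (cmul wz hg) (cinv wz), h.φ_mul wz hg, e _ (by rw [h.cT (cinv wz), hu]), map_smul, h.φ_inv' wz]
  have rj := cj ri
  have pi : ∀ u, φ t u = u → φ i u = u := by
    rcases h.la.neg.sign (I := φ i) (by simp [h.cT (rz ri)]) (h.ωφ (rz ri))
      (fun u e => by rw [← h.φ_mul (rz ri) (rz ri), ← ii]; simpa using e) with c | c
    · exact fun u e => c u (by simp [e])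
    · intro u e
      have c1 : ∀ u, φ t u = u → φ i u = (-1 : F) • u := fun u e => by rw [c u (by simp [e]), neg_one_smul]
      have c2 := sg _ (rz ri) c1
      have c3 := sg _ (rz rj) c2 u e
      rw [h.φ_eq (cj rj) ((ri.mul rj).congr (Prod.ext e1.symm rfl)), h.φ_mul (rz ri) (rz rj), c2 u e, map_smul,
        c1 u e, neg_one_smul, neg_one_smul] at c3
      rw [eq_zero_of_neg (neg_inj.1 c3), map_zero]
  have pj : ∀ u, φ t u = u → φ (w * i * w⁻¹) u = u := by simpa using sg 1 (rz ri) (by simpa using pi)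
  have jt := cw it
  obtain ⟨ψ, ψi, ψj⟩ := exists_q8 (i := i) (j := w * i * w⁻¹) i4
    (by rw [conj_mul, ← ii, h.wt, mul_inv_cancel_right]) (by
      rw [h.uniq ri.inv (((rj.inv.mul ri).mul rj).congr (Prod.ext (show _⁻¹ * ι * _ = ι⁻¹ by
        rw [mul_assoc, e2, inv_mul_cancel_left]) (by simp))) (by rw [inv_pow, i4, inv_one])
        (by generalize w * i * w⁻¹ = j; simpa [i4] using conj_pow (a := j⁻¹) (b := i) (i := 4)) it.inv_left
        ((jt.inv_left.mul_left it).mul_left jt) fun u e => by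
          conv_lhs => rw [← pi u e, h.φ_inv (rz ri)]]
      group)
  obtain ⟨ψ₀, ψ₀i, ψ₀j⟩ := exists_q8 (i := ι) (j := σ * ι * σ⁻¹) ι4 (by rw [conj_mul, ι2]; simp) e2
  have rψ : ∀ x, Rel π (ψ x) (ψ₀ x, 1) := fun x => by
    obtain ⟨m, n, rfl⟩ := q_gen x
    simp only [map_mul, map_pow, ψi, ψj, ψ₀i, ψ₀j]
    exact ((rj.pow _).mul (ri.pow _)).congr (Prod.ext rfl (by simp))
  have pos : ∀ x u, φ t u = u → φ (ψ x) u = u := fun x u e => by
    obtain ⟨m, n, rfl⟩ := q_gen x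
    simp only [map_mul, map_pow, ψi, ψj]
    rw [h.φ_mul (cpow (rz rj) _) (cpow (rz ri) _), h.φ_fix (rz ri) (pi u e), h.φ_fix (rz rj) (pj u e)]
  have ek : ψ (.xa 3) = i * (w * i * w⁻¹) := by rw [← ψj, ← ψi, ← map_mul]; rfl
  refine ⟨ψ, ψ₀, h, rψ, by rw [ii, ← ψi, ← map_mul]; rfl, pos, fun x => ?_, fun g => ?_, fun g hg => ?_⟩
  · have := h.uniq (rψ (.xa 3)) ((cj rj).congr (Prod.ext (by
      rw [e1, ← ψ₀j, ← ψ₀i, ← map_mul]; rfl) rfl)) (by rw [← map_pow]; exact map_one ψ)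
      (by rw [conj_pow, conj_pow, i4]; simp) (ek ▸ it.mul_left jt) (cw jt) (pos _)
    obtain ⟨m, n, rfl⟩ := q_gen x
    show _ = ψ (MonoidHom.mk' al al_mul _)
    simp only [map_mul, map_pow, ψi, ψj]
    rw [← conj_mul, ← conj_pow, ← conj_pow (b := i), ← this, ← ψj]; rfl
  · obtain ⟨m, n, k, rfl⟩ := g1 g
    exact ⟨.xa 0 ^ n.val * .a 1 ^ m.val, k, by rw [map_mul, map_pow, map_pow, ψ₀i, ψ₀j]⟩
  · obtain ⟨m, n, rfl⟩ := g2 g hg
    exact ⟨.xa 0 ^ n.val * .a 1 ^ m.val, by rw [map_mul, map_pow, map_pow, ψ₀i, ψ₀j]⟩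

end CL.O8.A1
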