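/- S3372: coordinates on the centralizer of z. -/
import Mathlib
import Cfsg.Agent.PERM.O8.A1c

set_option autoImplicit false
set_option linter.unusedSectionVars false
set_option synthInstance.maxSize 4096

namespace CL.O8.A1

open Subgroup CL.McL3 CL.Odd
open CL.L43 (S2 ES pow_val_inj exists_val)

universe u

variable {G : Type u} [Group G]

/-- the coordinates on the Thompson subgroup -/
def co (a w b z : G) (v : V) : G :=
  a ^ v.1.val * w ^ (dot v zv).val * b ^ (v.2.2.2 - v.2.2.1).val * z ^ v.2.2.2.val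

theorem v_dec : ∀ v : V, v = v.1 • f0 + dot v zv • d1 + (v.2.2.2 - v.2.2.1) • a0 + v.2.2.2 • zv := by
  decide +kernel

theorem v_ex : ∀ x m y k : F, ∃ v : V, v.1 = x ∧ dot v zv = m ∧ v.2.2.2 - v.2.2.1 = y ∧ v.2.2.2 = k := by
  decide +kernel

theorem v_iso : ∀ v : V, dot v zv = 0 → (v.1 = 0 ↔ v.2.2.2 - v.2.2.1 = 0) → dot v v = 0 := by decide +kernel

theorem e_two : ∀ e e' : Multiplicative (ZMod 2), e ≠ 1 → e' ≠ 1 → e⁻¹ * e' = 1 := by decide

theorem co_f0 (a w b z : G) : co a w b z f0 = a := by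
  show a ^ 1 * w ^ 0 * b ^ 0 * z ^ 0 = a; simp

theorem co_d1 (a w b z : G) : co a w b z d1 = w := by
  show a ^ 0 * w ^ 1 * b ^ 0 * z ^ 0 = w; simp

theorem co_a0 (a w b z : G) : co a w b z a0 = b := by
  show a ^ 0 * w ^ 0 * b ^ 1 * z ^ 0 = b; simp

theorem co_zv (a w b z : G) : co a w b z zv = z := by
  show a ^ 0 * w ^ 0 * b ^ 0 * z ^ 1 = z; simp

variable {Q : Subgroup G} {z : G} {π : cz z →* X2} {U : Type u} [AddCommGroup U] [Module F U] {p : G → U}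
  {φ : G → U →ₗ[F] U} {ω : U →ₗ[F] U →ₗ[F] F} {t a a' b b' w : G} {σ : S2} {ψ : Q8 →* G} {ψ₀ : Q8 →* S2}
  [Finite G]

namespace Fq

variable (h : Fq Q z π p φ ω t a a' b b' w σ ψ ψ₀)
include h

theorem wz : w * z = z * w := rz h.rσ

theorem co_add (u v : V) : co a w b z (u + v) = co a w b z u * co a w b z v := by
  have c1 : Commute w a := h.wa
  have c2 : Commute b a := h.ab.symm
  have c3 : Commute z a := (h.Qz a h.aQ).symm
  have c4 : Commute b w := h.wb.symm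
  have c5 : Commute z w := h.wz.symm
  have c6 : Commute z b := (h.Qz b h.bQ).symm
  rw [co, show dot (u + v) zv = dot u zv + dot v zv by simp only [dot, Prod.fst_add, Prod.snd_add]; ring,
    Prod.fst_add, Prod.snd_add, Prod.snd_add, Prod.snd_add, Prod.fst_add, add_sub_add_comm, pow_val_add h.w3,
    pow_val_add h.z3, pow_val_add (h.Q3 a h.aQ), pow_val_add (h.Q3 b h.bQ), co, co,
    (((c3.pow_pow _ _).mul_right (c5.pow_pow _ _)).mul_right (c6.pow_pow _ _)).mul_mul_mul_comm,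
    ((c2.pow_pow _ _).mul_right (c4.pow_pow _ _)).mul_mul_mul_comm, (c1.pow_pow _ _).mul_mul_mul_comm]

theorem co_zero : co a w b z 0 = 1 := by simpa using h.co_add 0 0

theorem co_neg (v : V) : co a w b z (-v) = (co a w b z v)⁻¹ :=
  eq_inv_of_mul_eq_one_left (by rw [← h.co_add, neg_add_cancel, h.co_zero])

theorem co_smul (k : F) (v : V) : co a w b z (k • v) = co a w b z v ^ k.val := by
  rw [← ZMod.natCast_zmod_val k, Nat.cast_smul_eq_nsmul, ZMod.natCast_zmod_val]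
  induction k.val with
  | zero => simp [h.co_zero]
  | succ n ih => rw [pow_succ, succ_nsmul, h.co_add, ih]

theorem co_comm (u v : V) : co a w b z u * co a w b z v = co a w b z v * co a w b z u := by
  rw [← h.co_add, ← h.co_add, add_comm]

theorem rco (v : V) : Rel π (co a w b z v) (σ ^ (dot v zv).val, 1) :=
  h.rmul (h.rmul (((h.rq (pow_mem h.aQ _)).mul (h.rσ.pow _)).congr (by simp)) (pow_mem h.bQ _)) (pow_mem h.zQ _)

theorem coQ (v : V) : co a w b z v ∈ Q ↔ dot v zv = 0 :=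
  ⟨fun e => s_pow σ h.σ3 h.σ1 _ (congrArg Prod.fst ((h.rco v).uniq (h.rq e))),
    fun e => (h.ker _).1 ((h.rco v).congr (by rw [e]; rfl))⟩

theorem p_co {v : V} (e : dot v zv = 0) : p (co a w b z v) = v.1 • p a + (v.2.2.2 - v.2.2.1) • p b := by
  have k := mul_mem (pow_mem h.aQ v.1.val) (pow_mem h.bQ (v.2.2.2 - v.2.2.1).val)
  rw [co, e, ZMod.val_zero, pow_zero, mul_one, h.pa _ k _ (pow_mem h.zQ _), h.pz, add_zero,
    h.pa _ (pow_mem h.aQ _) _ (pow_mem h.bQ _), h.pk h.aQ, h.pk h.bQ]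

theorem ind {x y : F} (e : x • p a + y • p b = 0) : x = 0 ∧ y = 0 := by
  have e1 := congrArg (ω (p a')) e
  have e2 := congrArg (ω (p b')) e
  simpa [h.ωa, h.ωb, h.la.orth h.Ta' h.Tb, h.la.orth' h.Ta h.Tb'] using And.intro e1 e2

theorem pa0 : -p a ≠ p a := fun e => one_ne_zero (h.ind (x := 1) (y := 0) (by simp [eq_zero_of_neg e])).1

theorem pb0 : -p b ≠ p b := fun e => one_ne_zero (h.ind (x := 0) (y := 1) (by simp [eq_zero_of_neg e])).2

theorem co_inj : Function.Injective (co a w b z) := fun u v e => by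
  have e1 : co a w b z (u - v) = 1 := by rw [sub_eq_add_neg, h.co_add, h.co_neg, e, mul_inv_cancel]
  rw [← sub_eq_zero]
  generalize u - v = x at e1
  have e2 := (h.coQ x).1 (e1 ▸ one_mem _)
  obtain ⟨e3, e4⟩ := h.ind (by rw [← h.p_co e2, e1, h.p1])
  rw [co, e2, e3, e4] at e1
  rw [v_dec x, e2, e3, e4, pow_val_inj h.z1 h.z3 (i := x.2.2.2) (j := 0) (by simpa using e1)]
  simp

theorem mem_co {c : G} {m : F} (r : Rel π c (σ ^ m.val, 1)) (ca : c * a = a * c) (cb : c * b = b * c) :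
    ∃ v, c = co a w b z v ∧ dot v zv = m := by
  obtain ⟨x, y, k, e⟩ := h.mem_B (h.mem_Q ((h.rσ.pow m.val).congr (by simp)) r)
    (((show Commute w a from h.wa).pow_left _).inv_left.mul_left ca)
    (((show Commute w b from h.wb).pow_left _).inv_left.mul_left cb)
  obtain ⟨v, rfl, rfl, rfl, rfl⟩ := v_ex x m y k
  exact ⟨v, by rw [co, ← ((show Commute w a from h.wa).pow_pow _ _).eq, mul_assoc, mul_assoc, ← mul_assoc (a ^ _),
    ← e, mul_inv_cancel_left], rfl⟩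

theorem fix_co {q : G} (hq : q ∈ Q) (e : φ w (p q) = p q) : ∃ v, q = co a w b z v ∧ dot v zv = 0 :=
  h.mem_co ((h.rq hq).congr rfl)
    ((h.comm_iff h.aQ hq).2 (by rw [← h.Na]; exact h.la.fix_orth (h.cT h.wz) (h.ωφ h.wz) e _)).symm
    ((h.comm_iff h.bQ hq).2 (by rw [← h.Nb]; exact h.la.fix_orth (h.cT h.wz) (h.ωφ h.wz) e _)).symm

theorem act_of {g : G} {T : Lin} (e1 : g * a * g⁻¹ = co a w b z (ap T f0)) (e2 : g * w * g⁻¹ = co a w b z (ap T d1))
    (e3 : g * b * g⁻¹ = co a w b z (ap T a0)) (e4 : g * z = z * g) (e5 : ap T zv = zv) (v : V) :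
    g * co a w b z v * g⁻¹ = co a w b z (ap T v) := by
  conv_rhs => rw [v_dec v]
  simp only [ap_add, ap_smul, h.co_add, h.co_smul, ← e1, ← e2, ← e3, e5, co_zv]
  conv_rhs => rw [← mul_inv_cancel_right z g, ← e4]
  simp only [conj_pow, conj_mul, co]

theorem φ_comm {c x : G} (hc : c * z = z * c) (hx : x ∈ Q) (e : c * x = x * c) : φ c (p x) = p x := by
  rw [h.pφ c hc x hx, e, mul_inv_cancel_right]

theorem nj {c : G} {x : S2} {e : Multiplicative (ZMod 2)} (r : Rel π c (x, e)) (hx : Commute x σ) :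
    NJ (co a w b z) c := fun v => by
  have k : ∀ q ∈ Q, w * q = q * w → c * co a w b z v * c⁻¹ * q = q * (c * co a w b z v * c⁻¹) := fun q hq hw => by
    obtain ⟨u, hu, -⟩ := h.fix_co (h.nq (cinv (rz r)) hq) (by
      rw [← h.pφ _ (cinv (rz r)) q hq, ← h.φ_mul h.wz (cinv (rz r)), h.φ_eq (h.rσ.mul r.inv) ((r.inv.mul h.rσ).congr
        (Prod.ext hx.inv_left.eq (mul_comm _ _))), h.φ_mul (cinv (rz r)) h.wz, h.φ_comm h.wz hq hw])
    calc _ = c * (co a w b z v * (c⁻¹ * q * c⁻¹⁻¹)) * c⁻¹ := by group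
      _ = c * (c⁻¹ * q * c⁻¹⁻¹ * co a w b z v) * c⁻¹ := by rw [hu, h.co_comm]
      _ = _ := by group
  obtain ⟨u, hu, -⟩ := h.mem_co (((r.mul (h.rco v)).mul r.inv).congr (Prod.ext
    (show x * _ * x⁻¹ = σ ^ (dot v zv).val by rw [(hx.pow_right _).eq, mul_inv_cancel_right]) (by simp)))
    (k a h.aQ h.wa) (k b h.bQ h.wb)
  exact ⟨u, hu⟩

theorem fix_b {c : G} {g : S2} (r : Rel π c (g, 1)) : φ c (p b) = p b := by
  obtain ⟨x, m, rfl⟩ := h.gen g
  rw [h.φ_eq r (((h.rψ x).mul (h.rσ.pow m.val)).congr (by simp)), h.φ_mul (rz (h.rψ x)) (cpow h.wz _),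
    h.φ_fix h.wz (h.φ_comm h.wz h.bQ h.wb), h.pos x _ h.Tb]

theorem exists_n {c : G} {g : S2} {e : Multiplicative (ZMod 2)} (r : Rel π c (g, e)) (he : e ≠ 1) :
    ∃ n x, Rel π n (x, e) ∧ Commute x σ ∧ φ n (p a) = p a ∧ φ n (p b) = -p b := by
  obtain ⟨n, x, rn, hx, n4, h1, h2⟩ : ∃ n x, Rel π n (x, e) ∧ Commute x σ ∧ n ^ 4 = 1 ∧ (∀ u, φ n (φ n u) = u) ∧
      ∀ u, φ t u = -u → φ n u = u := by
    have e2 : e * e = 1 := by clear r he; revert e; decide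
    obtain ⟨k, hk⟩ := h.sur g
    obtain ⟨n, rn, nt⟩ := h.lift (hk.inv.mul r)
    have r3 : Rel π (n ^ 3) (1, e) := (rn.pow 3).congr (by ext <;> simp [pow_succ, e2])
    have c3 : Commute (n ^ 3) t := Commute.pow_left nt 3
    have n2 : n ^ 3 * n ^ 3 = 1 := by
      rw [← (Commute.refl n).mul_pow, h.Q3 _ ((h.ker _).1 ((rn.mul rn).congr (by ext <;> simp [e2])))]
    generalize n ^ 3 = n at r3 c3 n2
    have n4 : n ^ 4 = 1 := by rw [show 4 = 2 * 2 from rfl, pow_mul, pow_two n, n2, one_pow]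
    have k1 : ∀ u, φ n (φ n u) = u := fun u => by rw [← h.φ_mul (rz r3) (rz r3), n2, h.φ_one]
    rcases h.la.sign (h.cT (rz r3)) (h.ωφ (rz r3)) (fun u _ => k1 u) with c | c
    · exact ⟨n, 1, r3, Commute.one_left _, n4, k1, c⟩
    · refine ⟨t * n, -1, (h.rt.mul r3).congr (by simp), Commute.neg_one_left _,
        by rw [c3.symm.mul_pow, n4, h.t4, one_mul], fun u => ?_, fun u hu => ?_⟩
      · simp only [h.φ_mul h.tz (rz r3), ← h.cT (rz r3), h.la.TT, k1]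
      · rw [h.φ_mul h.tz (rz r3), c u hu, map_neg, hu, neg_neg]
  refine ⟨n, x, rn, hx, h2 _ h.Ta, ?_⟩
  rcases h.la.neg.sign (I := φ n) (by simp [h.cT (rz rn)]) (h.ωφ (rz rn)) (fun u _ => h1 u) with c | c
  · refine absurd (congrArg Prod.snd ((h.star1 (rz rn) n4 (fun u => ?_) ▸ rn).uniq Rel.one)) he
    obtain ⟨m, q, hm, hq, rfl⟩ := h.la.dec u
    rw [map_add, h2 m hm, c q (by simp [hq])]
  · exact c _ (by simp [h.Tb])

theorem neg_b {c : G} {g : S2} {e : Multiplicative (ZMod 2)} (r : Rel π c (g, e)) (he : e ≠ 1) :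
    φ c (p b) = -p b := by
  obtain ⟨n, x, rn, -, -, h2⟩ := h.exists_n r he
  have := congrArg (φ n) (h.fix_b ((rn.inv.mul r).congr (Prod.ext rfl (inv_mul_cancel e))))
  rwa [h.φ_mul (cinv (rz rn)) (rz r), h.φ_inv' (rz rn), h2] at this

theorem conj_of {n : G} (hn : n * z = z * n) {u v : V} (hu : dot u zv = 0) (hv : dot v zv = 0)
    (e : φ n (p (co a w b z u)) = p (co a w b z v)) :
    ∃ k : F, n * co a w b z u * n⁻¹ = co a w b z (v + k • zv) := by
  obtain ⟨k, hk⟩ := h.eq_of_p (h.nq hn ((h.coQ u).2 hu)) ((h.coQ v).2 hv) (by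
    rw [← h.pφ n hn _ ((h.coQ u).2 hu), e])
  exact ⟨k, by rw [hk, h.co_add, h.co_smul, co_zv]⟩

theorem wa' : a' * w * a'⁻¹ = w * a⁻¹ * z := by
  obtain ⟨k, hk⟩ := h.eq_of_p (h.nq h.wz h.a'Q) (mul_mem h.aQ h.a'Q) (by
    rw [← h.pφ w h.wz a' h.a'Q, h.pa a h.aQ a' h.a'Q, ← h.Na, sub_add_cancel])
  have zk := pow_mem (mem_zpowers z) k.val
  have e1 : w * a'⁻¹ * w⁻¹ = a⁻¹ * a'⁻¹ * z ^ k.val := by
    calc _ = t * (w * a' * w⁻¹) * t⁻¹ := by
          rw [← conj_mul, ← conj_mul, ← conj_inv (b := t), h.ta', ← h.wt, mul_inv_cancel_right]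
      _ = _ := by rw [hk, ← conj_mul, ← conj_mul, h.ta, h.ta', zc h.tz zk, mul_inv_cancel_right]
  have e2 : z ^ (k + (-1 + k)).val = z ^ (0 : F).val := by
    have := h.hω a h.aQ a' h.a'Q
    rw [h.la.an, h.ωa] at this
    rw [pow_val_add h.z3, pow_val_add h.z3, ← this, ← mul_assoc, ← mul_assoc, ← mul_assoc, ← mul_assoc,
      ← zc (h.Qz a h.aQ) zk, mul_assoc a, ← zc (h.Qz a' h.a'Q) zk, ← mul_assoc, ← hk, mul_assoc _ a⁻¹,
      mul_assoc _ _ (z ^ _), ← e1]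
    simp
  obtain rfl : k = -1 := (by decide : ∀ k : F, k + (-1 + k) = 0 → k = -1) k (pow_val_inj h.z1 h.z3 e2)
  have e3 : z ^ (-1 : F).val = z⁻¹ := by rw [inv_eq_sq_of_cube h.z3]; exact pow_two z
  calc _ = a⁻¹ * (a * a' * z⁻¹) * (z * w) * a'⁻¹ := by group
    _ = a⁻¹ * w * (a' * (w⁻¹ * (w * z)) * a'⁻¹) := by rw [← e3, ← hk, h.wz]; group
    _ = _ := by rw [inv_mul_cancel_left, h.Qz a' h.a'Q, mul_inv_cancel_right,
      ((show Commute w a from h.wa).inv_right).eq]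

theorem ψ4 (x : Q8) : ψ x ^ 4 = 1 := by rw [← map_pow, show x ^ 4 = 1 by revert x; decide, map_one]

theorem ψ04 (x : Q8) : ψ₀ x ^ 4 = 1 := by rw [← map_pow, show x ^ 4 = 1 by revert x; decide, map_one]

theorem ψc (x : Q8) : Commute (ψ x) t := by
  rw [← h.ψt]; exact Commute.map (show x * .a 2 = .a 2 * x by revert x; decide) ψ

theorem rj {x : Q8} {v v' : V} (e : ψ x * co a w b z v * (ψ x)⁻¹ = co a w b z v') :
    x = 1 ∨ x = .a 2 ∨ (v.1 = 0 ∧ dot v zv = 0) := by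
  rcases q_sq x with c | c | c
  · exact .inl c
  · exact .inr (.inl c)
  have r := h.rψ x
  have e0 : dot v zv = 0 := by
    by_contra e0
    have := (s_norm σ h.σ3 h.σ1 (ψ₀ x) _ _ e0 (congrArg Prod.fst
      (((r.mul (h.rco v)).mul r.inv).uniq (e ▸ h.rco v')))).2 (h.ψ04 x)
    rw [← map_mul, c, show ψ₀ (.a 2) = -1 from congrArg Prod.fst ((h.rψ _).uniq (h.ψt ▸ h.rt))] at this
    exact absurd this (by decide +kernel)
  refine .inr (.inr ⟨?_, e0⟩)
  by_contra e1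
  have vQ := (h.coQ v).2 e0
  have e2 := (h.comm_iff h.aQ (h.nq (rz r) vQ)).1 (by rw [e]; simpa only [co_f0] using h.co_comm f0 v')
  rw [← h.pφ _ (rz r) _ vQ, h.p_co e0] at e2
  simp only [map_add, map_smul, h.pos x _ h.Tb, h.la.orth h.Ta h.Tb, smul_eq_mul, mul_zero, add_zero,
    mul_eq_zero, e1, false_or] at e2
  have a0 : p a ≠ 0 := fun c => h.pa0 (by rw [c, neg_zero])
  obtain ⟨k, hk⟩ := h.la.pl h.Ta (by rw [h.cT (rz r), h.Ta, map_neg]) a0 e2
  have e3 := h.φ_mul (rz r) (rz r) (p a)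
  rw [← map_mul, c, h.ψt, h.Ta, hk, map_smul, hk, smul_smul, neg_eq_iff_add_eq_zero, ← one_smul F (p a), smul_smul,
    ← add_smul, smul_eq_zero, or_iff_left a0] at e3
  clear hk; revert k; decide

theorem cR {n : G} {d : V} (nz : n * z = z * n) (nt : n * t = t * n) (na : n * a = a * n) (hd : dot d zv = 0)
    (e : n * (a' * co a w b z d) = a' * co a w b z d * n) (x : Q8) : n * ψ x = ψ x * n := by
  have e1 := h.φ_comm nz h.aQ na
  have e2 := h.φ_comm nz (mul_mem h.a'Q ((h.coQ d).2 hd)) e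
  rw [h.pa _ h.a'Q _ ((h.coQ d).2 hd), h.p_co hd] at e2
  have e3 := congrArg (φ t) e2
  simp only [map_add, map_smul, h.cT nz, h.Ta, h.Ta', h.Tb, map_neg, e1] at e2 e3
  have e4 : φ n (p a') = p a' := sub_eq_zero.1 (eq_zero_of_neg (by linear_combination (norm := module) e3 - e2))
  have e5 : ∀ u, φ t u = -u → φ n u = u := fun u hu => by
    obtain ⟨k, l, rfl⟩ := h.la.span2 h.Ta' h.Ta (by simp [h.ωa]) hu
    simp [e1, e4]
  obtain ⟨g, ε, r⟩ := h.ex_rel nz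
  obtain ⟨y, hy⟩ := h.gen4 (g * ψ₀ x * g⁻¹) (by rw [conj_pow, h.ψ04]; simp)
  have rx := rz (h.rψ x)
  have e6 := h.uniq (h.rψ y) (((r.mul (h.rψ x)).mul r.inv).congr (Prod.ext hy (by simp))) (h.ψ4 y)
    (by rw [conj_pow, h.ψ4]; simp) (h.ψc y) ((Commute.mul_left nt (h.ψc x)).mul_left (Commute.inv_left nt)) (h.pos y)
  have e7 := h.star1 (rz (h.rψ (x⁻¹ * y))) (h.ψ4 _) fun u => by
    obtain ⟨m, q, hm, hq, rfl⟩ := h.la.dec u
    rw [map_add, h.pos _ q hq, map_mul, map_inv, e6, h.φ_mul (cinv rx) (cmul (cmul nz rx) (cinv nz)),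
      h.φ_mul (cmul nz rx) (cinv nz), h.φ_mul nz rx]
    conv_lhs => rw [← e5 m hm, h.φ_inv nz]
    rw [e5 _ (by rw [h.cT rx, hm, map_neg]), h.φ_inv rx]
  rw [map_mul, map_inv, e6, inv_mul_eq_one] at e7
  exact mul_inv_eq_iff_eq_mul.1 e7.symm

theorem pre : Nonempty (Pre G) := by
  have z2 : z ^ (-1 : F).val = z⁻¹ := by rw [inv_eq_sq_of_cube h.z3]; exact pow_two z
  refine ⟨⟨∃ c g e, e ≠ 1 ∧ Rel π c (g, e), co a w b z, a', b', ψ, Q, h.co_add, h.co_inj,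
    (injective_iff_map_eq_one ψ).2 fun x e => ?_, h.card,
    h.act_of ?_ ?_ ?_ (h.Qz _ h.a'Q) (by decide), h.act_of ?_ ?_ ?_ (h.Qz _ h.b'Q) (by decide),
    h.ψt ▸ h.act_of ?_ ?_ ?_ h.tz (by decide), h.Q3 _ h.a'Q, h.Q3 _ h.b'Q,
    (h.comm_iff h.a'Q h.b'Q).2 (h.la.orth h.Ta' h.Tb'), h.ψt ▸ h.ta', h.coQ, fun c hc q hq => ?_, fun x => ?_,
    fun x => ?_, fun x => h.star (rz (h.rψ x)) (h.ψ4 x) h.b'Q (h.pos x _ h.Tb'), fun x => ?_, fun c hc => ?_,
    fun c hc => ?_, fun x v v' => h.rj, fun n hn nj => ⟨?_, ?_⟩, ?_, fun n d h1 h2 h3 => ?_, fun g v e hv => ?_, ?_⟩⟩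
  · rcases q_sq x with c | c | c
    · exact c
    · exact absurd (by rw [← h.ψt, ← c, e]) h.t1
    · exact absurd (by rw [← h.ψt, ← c, map_mul, e, mul_one]) h.t1
  · rw [show ap q1L f0 = f0 + zv by decide, h.co_add, co_f0, co_zv, h.conj_eq h.a'Q h.aQ, h.ωa]
    exact congrArg _ (pow_one z)
  · rw [show ap q1L d1 = d1 + -f0 + zv by decide, h.co_add, h.co_add, h.co_neg, co_f0, co_zv, co_d1, h.wa']
  · rw [show ap q1L a0 = a0 by decide, co_a0, (h.comm_iff h.a'Q h.bQ).2 (h.la.orth h.Ta' h.Tb), mul_inv_cancel_right]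
  · rw [show ap tauL f0 = f0 by decide, co_f0, (h.comm_iff h.b'Q h.aQ).2 (h.la.orth' h.Ta h.Tb'),
      mul_inv_cancel_right]
  · rw [show ap tauL d1 = d1 + -a0 by decide, h.co_add, h.co_neg, co_a0, co_d1,
      ((show Commute w b from h.wb).inv_right).eq]
    calc _ = b⁻¹ * (b * b') * w * b'⁻¹ := by group
      _ = _ := by rw [← h.wb']; group
  · rw [show ap tauL a0 = a0 + -zv by decide, h.co_add, h.co_neg, co_a0, co_zv, h.conj_eq h.b'Q h.bQ, h.ωb, z2]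
  · rw [show ap tL f0 = -f0 by decide, h.co_neg, co_f0, h.ta]
  · rw [show ap tL d1 = d1 by decide, co_d1, ← h.wt, mul_inv_cancel_right]
  · rw [show ap tL a0 = a0 by decide, co_a0, ← h.bt, mul_inv_cancel_right]
  · rw [co_zv] at hc; exact h.nq hc hq
  · rw [co_zv]; exact rz (h.rψ x)
  · rw [co_a0]; exact h.star (rz (h.rψ x)) (h.ψ4 x) h.bQ (h.pos x _ h.Tb)
  · rw [co_d1, h.ψd]
  · rw [co_zv] at hc
    obtain ⟨g, e, r⟩ := h.ex_rel hc
    obtain ⟨x, m, rfl⟩ := h.gen g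
    exact ⟨x, h.nj (((h.rψ x).inv.mul r).congr (Prod.ext (inv_mul_cancel_left _ _) rfl))
      ((Commute.refl σ).pow_left _)⟩
  · have c1 := hc f0
    have c2 := hc d1
    have c3 := hc a0
    have c4 := hc zv
    rw [co_f0] at c1; rw [co_d1] at c2; rw [co_a0] at c3; rw [co_zv] at c4
    obtain ⟨g, e, r⟩ := h.ex_rel c4
    obtain rfl : e = 1 := by_contra fun he => h.pb0 (by rw [← h.neg_b r he, h.φ_comm c4 h.bQ c3])
    obtain ⟨l, rfl | rfl⟩ := (s_norm σ h.σ3 h.σ1 g 1 1 one_ne_zero (by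
      have := congrArg Prod.fst ((r.mul h.rσ).uniq (c2 ▸ h.rσ.mul r))
      rw [ZMod.val_one, pow_one]; exact mul_inv_eq_iff_eq_mul.2 this)).1
    · exact (h.mem_co r c1 c3).imp fun _ => And.left
    · have := h.φ_comm c4 h.aQ c1
      rw [h.φ_eq r ((h.rt.mul (h.rσ.pow l.val)).congr (by simp)), h.φ_mul h.tz (cpow h.wz _),
        h.φ_fix h.wz (h.φ_comm h.wz h.aQ h.wa), h.Ta] at this
      exact absurd this h.pa0
  · rw [co_zv] at hn
    obtain ⟨v, hv⟩ := nj f0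
    have a0 : p a ≠ 0 := fun c => h.pa0 (by rw [c, neg_zero])
    obtain ⟨k, hk⟩ := h.la.pl (v := φ n (p a)) h.Ta (by rw [h.cT hn, h.Ta, map_neg]) a0 (by
      rw [co_f0] at hv
      rw [h.pφ n hn a h.aQ, ← h.comm_iff h.aQ (h.nq hn h.aQ), hv]; simpa only [co_f0] using h.co_comm f0 v)
    rcases (by decide : ∀ k : F, k = 0 ∨ k = 1 ∨ k = -1) k with rfl | rfl | rfl
    · exact absurd (by rw [← h.φ_inv hn (p a), hk, zero_smul, map_zero]) a0
    · exact (h.conj_of hn (by decide) (by decide) (by rw [co_f0, hk, one_smul])).imp fun _ => .inl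
    · exact (h.conj_of hn (by decide) (by decide) (by
        rw [h.co_neg, co_f0, hk, neg_one_smul, h.pi h.aQ])).imp fun _ => .inr
  · rw [co_zv] at hn
    obtain ⟨g, e, r⟩ := h.ex_rel hn
    by_cases he : e = 1
    · exact .inr (h.conj_of hn (by decide) (by decide) (by rw [co_a0, h.fix_b (he ▸ r)]))
    · exact .inl ⟨n, g, e, he, r⟩
  · rintro ⟨c, g, e, he, r⟩
    obtain ⟨n, x, rn, hx, h1, h2⟩ := h.exists_n r he
    obtain ⟨k, hk⟩ := h.conj_of (rz rn) (u := f0) (v := f0) (by decide) (by decide) (by rw [co_f0, h1])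
    obtain ⟨l, hl⟩ := h.conj_of (rz rn) (u := a0) (v := -a0) (by decide) (by decide) (by
      rw [h.co_neg, co_a0, h2, h.pi h.bQ])
    exact ⟨n, by rw [co_zv]; exact rz rn, h.nj rn hx, k, l, hk, hl⟩
  · rw [co_zv] at h1; rw [h.ψt] at h2; rw [co_f0] at h3
    exact h.cR h1 h2 h3
  · rw [co_zv] at e
    have hq := (h.coQ v).2 hv
    refine v_iso v hv ?_
    by_cases hn : co a w b z v ∈ zpowers z
    · have := h.ind (by rw [← h.p_co hv]; exact (h.p0 _ hq).2 hn)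
      simp [this.1, this.2]
    · have := h.both (e ▸ hq) (e ▸ hn)
      rw [e, h.p_co hv] at this
      exact iff_of_false (fun c => this.1 (by simp [c, h.Tb])) fun c => this.2 (by simp [c, h.Ta])
  · obtain ⟨k, s, h1, h2, h3, h4, h5, r, sa, sb⟩ := h.exk
    obtain ⟨y, hy, dy⟩ := h.fix_co h1 (by rw [h3, map_add, h.φ_comm h.wz h.aQ h.wa, h.φ_comm h.wz h.bQ h.wb])
    obtain ⟨v, hv, dv⟩ := h.mem_co (m := 1) (r.congr (Prod.ext (pow_one σ).symm rfl)) sa sb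
    refine ⟨k, y, v, by rw [co_zv, hy], dy, ?_, ?_, by rwa [co_zv], by rw [dv]; exact one_ne_zero, hv ▸ h5⟩ <;>
      rintro rfl
    · exact h2 (by rw [hy, co_zv]; exact mem_zpowers z)
    · exact h2 (by rw [hy, h.co_neg, co_zv]; exact inv_mem (mem_zpowers z))

end Fq

end CL.O8.A1

namespace CL.O8

theorem HC2.pre {G : Type*} [Group G] [Finite G] {Q : Subgroup G} {z : G}
    {π : CL.Odd.cz z →* CL.L43.S2 × Multiplicative (ZMod 2)} (h : HC2 Q z π) : Nonempty (Pre G) := by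
  obtain ⟨U, _, _, p, φ, ω, t, h1⟩ := A1.exists_cx h
  obtain ⟨a, a', b, b', w, σ, h2⟩ := h1.exists_fm
  obtain ⟨ψ, ψ₀, h3⟩ := h2.exists_fq
  exact h3.pre

end CL.O8
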