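/- S3372: the automizer of the Thompson subgroup, combinatorial part. -/
import Mathlib
import Cfsg.Agent.PERM.O8.Def

set_option autoImplicit false
set_option maxRecDepth 100000
set_option synthInstance.maxSize 4096

namespace CL.O8.A2

attribute [local instance 2000] List.decidableBAll List.decidableBEx

def nuL : Lin := (d1, f0, d3, d2)
def ntL : Lin := (d3, d1, f0, d2)
def negL : Lin := ((2, 0, 0, 0), (0, 2, 0, 0), (0, 0, 2, 0), (0, 0, 0, 2))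

def gn : ℕ → Lin
  | 0 => q1L
  | 1 => tauL
  | 2 => tL
  | _ => ntL

def ev (w : List ℕ) : Lin := w.foldr (fun i T => cmp (gn i) T) oneL

def L32 : List Lin := [((1,0,0,0),(0,1,0,0),(0,0,1,0),(0,0,0,1)),
  ((0,0,0,1),(0,1,0,0),(1,0,0,0),(0,0,1,0)),
  ((2,1,1,2),(2,2,1,1),(1,1,1,1),(2,1,2,1)),
  ((0,1,0,0),(0,0,1,0),(1,0,0,0),(0,0,0,1)),
  ((0,0,1,0),(0,1,0,0),(0,0,0,1),(1,0,0,0)),
  ((1,1,1,2),(1,2,1,1),(1,2,2,2),(1,1,2,1)),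
  ((2,2,1,1),(2,1,2,1),(1,1,1,1),(2,1,1,2)),
  ((1,1,2,2),(1,2,1,2),(1,1,1,1),(2,1,1,2)),
  ((2,1,2,1),(2,2,1,1),(2,1,1,2),(1,1,1,1)),
  ((1,2,1,1),(1,1,2,1),(1,2,2,2),(1,1,1,2)),
  ((1,1,2,1),(1,2,1,1),(2,2,2,1),(2,1,1,1)),
  ((1,2,1,2),(2,1,1,2),(1,1,1,1),(1,1,2,2)),
  ((2,1,2,2),(2,2,1,2),(1,2,2,2),(1,1,1,2)),
  ((2,1,2,2),(2,2,1,2),(2,1,1,1),(1,1,1,2)),
  ((2,1,2,1),(1,2,2,1),(1,1,1,1),(1,1,2,2)),
  ((1,1,2,1),(1,2,1,1),(1,1,1,2),(1,2,2,2)),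
  ((2,1,1,2),(1,2,1,2),(1,1,2,2),(1,1,1,1)),
  ((1,2,1,1),(2,1,1,1),(2,2,2,1),(1,1,2,1)),
  ((1,1,1,2),(1,1,2,1),(2,1,2,2),(2,1,1,1)),
  ((2,1,1,1),(1,2,1,1),(2,2,1,2),(1,1,1,2)),
  ((2,2,1,2),(1,1,1,2),(1,2,2,2),(2,1,2,2)),
  ((1,2,2,1),(2,2,1,1),(1,1,1,1),(1,2,1,2)),
  ((2,2,1,2),(1,1,1,2),(2,1,1,1),(2,1,2,2)),
  ((1,2,2,1),(1,1,2,2),(1,1,1,1),(2,1,2,1)),
  ((1,1,2,1),(2,2,2,1),(1,2,2,2),(2,1,2,2)),
  ((2,1,1,1),(1,2,1,1),(1,1,2,1),(2,2,2,1)),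
  ((1,1,1,2),(2,2,1,2),(2,1,2,2),(1,2,2,2)),
  ((2,2,1,1),(1,2,2,1),(1,2,1,2),(1,1,1,1)),
  ((2,2,2,1),(1,2,1,1),(2,1,1,1),(2,2,1,2)),
  ((1,2,2,2),(1,1,2,1),(1,1,1,2),(2,1,2,2)),
  ((2,1,1,1),(2,2,1,2),(2,2,2,1),(2,1,2,2)),
  ((1,2,1,1),(2,2,2,1),(2,2,1,2),(1,2,2,2))]

def S18 : List Lin := [((1,0,0,0),(0,1,0,0),(0,0,1,0),(0,0,0,1)),
  ((2,0,0,0),(0,1,0,0),(0,0,1,0),(0,0,0,1)),
  ((1,0,0,0),(0,0,1,0),(0,0,0,1),(0,1,0,0)),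
  ((2,0,0,0),(0,0,1,0),(0,0,0,1),(0,1,0,0)),
  ((1,0,0,0),(0,0,0,1),(0,1,0,0),(0,0,1,0)),
  ((2,0,0,0),(0,0,0,1),(0,1,0,0),(0,0,1,0)),
  ((1,1,1,1),(2,2,1,1),(2,1,2,1),(2,1,1,2)),
  ((2,2,2,2),(2,2,1,1),(2,1,2,1),(2,1,1,2)),
  ((1,1,1,1),(2,1,2,1),(2,1,1,2),(2,2,1,1)),
  ((2,2,2,2),(2,1,2,1),(2,1,1,2),(2,2,1,1)),
  ((1,1,1,1),(2,1,1,2),(2,2,1,1),(2,1,2,1)),
  ((2,2,2,2),(2,1,1,2),(2,2,1,1),(2,1,2,1)),
  ((1,2,2,2),(1,2,1,1),(1,1,2,1),(1,1,1,2)),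
  ((2,1,1,1),(1,2,1,1),(1,1,2,1),(1,1,1,2)),
  ((1,2,2,2),(1,1,2,1),(1,1,1,2),(1,2,1,1)),
  ((2,1,1,1),(1,1,2,1),(1,1,1,2),(1,2,1,1)),
  ((1,2,2,2),(1,1,1,2),(1,2,1,1),(1,1,2,1)),
  ((2,1,1,1),(1,1,1,2),(1,2,1,1),(1,1,2,1))]

theorem L32_eq : L32 = [[], [3], [0, 3], [1, 3], [3, 3], [0, 0, 3], [1, 0, 3], [3, 0, 3], [0, 3, 3], [1, 0, 0, 3],
    [3, 0, 0, 3], [3, 1, 0, 3], [0, 3, 0, 3], [2, 3, 0, 3], [3, 3, 0, 3], [0, 0, 3, 3], [3, 0, 3, 3], [3, 1, 0, 0, 3],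
    [1, 3, 0, 0, 3], [3, 3, 0, 0, 3], [0, 3, 1, 0, 3], [1, 3, 1, 0, 3], [2, 3, 1, 0, 3], [3, 3, 1, 0, 3],
    [0, 3, 3, 0, 3], [3, 0, 0, 3, 3], [0, 3, 0, 3, 3], [1, 3, 0, 3, 3], [2, 1, 3, 1, 0, 3], [3, 2, 3, 1, 0, 3],
    [3, 0, 3, 3, 0, 3], [1, 0, 3, 0, 3, 3]].map ev := by decide +kernel

theorem S18_eq : (∀ s ∈ S18, ∃ w ∈ [[], [2], [1], [1, 2], [1, 1], [1, 1, 2], [0], [0, 2], [0, 1], [0, 1, 2],
    [0, 1, 1], [0, 1, 1, 2], [0, 0], [0, 0, 2], [0, 0, 1], [0, 0, 1, 2], [0, 0, 1, 1], [0, 0, 1, 1, 2]],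
      s = ev w ∧ ∀ i ∈ w, i < 3) ∧ ∀ s ∈ S18, ∀ l : F, ap s a0 ≠ -a0 + l • zv := by decide +kernel

theorem L32_tr : ∀ v, dot v v = 0 → v ≠ 0 → ∃ m ∈ L32, ap m zv = v := by decide +kernel

theorem L32_ev : ∀ m ∈ L32, Orth m ∧ ∀ s ∈ S18, Ev (cmp m s) ∧ ¬ Ev (cmp m (cmp s rL)) := by decide +kernel

theorem stab36 : AllW fun T => ap T zv = zv → T ∈ S18 ∨ cmp T rL ∈ S18 := by decide +kernel

/-- the isotropic vectors -/
def l0 : List V := [(0,0,0,0),(0,1,1,1),(0,1,1,2),(0,1,2,1),(0,1,2,2),(0,2,1,1),(0,2,1,2),(0,2,2,1),(0,2,2,2),(1,0,1,1),(1,0,1,2),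
  (1,0,2,1),(1,0,2,2),(1,1,0,1),(1,1,0,2),(1,1,1,0),(1,1,2,0),(1,2,0,1),(1,2,0,2),(1,2,1,0),(1,2,2,0),(2,0,1,1),
  (2,0,1,2),(2,0,2,1),(2,0,2,2),(2,1,0,1),(2,1,0,2),(2,1,1,0),(2,1,2,0),(2,2,0,1),(2,2,0,2),(2,2,1,0),(2,2,2,0)]

/-- the linear map fixing `zv` with given values on three singular vectors -/
def mk (a b c : V) : Lin := (-a - b, zv + a - b + c, zv - a + b + c, c - zv)

theorem mem_l0 : ∀ v, dot v v = 0 → v ∈ l0 := by decide +kernel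

theorem stab72 : ∀ a ∈ l0, dot (a + zv) (a + zv) = 0 → ∀ b ∈ l0, dot (b + zv) (b + zv) = 0 →
    dot (a + b) (a + b) ≠ 0 → ∀ c ∈ l0, dot (a + c) (a + c) = 0 → dot (b + c) (b + c) = 0 →
    dot (c + zv) (c + zv) ≠ 0 → dot (a + b + c + zv) (a + b + c + zv) = 0 →
    (∃ s ∈ S18, cmp (mk a b c) s = cmp tauL (mk a b c)) ∧
    ((∃ l : F, ap (mk a b c) f0 = f0 + l • zv ∨ ap (mk a b c) f0 = -f0 + l • zv) → Orth (mk a b c) ∧
      ((∃ l : F, ap (mk a b c) a0 = a0 + l • zv) → mk a b c ∈ S18)) := by decide +kernel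

theorem orbB : ∀ y, dot y y = 0 → dot y zv = 0 → y ≠ 0 → y ≠ zv → y ≠ -zv → ∀ u, dot u u = 0 → dot u zv = 0 → u ≠ 0 →
    u ≠ zv → u ≠ -zv → ∃ s ∈ S18, ap s y = u ∨ ap s (zv - y) = u := by decide +kernel

theorem orbN : ∀ y, dot y zv ≠ 0 → ∀ u, dot u zv ≠ 0 → dot u u = dot y y →
    ∃ s ∈ S18, ap s y = u ∨ ap s (-y) = u := by decide +kernel

theorem spanB : ∀ u, dot u u = 0 → dot u zv = 0 → u ≠ 0 → u ≠ zv → u ≠ -zv →
    (∀ x, dot x zv = 0 → ∃ a b c : F, x = a • u + b • zv + c • ap tL u) ∧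
    ∀ a b : F, a ≠ 0 → dot (a • u + b • zv + ap tL u) zv = 0 ∧
      dot (a • u + b • zv + ap tL u) (a • u + b • zv + ap tL u) ≠ 0 := by decide +kernel

theorem anyN : ∀ y, dot y y = 0 → dot y zv = 0 → ∀ v, dot v v = 0 → dot v zv ≠ 0 → ∀ c : F, c ≠ 0 →
    ∃ a b : F, a ≠ 0 ∧ dot (a • zv + b • y + v) zv ≠ 0 ∧ dot (a • zv + b • y + v) (a • zv + b • y + v) = c := by
  decide +kernel

theorem ap_sub (T : Lin) (u v : V) : ap T (u - v) = ap T u - ap T v := by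
  rw [sub_eq_add_neg, ap_add, ap_neg, sub_eq_add_neg]

theorem dot_add (u v w : V) : dot (u + v) w = dot u w + dot v w := by
  simp only [dot, Prod.fst_add, Prod.snd_add]; ring

theorem dot_smul (k : F) (v w : V) : dot (k • v) w = k * dot v w := by
  simp only [dot, Prod.smul_fst, Prod.smul_snd, smul_eq_mul]; ring

theorem orth_of {T : Lin} (h : ∀ u v, dot (ap T u) (ap T v) = dot u v) : Orth T := by
  rw [← ap_basis T]; simp only [Orth, h]; decide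

theorem eq_mk {T : Lin} (h : ap T zv = zv) :
    T = mk (ap T (1, 1, 2, 0)) (ap T (1, 2, 1, 0)) (ap T (0, 1, 1, 2)) := by
  conv_rhs => rw [mk, ← h]
  simp only [← ap_add, ← ap_sub, ← ap_neg]
  exact (ap_basis T).symm

/-- the maps induced by the normalizer -/
structure Cb (In : Lin → Prop) (c2 : Prop) : Prop where
  mul : ∀ {T U}, In T → In U → In (cmp T U)
  inv : ∀ {T}, In T → ∃ U, In U ∧ (∀ v, ap U (ap T v) = v) ∧ ∀ v, ap T (ap U v) = v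
  q : In q1L
  tau : In tauL
  t : In tL
  cB : ∀ {T}, In T → dot (ap T zv) zv = 0 → dot (ap T zv) (ap T zv) = 0
  st : ∀ {T}, In T → ap T zv = zv → (∃ k : F, ap T f0 = f0 + k • zv ∨ ap T f0 = -f0 + k • zv) ∧
    (c2 ∨ ∃ k : F, ap T a0 = a0 + k • zv)
  ex2 : c2 → ∃ T, In T ∧ ap T zv = zv ∧ ∃ k l : F, ap T f0 = f0 + k • zv ∧ ap T a0 = -a0 + l • zv

/-- the orbit of `zv` -/
def Zs (In : Lin → Prop) (v : V) : Prop := ∃ T, In T ∧ ap T zv = v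

/-- an element moving `zv` inside the hyperplane -/
structure Dt (In : Lin → Prop) (T : Lin) (u : V) : Prop where
  i : In T
  e : ap T u = zv
  uB : dot u zv = 0
  u1 : u ≠ zv
  u2 : u ≠ -zv
  yB : dot (ap T zv) zv = 0
  vB : dot (ap T (ap tL u)) zv ≠ 0

namespace Cb

variable {In : Lin → Prop} {c2 : Prop} (h : Cb In c2)
include h

theorem one : In oneL := (by decide : cmp q1L (cmp q1L q1L) = oneL) ▸ h.mul h.q (h.mul h.q h.q)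

theorem ev_in {w : List ℕ} (hw : ∀ i ∈ w, In (gn i)) : In (ev w) := by
  induction w with
  | nil => exact h.one
  | cons i w ih => exact h.mul (hw i (.head _)) (ih fun j e => hw j (.tail _ e))

theorem s18 (s : Lin) (hs : s ∈ S18) : In s := by
  obtain ⟨w, -, rfl, e⟩ := S18_eq.1 s hs
  exact h.ev_in fun i hi => match i, e i hi with | 0, _ => h.q | 1, _ => h.tau | 2, _ => h.t

theorem l32 (n : In ntL) (m : Lin) (hm : m ∈ L32) : In m := by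
  obtain ⟨w, -, rfl⟩ := List.mem_map.1 (L32_eq ▸ hm)
  exact h.ev_in fun i _ => match i with | 0 => h.q | 1 => h.tau | 2 => h.t | _ + 3 => n

theorem inj {T : Lin} (hT : In T) : Function.Injective (ap T) :=
  let ⟨_, _, e, _⟩ := h.inv hT; Function.LeftInverse.injective e

theorem zs {T : Lin} (hT : In T) {v : V} : Zs In (ap T v) ↔ Zs In v := by
  have k : ∀ {T v}, In T → Zs In v → Zs In (ap T v) := by
    rintro T _ hT ⟨U, hU, rfl⟩; exact ⟨_, h.mul hT hU, ap_cmp ..⟩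
  obtain ⟨U, hU, e, -⟩ := h.inv hT
  exact ⟨fun c => e v ▸ k hU c, k hT⟩

theorem zs0 : Zs In zv := ⟨_, h.one, ap_one _⟩

theorem zsB {v : V} (hv : Zs In v) (e : dot v zv = 0) : dot v v = 0 := by
  obtain ⟨T, hT, rfl⟩ := hv; exact h.cB hT e

theorem zs_ne {v : V} (hv : Zs In v) : v ≠ 0 := by
  obtain ⟨T, hT, rfl⟩ := hv
  exact fun e => absurd (h.inj hT (e.trans (ap_zero T).symm)) (by decide)

theorem exists_dt {T : Lin} {u x : V} (hT : In T) (e : ap T u = zv) (uB : dot u zv = 0)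
    (yB : dot (ap T zv) zv = 0) (y1 : ap T zv ≠ zv) (y2 : ap T zv ≠ -zv) (xB : dot x zv = 0)
    (vB : dot (ap T x) zv ≠ 0) : Dt In T u := by
  have zu : Zs In u := (h.zs hT).1 (e ▸ h.zs0)
  have u1 : u ≠ zv := fun c => y1 (c ▸ e)
  have u2 : u ≠ -zv := fun c => y2 (by rwa [c, ap_neg, neg_eq_iff_eq_neg] at e)
  refine ⟨hT, e, uB, u1, u2, yB, fun c => vB ?_⟩
  obtain ⟨a, b, k, rfl⟩ := (spanB u (h.zsB zu uB) uB (h.zs_ne zu) u1 u2).1 x xB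
  simp only [ap_add, ap_smul, e, dot_add, dot_smul, yB, c, show dot zv zv = 0 from rfl, mul_zero, add_zero]

variable {T : Lin} {u : V} (d : Dt In T u) (vs : dot (ap T (ap tL u)) (ap T (ap tL u)) = 0)
include d vs

theorem zs_iff (v : V) : Zs In v ↔ v ≠ 0 ∧ dot v v = 0 := by
  have zu : Zs In u := (h.zs d.i).1 (d.e ▸ h.zs0)
  have zy : Zs In (ap T zv) := (h.zs d.i).2 h.zs0
  have uu := h.zsB zu d.uB
  have y1 : ap T zv ≠ zv := fun c => d.u1 (h.inj d.i (d.e.trans c.symm))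
  have y2 : ap T zv ≠ -zv := fun c => d.u2 (h.inj d.i (by rw [d.e, ap_neg, c, neg_neg]))
  have k1 : ∀ v, dot v v = 0 → dot v zv = 0 → v ≠ 0 → v ≠ zv → v ≠ -zv → Zs In v := fun v a b c e f => by
    obtain ⟨s, hs, rfl | rfl⟩ := orbB _ (h.zsB zy d.yB) d.yB (h.zs_ne zy) y1 y2 v a b c e f
    · exact (h.zs (h.s18 s hs)).2 zy
    · rw [h.zs (h.s18 s hs)]
      conv => rhs; lhs; rw [← d.e]
      rw [← ap_sub, h.zs d.i]
      obtain ⟨s, hs, e⟩ := (by decide +kernel : ∀ u, dot u zv = 0 → u.1 ≠ 0 → ∃ s ∈ S18, ap s u = u - zv) u d.uB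
        ((by decide +kernel : ∀ u, dot u u = 0 → dot u zv = 0 → u ≠ 0 → u ≠ zv → u ≠ -zv → u.1 ≠ 0) u uu d.uB
          (h.zs_ne zu) d.u1 d.u2)
      exact e ▸ (h.zs (h.s18 s hs)).2 zu
  have k2 : Zs In (-zv) := by
    rw [← d.e, ← ap_neg, h.zs d.i]
    exact k1 _ (by simpa [dot] using uu) (by rw [← neg_one_smul F, dot_smul, d.uB, mul_zero])
      (neg_ne_zero.2 (h.zs_ne zu)) (fun c => d.u2 (neg_eq_iff_eq_neg.1 c)) fun c => d.u1 (neg_inj.1 c)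
  have k3 : ∀ y, Zs In y → dot y zv ≠ 0 → ∀ v, dot v zv ≠ 0 → dot v v = dot y y → Zs In v := by
    rintro _ ⟨U, hU, rfl⟩ a v b c
    obtain ⟨s, hs, rfl | rfl⟩ := orbN _ a v b c
    · exact (h.zs (h.s18 s hs)).2 ⟨U, hU, rfl⟩
    · rw [h.zs (h.s18 s hs), ← ap_neg, h.zs hU]; exact k2
  refine ⟨fun hv => ⟨h.zs_ne hv, by_contra fun c => ?_⟩, fun ⟨a, b⟩ => ?_⟩
  · obtain ⟨a, b, a0, e1, e2⟩ := anyN _ (h.zsB zy d.yB) d.yB _ vs d.vB _ c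
    have := k3 v hv (fun e => c (h.zsB hv e)) _ e1 e2
    conv at this => rhs; lhs; lhs; rw [← d.e]
    rw [← ap_smul, ← ap_smul, ← ap_add, ← ap_add, h.zs d.i] at this
    obtain ⟨e3, e4⟩ := (spanB u uu d.uB (h.zs_ne zu) d.u1 d.u2).2 a b a0
    exact e4 (h.zsB this e3)
  · by_cases c : dot v zv = 0
    · by_cases e : v = zv
      · exact e ▸ h.zs0
      by_cases e' : v = -zv
      · exact e' ▸ k2
      exact k1 v b c a e e'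
    · exact k3 _ ((h.zs d.i).2 ((h.zs h.t).2 zu)) d.vB v c (b.trans vs.symm)

theorem iso {U : Lin} (hU : In U) (v : V) : dot (ap U v) (ap U v) = 0 ↔ dot v v = 0 := by
  by_cases e : v = 0
  · rw [e, ap_zero]
  have := h.zs hU (v := v)
  rwa [h.zs_iff d vs, h.zs_iff d vs, and_iff_right e,
    and_iff_right fun c => e (h.inj hU (c.trans (ap_zero U).symm))] at this

omit h d vs in
theorem stab {k : Lin} (e : ap k zv = zv) (i : ∀ v, dot (ap k v) (ap k v) = 0 ↔ dot v v = 0) :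
    (∃ s ∈ S18, cmp k s = cmp tauL k) ∧ ((∃ l : F, ap k f0 = f0 + l • zv ∨ ap k f0 = -f0 + l • zv) → Orth k ∧
      ((∃ l : F, ap k a0 = a0 + l • zv) → k ∈ S18)) := by
  rw [eq_mk e]
  refine stab72 _ (mem_l0 _ ?_) ?_ _ (mem_l0 _ ?_) ?_ ?_ _ (mem_l0 _ ?_) ?_ ?_ ?_ ?_ <;>
    (try rw [← e]) <;> simp only [← ap_add, i, Ne] <;> decide

theorem nt : In ntL := by
  obtain ⟨U, hU, e⟩ := (h.zs_iff d vs (ap nuL zv)).2 (by decide)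
  have nn : ∀ v, ap nuL (ap nuL v) = v := by decide +kernel
  obtain ⟨s, hs, e1⟩ := (stab (k := cmp nuL U) (by rw [ap_cmp, e, nn]) fun v => by
    rw [ap_cmp, (show Orth nuL by decide).dot_ap, h.iso d vs hU]).1
  obtain ⟨U', hU', -, e2⟩ := h.inv hU
  refine (lin_ext fun v => ?_ : cmp U (cmp s U') = ntL) ▸ h.mul hU (h.mul (h.s18 s hs) hU')
  have := congrArg (fun T => ap nuL (ap T (ap U' v))) e1
  simp only [ap_cmp, nn, e2] at this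
  rw [ap_cmp, ap_cmp, this, ← ap_cmp, ← ap_cmp]; rfl

theorem in_iff (U : Lin) : In U ↔ OK c2 U := by
  have k : ∀ U, dot (ap U zv) (ap U zv) = 0 → ap U zv ≠ 0 → ∃ m ∈ L32, ∃ m', In m' ∧ (∀ v, ap m (ap m' v) = v) ∧
      ap (cmp m' U) zv = zv ∧ U = cmp m (cmp m' U) := fun U a b => by
    obtain ⟨m, hm, e⟩ := L32_tr _ a b
    obtain ⟨m', h1, h2, h3⟩ := h.inv (h.l32 (h.nt d vs) m hm)
    exact ⟨m, hm, m', h1, h3, by rw [ap_cmp, ← e, h2], lin_ext fun v => by rw [ap_cmp, ap_cmp, h3]⟩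
  refine ⟨fun hU => ?_, fun ⟨h1, h2⟩ => ?_⟩
  · obtain ⟨m, hm, m', h1, -, h2, h3⟩ := k U ((h.iso d vs hU _).2 (by decide)) (h.zs_ne ⟨U, hU, rfl⟩)
    obtain ⟨a, b⟩ := h.st (h.mul h1 hU) h2
    obtain ⟨c, e⟩ := (stab h2 (h.iso d vs (h.mul h1 hU))).2 a
    rw [h3]
    exact ⟨orth_of fun u v => by rw [ap_cmp, ap_cmp m, (L32_ev m hm).1.dot_ap, c.dot_ap],
      b.imp_right fun b => ((L32_ev m hm).2 _ (e b)).1⟩
  · obtain ⟨m, hm, m', a, b, c, e⟩ := k U (by rw [h1.dot_ap]; decide) fun c => by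
      have := h1.dot_ap zv d1
      rw [c] at this; simp [dot, zv, d1] at this
    have rr : ∀ T, cmp (cmp T rL) rL = T := fun T => lin_ext fun v => by
      rw [ap_cmp, ap_cmp, (by decide +kernel : ∀ v, ap rL (ap rL v) = v)]
    rw [e]
    refine h.mul (h.l32 (h.nt d vs) m hm) ?_
    rcases stab36.of (orth_of fun u v => by
      rw [← (L32_ev m hm).1.dot_ap, ap_cmp, ap_cmp, b, b, h1.dot_ap]) c with s | s
    · exact h.s18 _ s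
    obtain ⟨R, r1, r2, x, y, r3, r4⟩ := h.ex2 (h2.resolve_right (by
      have := ((L32_ev m hm).2 _ s).2
      rwa [rr, ← e] at this))
    obtain ⟨R', r5, r6, -⟩ := h.inv r1
    have := h.mul r5 (h.s18 _ ((stab36.of ((stab r2 (h.iso d vs r1)).2 ⟨x, .inl r3⟩).1 r2).resolve_left
      fun c => S18_eq.2 R c y r4))
    rw [show cmp R' (cmp R rL) = rL from lin_ext fun v => by rw [ap_cmp, ap_cmp, r6]] at this
    exact rr (cmp m' U) ▸ h.mul (h.s18 _ s) this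

end Cb

end CL.O8.A2
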