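/- General lemmas: two normal subgroups, commutators under a group of order nine, central
quotients, automorphisms of the quaternion group. -/
import Mathlib
import Cfsg.Agent.PERM.T42k
import Cfsg.Agent.S3779
import Cfsg.Agent.PERM.O8.Syl

set_option autoImplicit false

namespace CL.O8

open Subgroup CL.Odd
open scoped commutatorElement

universe u

variable {G : Type u} [Group G]

theorem cube_eq_one [Finite G] {W : Subgroup G} (h : ¬ 3 ∣ Nat.card W) {y : G} (hy : y ∈ W)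
    (y3 : y ^ 3 = 1) : y = 1 := by_contra fun e =>
  h (orderOf_eq_prime y3 e ▸ orderOf_dvd_natCard W hy)

theorem cinv {W : Subgroup G} {y : G} (y3 : y ^ 3 = 1) (hy : ∀ w ∈ W, y * w * y⁻¹ ∈ W) :
    ∀ w ∈ W, y⁻¹ * w * y⁻¹⁻¹ ∈ W := fun w hw => by
  have := hy _ (hy w hw)
  rw [inv_eq_sq_of_cube y3]
  simpa [mul_assoc] using this

theorem lift_fix' [Finite G] {W : Subgroup G} (hW : ¬ 3 ∣ Nat.card W) {y g : G} (y3 : y ^ 3 = 1)
    (hy : ∀ w ∈ W, y * w * y⁻¹ ∈ W) (hg : ∀ w ∈ W, g * w * g⁻¹ ∈ W)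
    (h : y * g * y⁻¹ * g⁻¹ ∈ W) : ∃ o ∈ W, g * o * y = y * (g * o) := by
  obtain ⟨o, ho, e⟩ := CL.coprime_fixed_point_quotient (zpowers y) W
    (zpowers_le.2 (Tr.mem_normalizer_of_conj_mem hy))
    (coprime_card_of_isPGroup_of_coprime (T42.isPGroup_zp y3)
      ((Nat.Prime.coprime_iff_not_dvd Nat.prime_three).2 hW).symm) (.inl inferInstance) g
    (Tr.mem_normalizer_of_conj_mem hg) fun a ha => by
      rcases (mem_zpowers_three y3).1 ha with rfl | rfl | rfl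
      · simp
      · exact h
      · have := W.inv_mem (hy _ (hy _ h))
        rw [inv_eq_sq_of_cube y3]
        have e : y * y * g * (y * y)⁻¹ * g⁻¹ = y * (y * g * y⁻¹ * g⁻¹) * y⁻¹ * (y * g * y⁻¹ * g⁻¹) := by
          group
        rw [e]; exact W.mul_mem (hy _ h) h
  exact ⟨o, ho, (e y (mem_zpowers y)).symm⟩

/-- two normal subgroups whose intersection is a 3'-group -/
theorem r2k [Finite G] {X M D K L : Subgroup G} (hD : IsPGroup 3 D) (iD : ¬ 3 ∣ D.relIndex X)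
    (DX : D ≤ X) (KX : K ≤ X) (LX : L ≤ X) (nK : ∀ g ∈ X, ∀ n ∈ K, g * n * g⁻¹ ∈ K)
    (nL : ∀ g ∈ X, ∀ n ∈ L, g * n * g⁻¹ ∈ L) (h : ∀ d ∈ D, d ∈ K → d ∈ L → d = 1)
    (sig : ∀ W ≤ X, ¬ 3 ∣ Nat.card W → (∀ d ∈ D, ∀ w ∈ W, d * w * d⁻¹ ∈ W) → W ≤ M)
    {p q : G} (pK : p ∈ K) (p3 : p ^ 3 = 1) (hp : ∀ g ∈ X, g * p = p * g → g ∈ M) (qL : q ∈ L)
    (hq : ∀ g ∈ X, g * q * g⁻¹ ∈ M → g ∈ M) : X ≤ M := by
  have nW : ∀ g ∈ X, ∀ n ∈ K ⊓ L, g * n * g⁻¹ ∈ K ⊓ L := fun g hg n hn =>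
    ⟨nK g hg n hn.1, nL g hg n hn.2⟩
  have h3 : ¬ 3 ∣ Nat.card (K ⊓ L : Subgroup G) := by
    have := Tr.not_dvd_relIndex_inf_of_normal hD iD (inf_le_left.trans KX : K ⊓ L ≤ X)
      fun g hg => Tr.mem_normalizer_of_conj_mem (nW g hg)
    rwa [(eq_bot_iff_forall (D ⊓ (K ⊓ L))).2 fun d hd => h d hd.1 hd.2.1 hd.2.2, relIndex_bot_left] at this
  have WM := sig _ (inf_le_left.trans KX) h3 fun d hd => nW d (DX hd)
  have LM : L ≤ M := fun k hk => by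
    obtain ⟨o, ho, e⟩ := lift_fix' h3 p3 (nW p (KX pK)) (nW k (LX hk))
      ⟨by simpa [mul_assoc] using K.mul_mem pK (nK k (LX hk) _ (K.inv_mem pK)),
        L.mul_mem (nL p (KX pK) k hk) (L.inv_mem hk)⟩
    exact (M.mul_mem_cancel_right (WM ho)).1 (hp _ (X.mul_mem (LX hk) (KX ho.1)) e)
  exact fun g hg => hq g hg (LM (nL g hg q qL))

/-- a fixed-point-free automorphism of order three -/
theorem class2 [Finite G] {W : Subgroup G} (h3 : ¬ 3 ∣ Nat.card W) {y : G} (y3 : y ^ 3 = 1)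
    (hy : ∀ a ∈ W, y * a * y⁻¹ ∈ W) (h : ∀ a ∈ W, (a * y) ^ 3 = 1) :
    (∀ a ∈ W, a * y = y * a → a = 1) ∧ ∀ a ∈ W, ∀ b ∈ W, ∀ c ∈ W, c * ⁅a, b⁆ = ⁅a, b⁆ * c := by
  have f : ∀ a ∈ W, a * y = y * a → a = 1 := fun a ha e => cube_eq_one h3 ha (by
    simpa [(show Commute a y from e).mul_pow, y3] using h a ha)
  refine ⟨f, fun a ha b hb c hc => ?_⟩
  let α := W.normalizerMonoidHom ⟨y, Subgroup.mem_normalizer_fintype hy⟩
  have hα : ∀ g : W, α g = g → g = 1 := fun g e =>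
    Subtype.ext (f g g.2 (mul_inv_eq_iff_eq_mul.mp (congrArg Subtype.val e)).symm)
  by_cases e : α = 1
  · rw [show c = 1 from congrArg Subtype.val (hα ⟨c, hc⟩ (by rw [e]; rfl))]; simp
  have := (Cfsg.Agent.S3779.result Nat.prime_three α (orderOf_eq_prime (by
    rw [← map_pow]
    exact (congrArg _ (Subtype.ext y3)).trans (map_one _)) e) hα).2.1 rfl
  have m : ⁅⁅(⟨a, ha⟩ : W), (⟨b, hb⟩ : W)⁆, (⟨c, hc⟩ : W)⁆ ∈ (⊤ : Subgroup W).lowerCentralSeries 2 :=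
    Subgroup.commutator_mem_commutator (Subgroup.commutator_mem_commutator trivial trivial) trivial
  rw [this, Subgroup.mem_bot, commutatorElement_eq_one_iff_mul_comm] at m
  exact (congrArg Subtype.val m).symm

/-- the norm with respect to an element of order three -/
def nm (x a : G) : G := a * (x * a * x⁻¹) * (x * (x * a * x⁻¹) * x⁻¹)

theorem nm_eq {x a : G} (x3 : x ^ 3 = 1) : nm x a = (a * x) ^ 3 := by
  rw [← mul_one (nm x a), ← x3, nm]; simp only [pow_succ, pow_zero]; group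

/-- commutators in a group of class two under the action of a group of order nine -/
theorem cm {W : Subgroup G} (h2 : ∀ a ∈ W, ∀ b ∈ W, ∀ c ∈ W, c * ⁅a, b⁆ = ⁅a, b⁆ * c) {x y : G}
    (x3 : x ^ 3 = 1) (y3 : y ^ 3 = 1) (xy : x * y = y * x) (hx : ∀ a ∈ W, x * a * x⁻¹ ∈ W)
    (hy : ∀ a ∈ W, y * a * y⁻¹ ∈ W) {a b : G} (ha : a ∈ W) (hb : b ∈ W) (xa : x * a = a * x)
    (yb : y * b = b * y) (xb : nm x b = 1) (ya : nm y a = 1) :
    ∃ c ∈ W, ∃ d ∈ W, (∀ w ∈ W, w * c = c * w) ∧ (∀ w ∈ W, w * d = d * w) ∧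
      c * (x * y) = x * y * c ∧ d * (x * y⁻¹) = x * y⁻¹ * d ∧ ⁅a, b⁆ ^ 3 = c * d := by
  let Z := W ⊓ centralizer (W : Set G)
  have zc : ∀ a ∈ Z, ∀ b ∈ Z, a * b = b * a := fun a ha b hb => hb.2 a ha.1
  have cj : ∀ {x}, x ^ 3 = 1 → (∀ a ∈ W, x * a * x⁻¹ ∈ W) → ∀ a ∈ Z, x * a * x⁻¹ ∈ Z :=
    fun {x} x3 hx a ha => ⟨hx a ha.1, fun w hw => by
      have := ha.2 _ (cinv x3 hx w hw)
      calc _ = x * (x⁻¹ * w * x⁻¹⁻¹ * a) * x⁻¹ := by group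
        _ = _ := by rw [this]; group⟩
  have bil : ∀ a ∈ W, ∀ b ∈ W, ∀ c ∈ W, ⁅a, b * c⁆ = ⁅a, b⁆ * ⁅a, c⁆ := fun a ha b hb c hc => by
    calc _ = ⁅a, b⁆ * (b * ⁅a, c⁆) * b⁻¹ := by simp only [commutatorElement_def]; group
      _ = _ := by rw [h2 a ha c hc b hb]; group
  have n1 : ∀ {x a b}, a ∈ W → b ∈ W → (∀ a ∈ W, x * a * x⁻¹ ∈ W) → x * a = a * x → nm x b = 1 →
      nm x ⁅a, b⁆ = 1 := fun {x a b} ha hb hx e h => by
    have k : ∀ b, x * ⁅a, b⁆ * x⁻¹ = ⁅a, x * b * x⁻¹⁆ := fun b => by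
      rw [conjugate_commutatorElement, e, mul_inv_cancel_right]
    rw [nm, k, k, ← bil a ha _ hb _ (hx _ hb), ← bil a ha _ (W.mul_mem hb (hx _ hb)) _ (hx _ (hx _ hb))]
    exact (congrArg _ h).trans (commutatorElement_one_right a)
  have cZ : ⁅a, b⁆ ∈ Z := ⟨W.mul_mem (W.mul_mem (W.mul_mem ha hb) (W.inv_mem ha)) (W.inv_mem hb),
    h2 a ha b hb⟩
  have e1 := n1 ha hb hx xa xb
  have e2 : nm y ⁅a, b⁆ = 1 := by
    have := n1 hb ha hy yb ya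
    rw [← commutatorElement_inv, nm, ← conj_inv, ← conj_inv, ← mul_inv_rev, ← mul_inv_rev, inv_eq_one,
      zc _ (cj y3 hy _ cZ) _ cZ, zc _ (cj y3 hy _ (cj y3 hy _ cZ)) _ (Z.mul_mem cZ (cj y3 hy _ cZ))]
      at this
    exact this
  generalize ⁅a, b⁆ = c at *
  have nz : ∀ {x}, x ^ 3 = 1 → (∀ a ∈ Z, x * a * x⁻¹ ∈ Z) → nm x c ∈ Z ∧ nm x c * x = x * nm x c :=
    fun {x} x3 hx => ⟨Z.mul_mem (Z.mul_mem cZ (hx _ cZ)) (hx _ (hx _ cZ)), by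
      have : x * nm x c * x⁻¹ = x * c * x⁻¹ * (x * (x * c * x⁻¹) * x⁻¹) * (x ^ 3 * c * (x ^ 3)⁻¹) := by
        simp only [nm, pow_succ, pow_zero]; group
      rw [x3, one_mul, inv_one, mul_one, zc _ (Z.mul_mem (hx _ cZ) (hx _ (hx _ cZ))) _ cZ,
        ← mul_assoc] at this
      exact (mul_inv_eq_iff_eq_mul.1 this).symm⟩
  have X := cj x3 hx
  have Y := cj y3 hy
  have Y' : ∀ a ∈ Z, y⁻¹ * a * y⁻¹⁻¹ ∈ Z := cinv y3 Y
  have c3 : ∀ {y}, y ^ 3 = 1 → x * y = y * x → (x * y) ^ 3 = 1 := fun h e => by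
    rw [(show Commute _ _ from e).mul_pow, x3, h, mul_one]
  have xy' : x * y⁻¹ = y⁻¹ * x := (Commute.inv_right xy).eq
  obtain ⟨p1, p2⟩ := nz (c3 y3 xy) fun a ha => by simpa [mul_assoc] using X _ (Y a ha)
  obtain ⟨q1, q2⟩ := nz (c3 (by rw [inv_pow, y3, inv_one]) xy') fun a ha => by
    simpa [mul_assoc] using X _ (Y' a ha)
  refine ⟨_, p1.1, _, q1.1, p1.2, q1.2, p2, q2, ?_⟩
  let : CommGroup Z := { (inferInstance : Group Z) with
    mul_comm := fun a b => Subtype.ext (zc _ a.2 _ b.2) }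
  let A : Z →* Z := MonoidHom.mk' (fun a => ⟨_, X a a.2⟩) fun a b => Subtype.ext (conj_mul ..).symm
  let B : Z →* Z := MonoidHom.mk' (fun a => ⟨_, Y a a.2⟩) fun a b => Subtype.ext (conj_mul ..).symm
  let k : Z := ⟨c, cZ⟩
  have f1 : k * A k * A (A k) = 1 := Subtype.ext e1
  have f2 : k * B k * B (B k) = 1 := Subtype.ext e2
  have f3 := congrArg A f2
  have f4 := congrArg A f3
  simp only [map_mul, map_one] at f3 f4
  have : k ^ 3 = k * A (B k) * A (A (B (B k))) * (k * A (B (B k)) * A (A (B k))) := by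
    calc k ^ 3 = k ^ 3 * (A k * A (B k) * A (B (B k))) * (A (A k) * A (A (B k)) * A (A (B (B k)))) := by
          rw [f3, f4]; simp
      _ = (k * A k * A (A k)) * (k * A (B k) * A (A (B (B k))) * (k * A (B (B k)) * A (A (B k)))) := by
          simp only [pow_succ, pow_zero, one_mul]; ac_rfl
      _ = _ := by rw [f1, one_mul]
  refine (congrArg Subtype.val this).trans ?_
  have yi := inv_eq_sq_of_cube y3
  have s1 : x * y * (x * y) = x * x * (y * y) := by rw [mul_assoc, ← mul_assoc y, ← xy]; group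
  have s2 : x * y⁻¹ * (x * y⁻¹) = x * x * y := by
    rw [mul_assoc, ← mul_assoc y⁻¹, ← xy', mul_assoc x, ← mul_inv_rev, ← yi]; group
  have s3 : ∀ g : G, nm g c = c * (g * c * g⁻¹) * (g * g * c * (g * g)⁻¹) := fun g => by
    simp only [nm]; group
  rw [s3, s3, s1, s2, yi]
  simp only [A, B, k, MonoidHom.mk'_apply, coe_mul]
  group

/-- a quotient map of `Y` with kernel `Z`, as a function -/
structure QM (Y Z : Subgroup G) {Q : Type*} [Group Q] (π : G → Q) : Prop where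
  mul : ∀ a ∈ Y, ∀ b ∈ Y, π (a * b) = π a * π b
  sur : ∀ q, ∃ a ∈ Y, π a = q
  ker : ∀ a ∈ Y, π a = 1 ↔ a ∈ Z

theorem exists_qm [Finite G] {Y Z : Subgroup G} (h : ∀ y ∈ Y, ∀ z ∈ Z, y * z * y⁻¹ ∈ Z) :
    ∃ (Q : Type u) (_ : Group Q) (_ : Finite Q) (π : G → Q), QM Y Z π := by
  classical
  have : (Z.subgroupOf Y).Normal := ⟨fun n hn g => h g g.2 n hn⟩
  refine ⟨Y ⧸ Z.subgroupOf Y, inferInstance, inferInstance,
    fun g => if h : g ∈ Y then QuotientGroup.mk ⟨g, h⟩ else 1, fun a ha b hb => ?_, fun q => ?_,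
    fun a ha => ?_⟩
  · simp only [dif_pos ha, dif_pos hb, dif_pos (Y.mul_mem ha hb)]; rfl
  · obtain ⟨a, rfl⟩ := QuotientGroup.mk_surjective q
    exact ⟨a, a.2, dif_pos a.2⟩
  · simp only [dif_pos ha]; exact QuotientGroup.eq_one_iff (⟨a, ha⟩ : Y)

namespace QM

variable {Y Z : Subgroup G} {Q : Type*} [Group Q] {π : G → Q} (h : QM Y Z π)
include h

theorem one : π 1 = 1 := by simpa using h.mul 1 Y.one_mem 1 Y.one_mem
theorem inv {a : G} (ha : a ∈ Y) : π a⁻¹ = (π a)⁻¹ := by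
  rw [eq_inv_iff_mul_eq_one, ← h.mul _ (Y.inv_mem ha) _ ha, inv_mul_cancel, h.one]
theorem pow {a : G} (ha : a ∈ Y) (n : ℕ) : π (a ^ n) = π a ^ n := by
  induction n with
  | zero => simpa using h.one
  | succ n ih => rw [pow_succ, pow_succ, h.mul _ (Y.pow_mem ha n) _ ha, ih]
theorem conj {a b : G} (ha : a ∈ Y) (hb : b ∈ Y) : π (a * b * a⁻¹) = π a * π b * (π a)⁻¹ := by
  rw [h.mul _ (Y.mul_mem ha hb) _ (Y.inv_mem ha), h.mul _ ha _ hb, h.inv ha]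
theorem eq_iff {a b : G} (ha : a ∈ Y) (hb : b ∈ Y) : π a = π b ↔ b⁻¹ * a ∈ Z := by
  rw [← h.ker _ (Y.mul_mem (Y.inv_mem hb) ha), h.mul _ (Y.inv_mem hb) _ ha, h.inv hb,
    inv_mul_eq_one, eq_comm]

/-- the image of a subgroup -/
def img (K : Subgroup G) (hK : K ≤ Y) : Subgroup Q where
  carrier := {q | ∃ k ∈ K, π k = q}
  one_mem' := ⟨1, K.one_mem, h.one⟩
  mul_mem' := by
    rintro _ _ ⟨a, ha, rfl⟩ ⟨b, hb, rfl⟩; exact ⟨_, K.mul_mem ha hb, h.mul _ (hK ha) _ (hK hb)⟩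
  inv_mem' := by rintro _ ⟨a, ha, rfl⟩; exact ⟨_, K.inv_mem ha, h.inv (hK ha)⟩

theorem img_normal {K : Subgroup G} (hK : K ≤ Y) (hn : ∀ g ∈ Y, ∀ n ∈ K, g * n * g⁻¹ ∈ K) :
    (h.img K hK).Normal := ⟨by
  rintro _ ⟨a, ha, rfl⟩ g
  obtain ⟨g, hg, rfl⟩ := h.sur g
  exact ⟨_, hn g hg a ha, h.conj hg (hK ha)⟩⟩

theorem co2 {p q : G} (hp : p ∈ Y) (hq : q ∈ Y) (v : V2) : co2 (π p) (π q) v = π (co2 p q v) := by
  simp only [Odd.co2, h.mul _ (Y.pow_mem hp _) _ (Y.pow_mem hq _), h.pow hp, h.pow hq]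

/-- the theorem on `Sym(3) × Sym(3)` in a quotient -/
theorem hayden [Finite Q] {p q t t' : G} (hp : p ∈ Y) (hq : q ∈ Y) (ht : t ∈ Y) (ht' : t' ∈ Y)
    (p3 : p ^ 3 = 1) (q3 : q ^ 3 = 1) (pq : Commute p q) (hi : ∀ v, Odd.co2 p q v ∈ Z → v = 0)
    (tp : t * p * t⁻¹ = p⁻¹) (tq : t * q * t⁻¹ = q) (t'p : t' * p * t'⁻¹ = p)
    (t'q : t' * q * t'⁻¹ = q⁻¹) {N : G → Prop}
    (hN : ∀ y ∈ Y, (∀ v, ∃ v', (Odd.co2 p q v')⁻¹ * (y * Odd.co2 p q v * y⁻¹) ∈ Z) → N y)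
    (hN' : ∀ y ∈ Y, N y → ∃ i j : Fin 2, ∃ v, (Odd.co2 p q v * (t ^ i.val * t' ^ j.val))⁻¹ * y ∈ Z)
    (hN'' : ∀ y ∈ Y, N y → ∀ v, ∃ v', (Odd.co2 p q v')⁻¹ * (y * Odd.co2 p q v * y⁻¹) ∈ Z)
    (hC : ∀ y ∈ Y, ∀ v, v ≠ 0 → (Odd.co2 p q v)⁻¹ * (y * Odd.co2 p q v * y⁻¹) ∈ Z → N y) :
    ∀ y ∈ Y, N y := by
  have m : ∀ v, Odd.co2 p q v ∈ Y := fun v => Y.mul_mem (Y.pow_mem hp _) (Y.pow_mem hq _)
  have k : ∀ y ∈ Y, ∀ v v', π y * Odd.co2 (π p) (π q) v * (π y)⁻¹ = Odd.co2 (π p) (π q) v' ↔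
      (Odd.co2 p q v')⁻¹ * (y * Odd.co2 p q v * y⁻¹) ∈ Z := fun y hy v v' => by
    rw [h.co2 hp hq, h.co2 hp hq, ← h.conj hy (m v),
      h.eq_iff (Y.mul_mem (Y.mul_mem hy (m v)) (Y.inv_mem hy)) (m v')]
  refine fun y hy => hN y hy fun v => ((T42.hayden (Y := ⊤) (p := π p) (q := π q) (t := π t)
    (t' := π t') trivial trivial trivial trivial (by rw [← h.pow hp, p3, h.one])
    (by rw [← h.pow hq, q3, h.one]) (by rw [Commute, SemiconjBy, ← h.mul _ hp _ hq, pq, h.mul _ hq _ hp])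
    (fun v v' e => by
      rw [h.co2 hp hq, h.co2 hp hq, h.eq_iff (m v) (m v'), ← sub_add_cancel v v', add_comm,
        co2_add p3 q3 pq, inv_mul_cancel_left] at e
      exact sub_eq_zero.1 (hi _ e))
    (by rw [← h.conj ht hp, tp, h.inv hp]) (by rw [← h.conj ht hq, tq])
    (by rw [← h.conj ht' hp, t'p]) (by rw [← h.conj ht' hq, t'q, h.inv hq])
    (fun y _ e => ?_) (fun y _ v hv e u => ?_)) (π y) trivial v).imp fun v' => (k y hy v v').1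
  · obtain ⟨y, hy, rfl⟩ := h.sur y
    obtain ⟨i, j, v, e⟩ := hN' y hy (hN y hy fun v => (e v).imp fun v' => (k y hy v v').1)
    have a := Y.mul_mem (Y.pow_mem ht i) (Y.pow_mem ht' j)
    refine ⟨i, j, v, ?_⟩
    rwa [h.co2 hp hq, ← h.pow ht, ← h.pow ht', ← h.mul _ (Y.pow_mem ht i) _ (Y.pow_mem ht' j),
      ← h.mul _ (m v) _ a, h.eq_iff hy (Y.mul_mem (m v) a)]
  · obtain ⟨y, hy, rfl⟩ := h.sur y
    exact (hN'' y hy (hC y hy v hv ((k y hy v v).1 (by rw [e]; simp))) u).imp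
      fun v' => (k y hy u v').2

end QM

/-- an involution acting nontrivially on a quaternion group -/
theorem q8_inv {ψ : Q8 →* G} (inj : Function.Injective ψ) {u : G} (uu : u * u = 1)
    (h : ∀ x, ∃ y, u * ψ x * u⁻¹ = ψ y) (hn : ¬ ∀ x, u * ψ x = ψ x * u) :
    ∃ x, ψ x * u * (ψ x)⁻¹ = u * ψ (.a 2) := by
  choose α e using h
  have m : ∀ x y, α (x * y) = α x * α y := fun x y => inj (by
    rw [map_mul, ← e, ← e, ← e, map_mul, conj_mul])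
  have ui := inv_eq_of_mul_eq_one_right uu
  have s : ∀ x, α (α x) = x := fun x => inj (by
    rw [← e, ← e, ui, ← mul_assoc, ← mul_assoc, uu, one_mul, mul_assoc, uu, mul_one])
  let β : Q8 → Q8 → Q8 → Q8 := fun A B x => match x with
    | .a k => A ^ k.val | .xa k => B * A ^ k.val
  have f : ∀ x, α x = β (α (.a 1)) (α (.xa 0)) x := fun x => by
    have := (by decide : ∀ x : Q8, x = β (.a 1) (.xa 0) x) x
    let a := MonoidHom.mk' α m
    rcases x with k | k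
    · exact (congrArg α this).trans (a.map_pow _ _)
    · exact (congrArg α this).trans ((m _ _).trans (congrArg _ (a.map_pow _ _)))
  rcases (by decide +kernel : ∀ A B, β A B A = .a 1 → β A B B = .xa 0 → (∀ x, β A B x = x) ∨
    ∃ x, β A B x * x⁻¹ = .a 2) _ _ (by rw [← f, s]) (by rw [← f, s]) with a | ⟨x, a⟩
  · exact (hn fun x => by rw [← mul_inv_eq_iff_eq_mul, e, f, a]).elim
  · refine ⟨x, ?_⟩
    rw [← a, ← f, map_mul, map_inv, ← e, ui, ← mul_assoc, ← mul_assoc, ← mul_assoc, uu, one_mul]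

end CL.O8
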