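/- Basic consequences of the frame: fusion in `J`, centralizers inside `N(J)`, the monomial group. -/
import Mathlib
import Cfsg.Agent.PERM.O8.Gen

set_option autoImplicit false
set_option maxRecDepth 100000
set_option synthInstance.maxSize 2000

namespace CL.O8

open Subgroup CL.Odd CL.Odd.MO

theorem em_ok : ∀ ε w, Orth (em ε w) ∧ (Ev (em ε w) ↔ w.1.val % 2 = 0) := by decide +kernel
theorem ap_em : ∀ ε w (a : F) (x : V3), ap (em ε w) (a, x) = (if ε then -a else a, sg w x) := by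
  decide +kernel
theorem cmp_em (ε δ : Bool) (a b : W48) : cmp (em ε a) (em δ b) = em (xor ε δ) (wm a b) :=
  lin_ext fun ⟨k, x⟩ => by
    rw [ap_cmp, ap_em, ap_em, ap_em, sg_wm]; cases ε <;> cases δ <;> simp
theorem mono : AllW fun T => ap T f0 = f0 ∨ ap T f0 = -f0 → ∃ ε w, T = em ε w := by decide +kernel

/-- the even coordinate permutations of order two -/
def nu (k : Fin 4) : Lin := ![oneL, (d1, f0, d3, d2), (d2, d3, f0, d1), (d3, d2, d1, f0)] k

theorem nu_ok : ∀ k, Orth (nu k) ∧ Ev (nu k) ∧ cmp (nu k) (nu k) = oneL := by decide +kernel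
theorem q1_ok : Orth q1L ∧ Ev q1L := by decide +kernel

/-- the plane centralized by the quaternion group of a singular vector -/
def Pl (v u : V) : Prop := dot u v = 0 ∧ (dot u u = 2 ∨ u = 0 ∨ u = v ∨ u = -v)
instance (v u : V) : Decidable (Pl v u) := by unfold Pl; infer_instance

theorem Orth.inj {T : Lin} (h : Orth T) : Function.Injective (ap T) := fun u v e => by
  have : ∀ x, dot u x = dot v x := fun x => by rw [← h.dot_ap, e, h.dot_ap]
  have a := this f0; have b := this d1; have c := this d2; have d := this d3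
  simp only [dot, f0, d1, d2, d3, mul_one, mul_zero, add_zero, zero_add] at a b c d
  exact Prod.ext a (Prod.ext b (Prod.ext c d))

theorem syl3 {G : Type*} [Group G] [Finite G] {X D : Subgroup G} (hD : IsPGroup 3 D) (DX : D ≤ X)
    (h : ∀ g ∈ X, (∀ d ∈ D, g * d * g⁻¹ ∈ D) → ∀ k : ℕ, g ^ 3 ^ k = 1 → g ∈ D) :
    ¬ 3 ∣ D.relIndex X := Tr.not_dvd_relIndex_of_maximal hD DX fun Q hQ h1 h2 => by
  by_contra h3
  obtain ⟨g, hg, hg'⟩ := SetLike.exists_of_lt (Tr.lt_inf_normalizer_of_lt hQ (lt_of_le_not_ge h1 h3))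
  obtain ⟨k, hk⟩ := hQ ⟨g, hg.1⟩
  exact hg' (h g (h2 hg.1) (fun y hy => Tr.conj_mem_of_mem_normalizer hg.2 hy) k
    (congrArg Subtype.val hk))

theorem eq_of_pow4 {G : Type*} [Group G] {g : G} {k : ℕ} (h : g ^ 3 ^ k = 1) : ∃ n, g = (g ^ 4) ^ n := by
  obtain ⟨n, hn⟩ := exists_pow_eq_self_of_coprime (x := g) (n := 4)
    (Nat.Coprime.coprime_dvd_right (orderOf_dvd_of_pow_eq_one h) (Nat.Coprime.pow_right k (by norm_num)))
  exact ⟨n, hn.symm⟩

namespace Fr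

variable {G : Type*} [Group G] (h : Fr G)

/-- the 2-central involution -/
abbrev t : G := h.w tL
/-- elements of `D` -/
abbrev d (x : V3) : G := h.co (0, x)
/-- normalizing `J` -/
abbrev N (g : G) : Prop := NJ h.co g
/-- the monomial group -/
def Γ : Subgroup MO where
  carrier := {p | h.c2 ∨ p.2.1.val % 2 = 0}
  one_mem' := Or.inr rfl
  mul_mem' := fun {a b} ha hb => ha.elim Or.inl fun ha => hb.imp_right fun hb =>
    (by decide +kernel : ∀ a b : Fin 24, a.val % 2 = 0 → b.val % 2 = 0 → (qm24 a b).val % 2 = 0)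
      _ _ ha hb
  inv_mem' := fun {a} ha => ha.imp_right
    ((by decide +kernel : ∀ a : Fin 24, a.val % 2 = 0 → (qi24 a).val % 2 = 0) _)
/-- the embedding of the monomial group -/
def nn (p : MO) : G := h.d p.1 * h.w (em false p.2)

theorem ev {p : MO} (e : p.2.1.val % 2 = 0 := by decide) : p ∈ h.Γ := Or.inr e
theorem ok_em {p : MO} (hp : p ∈ h.Γ) (ε : Bool) : OK h.c2 (em ε p.2) :=
  ⟨(em_ok _ _).1, hp.imp_right (em_ok _ _).2.2⟩
theorem ok_ev {T : Lin} (e : Orth T ∧ Ev T) : OK h.c2 T := ⟨e.1, Or.inr e.2⟩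
theorem ok_one : OK h.c2 oneL := h.ok_ev (by decide)
theorem ok_t : OK h.c2 tL := h.ok_ev (by decide)
theorem ok_tau : OK h.c2 tauL := h.ok_ev (by decide)
theorem w_one : h.w oneL = 1 := by
  have := h.w_mul _ _ h.ok_one h.ok_one
  rw [show cmp oneL oneL = oneL by decide] at this
  simpa using this
theorem co0 : h.co 0 = 1 := co_zero h.co_add
theorem con (v : V) : h.co (-v) = (h.co v)⁻¹ := co_neg h.co_add v
theorem coc (u v : V) : h.co u * h.co v = h.co v * h.co u := co_comm h.co_add u v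
theorem co3 (v : V) : h.co v ^ 3 = 1 := co_cube h.co_add v
theorem co_eq_one {v : V} : h.co v = 1 ↔ v = 0 := by rw [← h.co0, h.co_inj.eq_iff]
theorem d_add (x y : V3) : h.d (x + y) = h.d x * h.d y := by rw [← h.co_add]; rfl
theorem d_neg (x : V3) : h.d (-x) = (h.d x)⁻¹ := by
  rw [← h.con]; exact congrArg h.co (Prod.ext neg_zero.symm rfl)
theorem d_inj {x y : V3} (e : h.d x = h.d y) : x = y := congrArg Prod.snd (h.co_inj e)
theorem d_eq_one {x : V3} : h.d x = 1 ↔ x = 0 := ⟨fun e => h.d_inj (e.trans h.co0.symm), fun e => e ▸ h.co0⟩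
theorem w_comm {T U : Lin} (a : OK h.c2 T) (b : OK h.c2 U) (e : cmp T U = cmp U T) :
    h.w T * h.w U = h.w U * h.w T := by rw [← h.w_mul _ _ a b, e, h.w_mul _ _ b a]
theorem w_cube {T : Lin} (a : OK h.c2 T) (e : cmp (cmp T T) T = oneL) : h.w T ^ 3 = 1 := by
  rw [pow_succ, pow_two, ← h.w_mul _ _ a a, ← h.w_mul _ _ (h.ok_mul _ _ a a) a, e, h.w_one]
theorem w_sq {T : Lin} (a : OK h.c2 T) (e : cmp T T = oneL) : h.w T * h.w T = 1 := by
  rw [← h.w_mul _ _ a a, e, h.w_one]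
theorem tt : h.t * h.t = 1 := h.w_sq h.ok_t (by decide)
theorem ti : h.t⁻¹ = h.t := inv_eq_of_mul_eq_one_right h.tt
theorem act {T : Lin} (a : OK h.c2 T) (u v : V) :
    h.co u * h.w T * h.co v * (h.co u * h.w T)⁻¹ = h.co (ap T v) := by
  rw [← mul_inv_cancel_right (h.co (ap T v)) (h.co u), h.coc, ← h.w_act _ a]; group
theorem t_act (v : V) : h.t * h.co v * h.t⁻¹ = h.co (ap tL v) := h.w_act _ h.ok_t v
theorem t_ne : h.t ≠ 1 := fun e => by
  have := h.t_act f0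
  rw [e, one_mul, inv_one, mul_one] at this
  exact absurd (h.co_inj this) (by decide)
theorem dt (x : V3) : h.d x * h.t = h.t * h.d x := by
  have := h.t_act (0, x)
  rw [show ap tL (0, x) = (0, x) by simp [ap, tL, d1, d2, d3], mul_inv_eq_iff_eq_mul] at this
  exact this.symm
theorem nn_act {p : MO} (hp : p ∈ h.Γ) (a : F) (x : V3) :
    h.nn p * h.co (a, x) * (h.nn p)⁻¹ = h.co (a, sg p.2 x) := by
  rw [nn, h.act (h.ok_em hp _), ap_em]; rfl
theorem nn_mul {p q : MO} (hp : p ∈ h.Γ) (hq : q ∈ h.Γ) : h.nn (p * q) = h.nn p * h.nn q := by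
  have := h.w_act _ (h.ok_em hp false) (0, q.1)
  rw [ap_em, mul_inv_eq_iff_eq_mul] at this
  show h.d (p.1 + sg p.2 q.1) * h.w (em (xor false false) (wm p.2 q.2)) = _
  rw [← cmp_em, h.w_mul _ _ (h.ok_em hp _) (h.ok_em hq _), d_add, nn, nn, mul_assoc, mul_assoc,
    ← mul_assoc (h.w _), this, mul_assoc]
  rfl
theorem nn_tau (x : V3) : h.nn (MO.mk x (0, false)) = h.d x := by
  rw [nn, show em false (MO.mk x (0, false)).2 = oneL from by show em false (0, false) = _; decide, h.w_one,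
    mul_one]; rfl
theorem nn_one : h.nn 1 = 1 := (h.nn_tau 0).trans h.co0
theorem nn_lin (w : W48) : h.nn (MO.mk 0 w) = h.w (em false w) := by
  rw [nn]; exact (congrArg (· * _) h.co0).trans (one_mul _)
theorem nn_inv {p : MO} (hp : p ∈ h.Γ) : h.nn p⁻¹ = (h.nn p)⁻¹ := by
  rw [eq_inv_iff_mul_eq_one, ← h.nn_mul (h.Γ.inv_mem hp) hp, inv_mul_cancel, h.nn_one]
theorem nn_conj {p q : MO} (hp : p ∈ h.Γ) (hq : q ∈ h.Γ) :
    h.nn (p * q * p⁻¹) = h.nn p * h.nn q * (h.nn p)⁻¹ := by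
  rw [h.nn_mul (h.Γ.mul_mem hp hq) (h.Γ.inv_mem hp), h.nn_mul hp hq, h.nn_inv hp]
theorem nn_pow {p : MO} (hp : p ∈ h.Γ) (n : ℕ) : h.nn (p ^ n) = h.nn p ^ n := by
  induction n with
  | zero => simpa using h.nn_one
  | succ n ih => rw [pow_succ, pow_succ, h.nn_mul (h.Γ.pow_mem hp n) hp, ih]
theorem nn_comm {p q : MO} (hp : p ∈ h.Γ) (hq : q ∈ h.Γ) (e : p * q = q * p) :
    h.nn p * h.nn q = h.nn q * h.nn p := by rw [← h.nn_mul hp hq, e, h.nn_mul hq hp]
theorem nn_t {p : MO} (hp : p ∈ h.Γ) : h.nn p * h.t = h.t * h.nn p := by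
  rw [nn, mul_assoc, h.w_comm (h.ok_em hp _) h.ok_t (by
    rw [show tL = em true (0, false) by decide, cmp_em, cmp_em]
    exact congrArg _ (sg_inj fun x => by simp [sg_wm, sg_one])), ← mul_assoc, h.dt, mul_assoc]
theorem nn_eq_d {p : MO} (e : ∀ x, sg p.2 x = x) : h.nn p = h.d p.1 := by
  rw [← h.nn_tau, ← show p.2 = (0, false) from sg_inj fun x => by rw [e, sg_one]]; rfl
theorem nn_eq_one {p : MO} (hp : p ∈ h.Γ) (e : h.nn p = 1 ∨ h.nn p = h.t) : p = 1 := by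
  have a : ∀ x, sg p.2 x = x := fun x => h.d_inj (by
    refine (h.nn_act hp 0 x).symm.trans ?_; rcases e with e | e <;> rw [e]
    · simp
    · rw [← h.dt]; simp)
  rw [h.nn_eq_d a] at e
  refine Prod.ext (h.d_eq_one.1 (e.elim id fun e => ?_)) (sg_inj fun x => (a x).trans (sg_one x).symm)
  have := h.co3 (0, p.1)
  rw [pow_succ, pow_two, show h.co (0, p.1) = h.t from e, h.tt, one_mul] at this
  exact e.trans this

theorem nj_w {T : Lin} (a : OK h.c2 T) : h.N (h.w T) := fun v => ⟨_, h.w_act _ a v⟩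
theorem nj_co (v : V) : h.N (h.co v) := fun u => ⟨u, by rw [h.coc]; simp⟩
theorem nj_mul {a b : G} (ha : h.N a) (hb : h.N b) : h.N (a * b) := fun v => by
  obtain ⟨u, e⟩ := hb v
  obtain ⟨u', e'⟩ := ha u
  exact ⟨u', by rw [← e', ← e]; group⟩
theorem nj_nn {p : MO} (hp : p ∈ h.Γ) : h.N (h.nn p) := h.nj_mul (h.nj_co _) (h.nj_w (h.ok_em hp _))
theorem nj_act {g : G} (hg : h.N g) : ∃ T, OK h.c2 T ∧ ∀ v, g * h.co v * g⁻¹ = h.co (ap T v) := by
  obtain ⟨v, T, a, rfl⟩ := h.nj g hg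
  exact ⟨T, a, h.act a v⟩
theorem cj {c : G} (e : ∀ v, c * h.co v = h.co v * c) : ∃ v, c = h.co v := by
  obtain ⟨v, T, a, rfl⟩ := h.nj c fun v => ⟨v, by rw [e]; simp⟩
  have : T = oneL := lin_ext fun u => h.co_inj (by rw [← h.act a v, e, ap_one, mul_inv_cancel_right])
  exact ⟨v, by rw [this, h.w_one, mul_one]⟩

/-- elements of `N(J)` fixing the line `f0` -/
theorem nj_f0 {g : G} (hg : h.N g) (e : g * h.co f0 * g⁻¹ = h.co f0 ∨ g * h.co f0 * g⁻¹ = h.co (-f0)) :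
    ∃ p ∈ h.Γ, ∃ k : F, g = h.co (k, 0) * h.nn p ∨ g = h.co (k, 0) * h.nn p * h.t := by
  obtain ⟨⟨k, x⟩, T, a, rfl⟩ := h.nj g hg
  rw [h.act a] at e
  obtain ⟨ε, w, rfl⟩ := mono.of a.1 (e.imp (h.co_inj ·) (h.co_inj ·))
  have m : MO.mk x w ∈ h.Γ := a.2.imp_right (em_ok _ _).2.1
  have c : h.co (k, x) = h.co (k, 0) * h.d x := by rw [← h.co_add]; simp
  refine ⟨_, m, k, ?_⟩
  cases ε
  · exact Or.inl (by rw [c, mul_assoc]; rfl)
  · refine Or.inr ?_
    have := h.w_mul _ _ (h.ok_em m false) h.ok_t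
    rw [show tL = em true (0, false) by decide, cmp_em,
      show wm (MO.mk x w).2 (0, false) = w from sg_inj fun x => by rw [sg_wm, sg_one]; rfl] at this
    rw [c, nn, mul_assoc, mul_assoc, mul_assoc]
    exact congrArg _ (congrArg _ this)

/-- the centralizer of `t` in `N(J)` -/
theorem nh {g : G} (hg : h.N g) (e : g * h.t = h.t * g) :
    ∃ p ∈ h.Γ, g = h.nn p ∨ g = h.nn p * h.t := by
  obtain ⟨T, a, b⟩ := h.nj_act hg
  have c : -ap T f0 = ap tL (ap T f0) := h.co_inj (by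
    rw [← h.t_act, ← ap_neg, ← b, ← b, ← show ap tL f0 = -f0 by decide, ← h.t_act]
    calc _ = g * h.t * h.co f0 * (g * h.t)⁻¹ := by group
      _ = _ := by rw [e]; group)
  obtain ⟨p, hp, k, e'⟩ := h.nj_f0 hg (by
    rw [b]
    exact ((by decide +kernel : ∀ c, dot c c = 1 → -c = ap tL c → c = f0 ∨ c = -f0) _
      (a.1.dot_ap _ _) c).imp (congrArg _) (congrArg _))
  have : h.co (k, 0) * h.t = h.t * h.co (k, 0) := by
    have := h.nn_t hp
    rcases e' with rfl | rfl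
    · rwa [mul_assoc, this, ← mul_assoc, ← mul_assoc, mul_left_inj] at e
    · rwa [← mul_assoc, mul_left_inj, mul_assoc, this, ← mul_assoc, ← mul_assoc, mul_left_inj] at e
  have k0 := h.t_act (k, 0)
  rw [← this, mul_inv_cancel_right] at k0
  rw [(by decide : ∀ k : F, ((k, 0) : V) = ap tL (k, 0) → ((k, 0) : V) = 0) k (h.co_inj k0), h.co0,
    one_mul] at e'
  exact ⟨p, hp, e'⟩

abbrev q1 : G := h.w q1L
abbrev τ : G := h.w tauL
theorem q1a (v : V) : h.q1 * h.co v * h.q1⁻¹ = h.co (ap q1L v) := h.w_act _ (h.ok_ev q1_ok) v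
theorem τa (v : V) : h.τ * h.co v * h.τ⁻¹ = h.co (ap tauL v) := h.w_act _ h.ok_tau v
theorem q13 : h.q1 ^ 3 = 1 := h.w_cube (h.ok_ev q1_ok) (by decide)
theorem τ3 : h.τ ^ 3 = 1 := h.w_cube h.ok_tau (by decide)
theorem q1τ : h.q1 * h.τ = h.τ * h.q1 := h.w_comm (h.ok_ev q1_ok) h.ok_tau (by decide)
theorem nn_τ : h.nn (MO.mk 0 (2, false)) = h.τ := h.nn_lin _
/-- the Sylow 3-subgroup -/
abbrev S : Subgroup G := SS h.co_add h.q1a h.τa h.q13 h.τ3 h.q1τ
/-- images of subspaces -/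
abbrev J (A : AddSubgroup V) : Subgroup G := JS h.co_add A

variable [Finite G]

theorem nj_inv {a : G} (ha : h.N a) : h.N a⁻¹ :=
  (nj_iff' h.co_add).2 (inv_mem ((nj_iff' h.co_add).1 ha))
theorem wcj {g : G} (e : ∀ v, h.N (g * h.co v * g⁻¹)) : h.N g :=
  O8.wcj h.co_add h.co_inj h.q1a h.τa h.q13 h.τ3 h.q1τ h.card e
theorem wcJ : WC ⊤ (h.J ⊤) := O8.wcJ h.co_add h.co_inj h.q1a h.τa h.q13 h.τ3 h.q1τ h.card

theorem na {A : Set V} (hA : ∀ c, (∀ v ∈ A, c * h.co v = h.co v * c) → h.N c) {g : G}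
    (hg : ∀ v ∈ A, ∃ v', g * h.co v * g⁻¹ = h.co v') : h.N g := by
  simpa using h.nj_inv (h.wcj (g := g⁻¹) fun u => hA _ fun v hv => by
    obtain ⟨v', e⟩ := hg v hv
    calc _ = g⁻¹ * (h.co u * (g * h.co v * g⁻¹)) * g := by group
      _ = g⁻¹ * (g * h.co v * g⁻¹ * h.co u) * g := by rw [e, h.coc]
      _ = _ := by group)

theorem fus {A : Set V} {g : G} (hg : ∀ v ∈ A, ∃ v', g * h.co v * g⁻¹ = h.co v') :
    ∃ T, OK h.c2 T ∧ ∀ v ∈ A, g * h.co v * g⁻¹ = h.co (ap T v) := by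
  obtain ⟨c, a, b⟩ := fusJ h.co_add h.co_inj h.q1a h.τa h.q13 h.τ3 h.q1τ h.card hg
  obtain ⟨T, a, e⟩ := h.nj_act a
  exact ⟨T, a, fun v hv => by rw [← e, ← b v hv]; group⟩

theorem fus2 {g : G} {u v u' v' : V} (a : g * h.co u * g⁻¹ = h.co u') (b : g * h.co v * g⁻¹ = h.co v') :
    dot u' u' = dot u u ∧ dot v' v' = dot v v ∧ dot u' v' = dot u v := by
  obtain ⟨T, c, e⟩ := h.fus (A := {u, v}) (g := g) (by rintro _ (rfl | rfl); exacts [⟨_, a⟩, ⟨_, b⟩])
  rw [h.co_inj (a.symm.trans (e u (by simp))), h.co_inj (b.symm.trans (e v (by simp)))]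
  exact ⟨c.1.dot_ap _ _, c.1.dot_ap _ _, c.1.dot_ap _ _⟩

theorem c1 {v u : V} (v0 : v ≠ 0) (hv : dot v v = 0) (hu : ¬ Pl v u) {c : G}
    (a : c * h.co v = h.co v * c) (b : c * h.co u = h.co u * c) : h.N c := by
  have k : ∀ {u c}, ¬ Pl zv u → c * h.co zv = h.co zv * c → c * h.co u = h.co u * c → h.N c :=
    fun {u c} hu a b => by
      obtain ⟨x, e⟩ := h.cz c a
      obtain ⟨u', e'⟩ := e u
      have n : h.N (h.ψ x⁻¹) := by
        rcases h.rj x⁻¹ u u' (by rw [← e', map_inv, mul_assoc _ c, b]; group) with r | r | r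
        · rw [r, map_one, ← h.co0]; exact h.nj_co 0
        · rw [r, h.ψt]; exact h.nj_w h.ok_t
        · exact (hu ((by decide +kernel : ∀ u : V, u.1 = 0 ∧ dot u zv = 0 → Pl zv u) u r)).elim
      simpa using h.nj_mul (h.nj_inv n) e
  obtain ⟨i, w, e, rfl⟩ := (by decide +kernel : ∀ v : V, v ≠ 0 → dot v v = 0 → ∃ i, ∃ w : W48,
    w.1.val % 2 = 0 ∧ ap (nu i) (ap (em false w) zv) = v) v v0 hv
  have o : OK h.c2 (cmp (nu i) (em false w)) :=
    h.ok_mul _ _ (h.ok_ev ⟨(nu_ok i).1, (nu_ok i).2.1⟩) (h.ok_em (p := MO.mk 0 w) (h.ev e) false)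
  rw [← ap_cmp] at *
  generalize cmp (nu i) (em false w) = T at *
  obtain ⟨u, rfl⟩ := Finite.surjective_of_injective o.1.inj u
  have f : ∀ {x}, c * h.co (ap T x) = h.co (ap T x) * c →
      (h.w T)⁻¹ * c * h.w T * h.co x = h.co x * ((h.w T)⁻¹ * c * h.w T) := fun {x} e => by
    rw [← h.w_act _ o] at e
    calc _ = (h.w T)⁻¹ * (c * (h.w T * h.co x * (h.w T)⁻¹)) * h.w T := by group
      _ = _ := by rw [e]; group
  have := k (u := u) (fun e => hu (by
    simp only [Pl, o.1.dot_ap, ← ap_neg, o.1.inj.eq_iff]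
    exact ⟨e.1, e.2.imp_right (Or.imp_left fun e => by rw [e, ap_zero])⟩)) (f a) (f b)
  simpa [mul_assoc] using h.nj_mul (h.nj_mul (h.nj_w o) this) (h.nj_inv (h.nj_w o))

/-- `τ` is not conjugate into `J` -/
theorem tau {g : G} {v : V} : g * h.τ * g⁻¹ ≠ h.co v := fun e => by
  have pS := SS_p h.co_add h.co_inj h.q1a h.τa h.q13 h.τ3 h.q1τ
  have mc : ∀ u, h.co u ∈ h.S := fun u => ⟨u, 0, 0, by simp⟩
  have cf : ∀ u, ap tauL u = u → h.co u ∈ h.S ⊓ Odd.cz h.τ := fun u e =>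
    ⟨mc u, mem_cz_comm.1 (mem_cz.2 (by rw [h.τa, e]))⟩
  obtain ⟨c, hc, e1⟩ := (h.wcJ.mono (Y := Odd.cz (h.co v)) le_top).into
    (by rintro _ ⟨u, -, rfl⟩; exact mem_cz'.2 (h.coc _ _)) (JS_p _ _)
    ((pS.to_inf_left (K := Odd.cz h.τ)).map (MulAut.conj g).toMonoidHom) (by
      rintro _ ⟨b, hb, rfl⟩; exact e ▸ conj_mem_cz g hb.2)
  obtain ⟨n, hn, e2⟩ := into_SS h.co_add h.co_inj h.q1a h.τa h.q13 h.τ3 h.q1τ h.card
    ((pS.to_inf_left (K := Odd.cz h.τ)).map (MulAut.conj (c * g)).toMonoidHom) (by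
      rintro _ ⟨b, hb, rfl⟩
      exact (nj_iff h.co_add).2 (by simpa [mul_assoc] using e1 _ ⟨b, hb, rfl⟩))
  obtain ⟨v', e3⟩ := hn v
  have e4 : n * c * g * h.τ * (n * c * g)⁻¹ = h.co v' := by rw [← e3, ← mem_cz.1 hc, ← e]; group
  have e5 : ∀ b ∈ h.S ⊓ Odd.cz h.τ, n * c * g * b * (n * c * g)⁻¹ ∈ h.S := fun b hb => by
    simpa [mul_assoc] using e2 _ ⟨b, hb, rfl⟩
  generalize n * c * g = k at e4 e5
  obtain ⟨u, i, j, a⟩ := e5 h.q1 ⟨⟨0, 1, 0, by simp [h.co0, ZMod.val_one]⟩, mem_cz'.2 h.q1τ⟩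
  obtain ⟨u', i', j', b⟩ := e5 _ (cf f0 (by decide))
  have z : k * h.co zv * k⁻¹ = h.co (u + u9 i j u' - (u' + u9 i' j' u)) := by
    have : h.co zv = h.q1 * h.co f0 * (h.co f0 * h.q1)⁻¹ := by
      rw [mul_inv_rev, ← mul_assoc, h.q1a, ← h.con, ← h.co_add]; congr 1
    rw [this, sub_eq_add_neg, h.co_add, h.con, h.co_add, h.co_add, ← u9_act h.q1a h.τa,
      ← u9_act h.q1a h.τa, ← conj_mul, ← conj_inv, ← conj_mul, ← conj_mul, a, b]
    have := (ab_add h.q13 h.τ3 h.q1τ i j i' j').symm.trans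
      (add_comm i i' ▸ add_comm j j' ▸ ab_add h.q13 h.τ3 h.q1τ i' j' i j)
    generalize h.q1 ^ i.val * h.τ ^ j.val = y at *
    generalize h.q1 ^ i'.val * h.τ ^ j'.val = y' at *
    calc _ = h.co u * y * h.co u' * y' * y⁻¹ * (h.co u)⁻¹ * y'⁻¹ * (h.co u')⁻¹ := by group
      _ = h.co u * y * h.co u' * y⁻¹ * (y * y') * y⁻¹ * (h.co u)⁻¹ * y'⁻¹ * (h.co u')⁻¹ := by group
      _ = _ := by rw [this]; group
  obtain ⟨T, o, e6⟩ := h.fus (A := {zv}) (g := k) (by rintro _ rfl; exact ⟨_, z⟩)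
  have e7 : (h.w T)⁻¹ * k * h.co zv = h.co zv * ((h.w T)⁻¹ * k) := by
    have := e6 zv rfl
    rw [← h.w_act _ o] at this
    calc _ = (h.w T)⁻¹ * (k * h.co zv * k⁻¹) * k := by group
      _ = _ := by rw [this]; group
  obtain ⟨x, e8⟩ := h.cz _ e7
  obtain ⟨U, o', e9⟩ := h.nj_act e8
  have ψz := h.ψz x
  have Uz : ap U zv = zv := h.co_inj (by
    rw [← e9, mul_assoc (h.ψ x)⁻¹, e7]
    calc _ = (h.ψ x)⁻¹ * h.co zv * h.ψ x := by group
      _ = _ := by rw [mul_assoc, ← ψz]; simp)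
  obtain ⟨l, m, e10⟩ := (by decide +kernel : ∀ u : V, dot u zv = 0 → dot u u = 2 →
    ∃ l m : Fin 3, u = l.val • zv + m.val • a0) (ap U a0) (by rw [← Uz, o'.1.dot_ap]; decide)
    (by rw [o'.1.dot_ap]; decide)
  have e11 : h.ψ x * h.co (ap U a0) = h.co (ap U a0) * h.ψ x := by
    have : ∀ (l : ℕ) v, h.co (l • v) = h.co v ^ l := fun l v => by
      induction l with
      | zero => simpa using h.co0
      | succ l ih => rw [succ_nsmul, h.co_add, ih, pow_succ]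
    rw [e10, h.co_add, this, this]
    exact (((show Commute _ _ from ψz).pow_right _).mul_right
      ((show Commute _ _ from h.ψa x).pow_right _)).eq
  have e12 : k * h.co a0 * k⁻¹ = h.co (ap T (ap U a0)) := by
    rw [← h.w_act _ o, ← mul_inv_cancel_right (h.co (ap U a0)) (h.ψ x), ← e11, ← e9]; group
  have := h.coc v' (ap T (ap U a0))
  rw [← e4, ← e12, conj_mul, conj_mul, mul_left_inj, mul_right_inj, ← mul_inv_eq_iff_eq_mul,
    h.τa] at this
  exact absurd (h.co_inj this) (by decide)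

/-- elements of `N_H(D)` conjugate into `J` lie in `D` -/
theorem inD {p : MO} (hp : p ∈ h.Γ) {y g : G} {v : V} (e : y = h.nn p ∨ y = h.nn p * h.t)
    (c : g * h.co v * g⁻¹ = y) : ∃ x, y = h.d x := by
  have y3 : y ^ 3 = 1 := by rw [← c, conj_pow, h.co3]; simp
  have p3 : p ^ 3 = 1 := h.nn_eq_one (h.Γ.pow_mem hp 3) (by
    rw [h.nn_pow hp]
    rcases e with rfl | rfl
    · exact Or.inl y3
    · rw [(show Commute _ _ from h.nn_t hp).mul_pow, mul_eq_one_iff_eq_inv, pow_succ h.t, pow_two,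
        h.tt, one_mul, h.ti] at y3
      exact Or.inr y3)
  obtain rfl : y = h.nn p := e.elim id fun e => by
    rw [e, (show Commute _ _ from h.nn_t hp).mul_pow, ← h.nn_pow hp, p3, h.nn_one, one_mul,
      pow_succ, pow_two, h.tt, one_mul] at y3
    exact (h.t_ne y3).elim
  rcases (by decide +kernel : ∀ a : MO, a ^ 3 = 1 → a.2 = (0, false) ∨ ∃ i ∈ [0, 6, 12, 18], ∃ x,
    MO.mk x (i, false) * a * (MO.mk x (i, false))⁻¹ = MO.mk 0 (2, false) ∨
    MO.mk x (i, false) * a⁻¹ * (MO.mk x (i, false))⁻¹ = MO.mk 0 (2, false)) p p3 with a | ⟨i, hi, x, a⟩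
  · exact ⟨p.1, h.nn_eq_d fun x => by rw [a, sg_one]⟩
  · have m : MO.mk x (i, false) ∈ h.Γ := h.ev ((by decide : ∀ i ∈ ([0, 6, 12, 18] : List (Fin 24)),
      i.val % 2 = 0) i hi)
    rcases a with a | a
    · have := congrArg h.nn a
      rw [h.nn_conj m hp, h.nn_τ, ← c] at this
      exact (h.tau (g := (h.nn (MO.mk x (i, false)) * g)⁻¹) (v := v) (by rw [← this]; group)).elim
    · have := congrArg h.nn a
      rw [h.nn_conj m (h.Γ.inv_mem hp), h.nn_inv hp, h.nn_τ, ← c] at this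
      exact (h.tau (g := (h.nn (MO.mk x (i, false)) * g)⁻¹) (v := -v) (by rw [← this, h.con]; group)).elim

end Fr

end CL.O8
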