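/- Centralizers of vectors of norm one lie in N(J).  Tools: PERM/O8/Bas (`h.na`, `h.c1`, `h.nh`,
`h.nj_f0`, `h.nn_act`, `h.tau`, `nu`, `AllW`), PERM/O8/Gen (`exists_qm`, `QM.hayden`), PERM/S9FourB (`S9Hyp.four`).
`h.na` : if C(co A) ≤ N(J) and g maps co A into J then g ∈ N(J).  `h.c1` : C(co v, co u) ≤ N(J) if v is singular
and ¬ Pl v u (e.g. dot u u = 1).
CASE h.c2.  Claim C(co f0) ≤ N(J); then cu, cl follow by conjugating with w (nu 1) (swaps f0, d1; `nj_mul`, `nj_inv`).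
π from `exists_qm` for Y = cz (co f0), Z = zpowers (co f0); ι : U 3 →* Q, p ↦ π (h.nn p.1) (`nn_mul`; every p is in
h.Γ; `nn_act` with (1,0) shows nn p ∈ Y; nn (tau 3 x).1 = h.d x by `nn_tau`).  S9Hyp ι:
inj: nn p = co (k,0) fixes D pointwise, so nn p = d p.1 (`nn_eq_d`), p = 1.  For y ∈ Y with h.N y, `nj_f0` gives
y = co (k,0) * nn p (the form with * t inverts co f0), so π y ∈ ι.range.  norm: y maps D into J and fixes f0, so N y.
cent: `na` with A = {f0, zv} (c1).  sig: `CL.coprime_le_of_forall_centralizer_le` (SOLV/CoprimeGen) with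
A = (Js 3 (1,1,1)).map ι (order 9, exponent 3, not cyclic): for x ≠ 0, x·(1,1,1) = 0, y maps {f0, (0,x)} into J and
one of (0,x), (1,x) is singular, so `na` + `c1` (u = f0) give N y.  So K ≤ ι.range; for k = ι p ∈ K,
k ι(tau x) k⁻¹ ι(tau x)⁻¹ ∈ K has cube 1, so it is 1 (`cube_eq_one`), act p = id, p = tau, k^3 = 1, k = 1.
`four`: ι.range = ⊤ gives the claim.  If e : Q ≃* Perm (Fin 9): y = e (π τ) has y^3 = 1, so it is conjugate
(cycleType, `Equiv.Perm.cycleType_prime_order`, `isConj_iff_cycleType_eq`) to an element of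
B = ⟨(0 1 2),(3 4 5),(6 7 8)⟩ (abelian, exponent 3, order 27 > 9); e⁻¹ B is conjugate into the Sylow subgroup
(S3 3).map ι (`pS`, `iS`) ≤ ι.range, hence into (Js 3 0).map ι by `le_J`.  So π (g τ g⁻¹) = π (d x) and
g τ g⁻¹ = co (k,x), against `h.tau`.
CASE ¬ h.c2.  cu: `QM.hayden` with Y = cz (co d1) ⊓ cz (co d2), Z = h.J {v | v.1 = 0 ∧ v.2.2.2 = 0}, p = co f0,
q = co d3, t = h.t, t' = s3 = h.nn (MO.mk 0 (6,true)), N = h.N.  hN: y maps the basis into J.  hN': y = co v * w T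
(`h.nj`) with T fixing d1, d2 and Ev T, so T ∈ {oneL, tL, s3, tL s3} (AllW, decide).  hC: `na` with
A = {d1, d2, v}: d1 + d2 + v or d1 + v is singular, u = d1.
cl: `QM.hayden` with Y = cz t ⊓ cz (co d1), Z = {co d1 ^ k * t ^ ε}, p = co d2, q = co d3, t = s2 = nn (MO.mk 0 (12,true)),
t' = s3.  An element co v * co d1 ^ k * t ^ ε of cube 1 has ε = 0.  hN: `na` with A = {(0,x)} (c1: zv, d1).
hN': `nh`, p even fixing (1,0,0) has p.2 ∈ ⟨s2,s3⟩ (decide).  hC: `na` with A = {d1, v}: v = ± d2 by cu,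
v = ± d3 by cu conjugated with τ, otherwise d1 + v is singular (c1, u = d1). -/
import Mathlib
import Cfsg.Agent.PERM.O8.Bas
import Cfsg.Agent.PERM.S9FourB
import Cfsg.Agent.PERM.L43Y

set_option autoImplicit false
set_option maxRecDepth 100000
set_option synthInstance.maxSize 2000

namespace CL.O8.Fr

open Subgroup CL.Odd CL.Odd.MO

variable {G : Type*} [Group G] [Finite G] (h : Fr G)

/-- `y` maps `co v` into `J` -/
def Mp (y : G) (v : V) : Prop := ∃ v', y * h.co v * y⁻¹ = h.co v'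

section
omit [Finite G]

theorem mp_add {y : G} {u v : V} (a : h.Mp y u) (b : h.Mp y v) : h.Mp y (u + v) := by
  obtain ⟨u', a⟩ := a
  obtain ⟨v', b⟩ := b
  exact ⟨u' + v', by rw [h.co_add, h.co_add, ← a, ← b, conj_mul]⟩

theorem mp_neg {y : G} {u : V} (a : h.Mp y (-u)) : h.Mp y u := by
  obtain ⟨u', a⟩ := a
  exact ⟨-u', by rw [h.con, ← a, h.con]; group⟩

theorem mp_cz {y : G} {u : V} (a : y ∈ Odd.cz (h.co u)) : h.Mp y u := ⟨u, mem_cz.1 a⟩

theorem co_smul (k : F) (v : V) : h.co (k • v) = h.co v ^ k.val := by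
  rcases zmod3_cases k with rfl | rfl | rfl
  · simp [h.co0]
  · simp [ZMod.val_one]
  · rw [two_smul, h.co_add]; exact (pow_two _).symm

theorem cz_smul {y : G} {u : V} (a : y ∈ Odd.cz (h.co u)) (k : F) : y * h.co (k • u) = h.co (k • u) * y := by
  rw [h.co_smul]; exact ((show Commute y (h.co u) from mem_cz'.1 a).pow_right _).eq

theorem co2_co (u v : V) (x : V2) : co2 (h.co u) (h.co v) x = h.co (x.1 • u + x.2 • v) := by
  rw [co2, h.co_add, h.co_smul, h.co_smul]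

theorem w_cz {T : Lin} (a : OK h.c2 T) {v : V} (e : ap T v = v) : h.w T ∈ Odd.cz (h.co v) :=
  mem_cz.2 (by rw [h.w_act _ a, e])

theorem co_cz (u v : V) : h.co u ∈ Odd.cz (h.co v) := mem_cz'.2 (h.coc _ _)

theorem cz_conj {T : Lin} (a : OK h.c2 T) {c : G} {v : V} (e : c * h.co v = h.co v * c) :
    h.w T * c * (h.w T)⁻¹ * h.co (ap T v) = h.co (ap T v) * (h.w T * c * (h.w T)⁻¹) := by
  rw [← h.w_act _ a, conj_mul, conj_mul, e]

theorem not_dt {y : G} {v : V} {x : V3} : y * h.co v * y⁻¹ ≠ h.d x * h.t := fun e => by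
  have := congrArg (· ^ 3) e
  simp only [conj_pow, h.co3, (show Commute _ _ from h.dt x).mul_pow] at this
  rw [pow_succ h.t, pow_two, h.tt] at this
  exact h.t_ne (by simpa using this.symm)

end

theorem n_conj {T : Lin} (a : OK h.c2 T) {c : G} (e : h.N (h.w T * c * (h.w T)⁻¹)) : h.N c := by
  simpa [mul_assoc] using h.nj_mul (h.nj_mul (h.nj_inv (h.nj_w a)) e) (h.nj_w a)

theorem na2 {y : G} {u v : V} (hA : ∀ c, c * h.co u = h.co u * c → c * h.co v = h.co v * c → h.N c)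
    (a : h.Mp y u) (b : h.Mp y v) : h.N y :=
  h.na (A := {u, v}) (fun c e => hA c (e u (by simp)) (e v (by simp))) (by rintro _ (rfl | rfl); exacts [a, b])

theorem n2 {y : G} {u v : V} (e : v ≠ 0 ∧ dot v v = 0 ∧ ¬ Pl v u) (a : h.Mp y v) (b : h.Mp y u) : h.N y :=
  h.na2 (fun _ => h.c1 e.1 e.2.1 e.2.2) a b

theorem cf (c2 : h.c2) {c : G} (hc : c * h.co f0 = h.co f0 * c) : h.N c := by
  let A : AddSubgroup V := (AddMonoidHom.snd F V3).ker
  have mZ : ∀ {y}, y ∈ Odd.cz (h.co f0) → ∀ z ∈ h.J A, y * z = z * y := by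
    rintro y hy _ ⟨⟨k, x⟩, hx, rfl⟩
    obtain rfl : x = 0 := hx
    exact (by decide : ∀ k : F, k • f0 = (k, 0)) k ▸ h.cz_smul hy k
  obtain ⟨Q, _, _, π, q⟩ := exists_qm (Y := Odd.cz (h.co f0)) (Z := h.J A) fun y hy z hz => by
    rwa [mZ hy z hz, mul_inv_cancel_right]
  have Γ : ∀ p, p ∈ h.Γ := fun _ => Or.inl c2
  have nY : ∀ p, h.nn p ∈ Odd.cz (h.co f0) := fun p => mem_cz.2 ((h.nn_act (Γ p) 1 0).trans (by
    rw [show sg p.2 0 = 0 by simpa using sg_add p.2 0 0]; rfl))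
  let ι : U 3 →* Q := MonoidHom.mk' (fun p => π (h.nn p.1)) fun a b => by
    rw [← q.mul _ (nY _) _ (nY _), ← h.nn_mul (Γ _) (Γ _)]; rfl
  have ιt : ∀ x, ι (MO.tau 3 x) = π (h.d x) := fun x => congrArg π (h.nn_tau x)
  have inj : Function.Injective ι := (injective_iff_map_eq_one ι).2 fun p e => by
    obtain ⟨v, hv, e⟩ := (q.ker _ (nY p.1)).1 e
    have a := h.nn_eq_d (p := p.1) fun x => h.d_inj ((h.nn_act (Γ p.1) 0 x).symm.trans (by
      rw [← e, h.coc, mul_inv_cancel_right]))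
    refine Subtype.ext (h.nn_eq_one (Γ _) (.inl ?_))
    rw [a, h.d_eq_one, ← show v.2 = 0 from hv, h.co_inj (e.trans a)]
  have rng : ∀ y ∈ Odd.cz (h.co f0), h.N y → π y ∈ ι.range := fun y hy n => by
    obtain ⟨p, -, k, rfl | rfl⟩ := h.nj_f0 n (.inl (mem_cz.1 hy))
    · exact ⟨⟨p, rfl⟩, by
        rw [q.mul _ (h.co_cz _ _) _ (nY p), (q.ker _ (h.co_cz _ _)).2 ⟨(k, 0), rfl, rfl⟩, one_mul]; rfl⟩
    · have := mem_cz.1 ((mul_mem_cancel_left (mul_mem (h.co_cz (k, 0) f0) (nY p))).1 hy)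
      rw [h.t_act] at this
      exact absurd (h.co_inj this) (by decide)
  have tr : ∀ y ∈ Odd.cz (h.co f0), ∀ x x', π y * ι (MO.tau 3 x) * (π y)⁻¹ = ι (MO.tau 3 x') →
      h.Mp y (0, x) := fun y hy x x' e => by
    rw [ιt, ιt, ← q.conj hy (h.co_cz _ _), q.eq_iff (mul_mem (mul_mem hy (h.co_cz _ _)) (inv_mem hy))
      (h.co_cz _ _)] at e
    obtain ⟨v, -, e⟩ := e
    exact ⟨(0, x') + v, by rw [h.co_add, e, mul_inv_cancel_left]⟩
  have nz : ∀ y ∈ Odd.cz (h.co f0), ∀ x', π y * ι (MO.tau 3 cc) * (π y)⁻¹ = ι (MO.tau 3 x') →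
      π y ∈ ι.range := fun y hy x' e => rng y hy (h.n2 (v := zv) (by decide) (tr y hy _ _ e) (h.mp_cz hy))
  have H : S9Hyp ι := ⟨inj, fun g e => by
      obtain ⟨y, hy, rfl⟩ := q.sur g
      exact (e cc).elim (nz y hy), fun g e => by
      obtain ⟨y, hy, rfl⟩ := q.sur g
      exact nz y hy _ (mem_cz.1 e), fun K k3 nK => by
      have c9 : Nat.card ((Js 3 cc).map ι) = 9 := by rw [card_map_of_injective inj, card_Js]; rfl
      have : IsMulCommutative ((Js 3 cc).map ι) := ⟨⟨fun a b => Subtype.ext (Js_comm _ a.2 _ b.2)⟩⟩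
      have le := CL.coprime_le_of_forall_centralizer_le ((Js 3 cc).map ι) K ι.range (fun cy => by
          obtain ⟨g, hg⟩ := cy.exists_ofOrder_eq_natCard
          have := Nat.le_of_dvd (by norm_num) (orderOf_dvd_of_pow_eq_one
            (show g ^ 3 = 1 from Subtype.ext (Js_cube _ g.2)))
          omega) ((map_mono (Js_le _)).trans nK)
        (by rw [c9]; exact Nat.Coprime.pow_left 2 ((Nat.Prime.coprime_iff_not_dvd Nat.prime_three).2 k3))
        fun a ha a1 g hg => by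
          obtain ⟨x, hx, rfl⟩ := mem_Js.1 ha
          obtain ⟨y, hy, rfl⟩ := q.sur g
          have m := tr y hy x x (mul_inv_eq_iff_eq_mul.2 (mem_centralizer_singleton_iff.1 hg.2))
          rcases (by decide +kernel : ∀ x : V3, MO.dot cc x = 0 → x = 0 ∨
            (((0, x) : V) ≠ 0 ∧ dot (0, x) (0, x) = 0 ∧ ¬ Pl (0, x) f0) ∨
            (f0 + (0, x) ≠ 0 ∧ dot (f0 + (0, x)) (f0 + (0, x)) = 0 ∧ ¬ Pl (f0 + (0, x)) f0)) x hx with e | e | e
          · exact (a1 (by rw [e, tau_zero, map_one])).elim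
          · exact rng y hy (h.n2 e m (h.mp_cz hy))
          · exact rng y hy (h.n2 e (h.mp_add (h.mp_cz hy) m) (h.mp_cz hy))
      refine (eq_bot_iff_forall K).2 fun k hk => ?_
      obtain ⟨p, rfl⟩ := le hk
      have a : ∀ x, sg p.1.2 x = x := fun x => by
        have m := mul_mem hk ((mem_normalizer_iff.1 (nK (tau_memJ x)) _).1 (inv_mem hk))
        rw [← mul_assoc, ← mul_assoc, tau_conj', ← map_inv, ← map_mul, ← tau_neg, ← tau_add] at m
        have := tau_inj (inj ((cube_eq_one k3 m (tau_cube' _)).trans (map_one ι).symm) : _ = MO.tau 3 0)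
        exact add_neg_eq_zero.1 this
      refine cube_eq_one k3 hk ?_
      rw [eq_tau (mem_J.2 (sg_inj fun x => (a x).trans (sg_one x).symm) : p ∈ Js 3 0)]
      exact tau_cube' _⟩
  have hc' := mem_cz'.2 hc
  rcases H.four with e | ⟨⟨e⟩⟩
  · obtain ⟨p, e⟩ := e.ge (mem_top (π c))
    obtain ⟨v, -, e⟩ := (q.eq_iff hc' (nY p.1)).1 e.symm
    simpa [e] using h.nj_mul (h.nj_nn (Γ p.1)) (h.nj_co v)
  have τY : h.τ ∈ Odd.cz (h.co f0) := h.w_cz h.ok_tau (by decide)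
  obtain ⟨v, g, hv⟩ := L43.YH.perm9 (a := e (π h.τ)) (by rw [← map_pow, ← q.pow τY, h.τ3, q.one, map_one])
  obtain ⟨f1, -, -, -, -, -, v3⟩ := L43.YH.φ_facts
  let ψ := e.symm.toMonoidHom.comp ((MulAut.conj g).toMonoidHom.comp L43.YH.φ)
  obtain ⟨k, hk⟩ := exists_conj_le_of_isPGroup H.pS H.iS (A := ψ.range) fun ⟨_, u, rfl⟩ =>
    ⟨1, Subtype.ext (by change ψ u ^ 3 = 1; rw [← map_pow, v3, map_one])⟩
  let χ := (MulAut.conj k).toMonoidHom.comp ψ
  have hχ : Function.Injective χ := (MulAut.conj k).injective.comp (e.symm.injective.comp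
    ((MulAut.conj g).injective.comp ((injective_iff_map_eq_one _).2 f1)))
  obtain ⟨x, -, hx⟩ := mem_Js.1 (H.le_J (B := χ.range)
    (by rintro _ ⟨u, rfl⟩; exact map_le_range _ _ (hk _ ⟨u, rfl⟩))
    (by rintro _ ⟨u, rfl⟩; rw [← map_pow, v3, map_one])
    (by rintro _ ⟨u, rfl⟩ _ ⟨u', rfl⟩; rw [← map_mul, mul_comm, map_mul])
    (by rw [← Nat.card_congr (MonoidHom.ofInjective hχ).toEquiv]; simp) ⟨v, rfl⟩)
  obtain ⟨y, hy, rfl⟩ := q.sur k
  have : ψ v = π h.τ := e.symm_apply_eq.2 hv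
  change _ = π y * ψ v * (π y)⁻¹ at hx
  rw [this, ιt, ← q.conj hy τY, eq_comm, q.eq_iff (mul_mem (mul_mem hy τY) (inv_mem hy)) (h.co_cz _ _)] at hx
  obtain ⟨u, -, hu⟩ := hx
  exact (h.tau (g := y) (v := (0, x) + u) (by rw [h.co_add, hu, mul_inv_cancel_left])).elim

theorem cd (c2 : h.c2) {c : G} (a : c * h.co d1 = h.co d1 * c) : h.N c :=
  have o := h.ok_ev ⟨(nu_ok 1).1, (nu_ok 1).2.1⟩
  h.n_conj o (h.cf c2 (h.cz_conj o a))

/-- the sign changes -/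
def sL (a b c : Bool) : Lin := (bif a then -f0 else f0, d1, bif b then -d2 else d2, bif c then -d3 else d3)

omit [Finite G] in
theorem ok_sL (a b c : Bool) : OK h.c2 (sL a b c) := h.ok_ev (by revert a b c; decide)

omit [Finite G] in
theorem w_sL (a b c : Bool) : ∃ i j k : Fin 2, (a = false → i = 0) ∧ (b = false → j = 0) ∧
    h.w (sL a b c) = h.t ^ i.val * (h.w (sL false true false) ^ j.val * h.w (sL false false true) ^ k.val) := by
  have e : ∀ T, OK h.c2 T → ∀ b : Bool, h.w T ^ (bif b then 1 else 0 : Fin 2).val = h.w (bif b then T else oneL) ∧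
      OK h.c2 (bif b then T else oneL) := fun T o b => by
    cases b
    exacts [⟨(pow_zero _).trans h.w_one.symm, h.ok_one⟩, ⟨pow_one _, o⟩]
  refine ⟨bif a then 1 else 0, bif b then 1 else 0, bif c then 1 else 0, by rintro rfl; rfl, by rintro rfl; rfl, ?_⟩
  obtain ⟨a1, a2⟩ := e _ h.ok_t a
  obtain ⟨b1, b2⟩ := e _ (h.ok_sL false true false) b
  obtain ⟨c1, c2⟩ := e _ (h.ok_sL false false true) c
  rw [a1, b1, c1, ← h.w_mul _ _ b2 c2, ← h.w_mul _ _ a2 (h.ok_mul _ _ b2 c2)]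
  clear a1 a2 b1 b2 c1 c2
  exact congrArg _ (by revert a b c; decide)

theorem cu {c : G} (a : c * h.co d1 = h.co d1 * c) (b : c * h.co d2 = h.co d2 * c) : h.N c := by
  by_cases c2 : h.c2
  · exact h.cd c2 a
  let A : AddSubgroup V :=
    { carrier := {v | v.1 = 0 ∧ v.2.2.2 = 0}
      zero_mem' := ⟨rfl, rfl⟩
      add_mem' := fun a b => ⟨by simp [a.1, b.1], by simp [a.2, b.2]⟩
      neg_mem' := fun a => ⟨by simp [a.1], by simp [a.2]⟩ }
  have mZ : ∀ {y}, y ∈ Odd.cz (h.co d1) ⊓ Odd.cz (h.co d2) → ∀ z ∈ h.J A, y * z = z * y := by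
    rintro y hy _ ⟨⟨k, l, m, n⟩, ⟨rfl, rfl⟩, rfl⟩
    rw [show ((0, l, m, 0) : V) = l • d1 + m • d2 by simp [d1, d2], h.co_add, ← mul_assoc, h.cz_smul hy.1,
      mul_assoc, h.cz_smul hy.2, mul_assoc]
  obtain ⟨Q, _, _, π, q⟩ := exists_qm (Y := Odd.cz (h.co d1) ⊓ Odd.cz (h.co d2)) (Z := h.J A)
    fun y hy z hz => by rwa [mZ hy z hz, mul_inv_cancel_right]
  have c2' : ∀ v, co2 (h.co f0) (h.co d3) v = h.co (v.1, 0, 0, v.2) := fun v => by
    rw [h.co2_co]; simp [f0, d3]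
  have mp : ∀ {y : G} {v v'}, (co2 (h.co f0) (h.co d3) v')⁻¹ * (y * co2 (h.co f0) (h.co d3) v * y⁻¹) ∈ h.J A →
      h.Mp y (v.1, 0, 0, v.2) := fun {y v v'} ⟨u, _, e⟩ =>
    ⟨(v'.1, 0, 0, v'.2) + u, by rw [h.co_add, e, c2', c2', mul_inv_cancel_left]⟩
  have o := h.ok_sL false false true
  have wY : ∀ a c, h.w (sL a false c) ∈ Odd.cz (h.co d1) ⊓ Odd.cz (h.co d2) := fun a c =>
    ⟨h.w_cz (h.ok_sL ..) (by revert a c; decide), h.w_cz (h.ok_sL ..) (by revert a c; decide)⟩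
  refine q.hayden (p := h.co f0) (q := h.co d3) (t := h.t) (t' := h.w (sL false false true))
    ⟨h.co_cz _ _, h.co_cz _ _⟩ ⟨h.co_cz _ _, h.co_cz _ _⟩ (wY true false) (wY false true) (h.co3 _) (h.co3 _)
    (h.coc _ _) (fun v ⟨u, hu, e⟩ => ?_) (by rw [h.t_act, ← h.con]; rfl) (h.t_act _)
    (by rw [h.w_act _ o]; rfl) (by rw [h.w_act _ o, ← h.con]; rfl) (N := h.N) (fun y hy e => ?_)
    (fun y hy n => ?_) (fun y hy n v => ?_) (fun y hy v v0 e => ?_) c ⟨mem_cz'.2 a, mem_cz'.2 b⟩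
  · rw [c2'] at e
    obtain rfl := h.co_inj e
    exact Prod.ext hu.1 hu.2
  · exact h.n2 (v := d1 + d2 + d3) (by decide) (h.mp_add (h.mp_add (h.mp_cz hy.1) (h.mp_cz hy.2))
      ((e (0, 1)).elim fun _ => mp)) (h.mp_cz hy.1)
  · obtain ⟨v, T, o, rfl⟩ := h.nj y n
    obtain ⟨a, c, rfl⟩ := AllW.of (P := fun T => ap T d1 = d1 ∧ ap T d2 = d2 ∧ Ev T → ∃ a c, T = sL a false c)
      (by decide +kernel) o.1 ⟨h.co_inj ((h.act o v _).symm.trans (mem_cz.1 hy.1)),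
        h.co_inj ((h.act o v _).symm.trans (mem_cz.1 hy.2)), o.2.resolve_left c2⟩
    obtain ⟨i, j, k, -, e1, e⟩ := h.w_sL a false c
    rw [e1 rfl, Fin.val_zero, pow_zero, one_mul] at e
    have m : h.co (0, v.2.1, v.2.2.1, 0) ∈ h.J A := ⟨_, ⟨rfl, rfl⟩, rfl⟩
    refine ⟨i, k, (v.1, v.2.2.2), ?_⟩
    rwa [← e, c2', show h.co v = h.co (v.1, 0, 0, v.2.2.2) * h.co (0, v.2.1, v.2.2.1, 0) by
      rw [← h.co_add]; simp, mul_assoc, ← mZ (wY a c) _ m, ← mul_assoc (h.co _), inv_mul_cancel_left]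
  · obtain ⟨u, e⟩ := n (v.1, 0, 0, v.2)
    exact ⟨(u.1, u.2.2.2), (0, u.2.1, u.2.2.1, 0), ⟨rfl, rfl⟩, by
      rw [c2', c2', e, eq_inv_mul_iff_mul_eq, ← h.co_add]; simp⟩
  · have m := h.mp_add (h.mp_cz hy.1) (mp e)
    rcases (by decide +kernel : ∀ v : V2, v ≠ 0 → (fun s => s ≠ 0 ∧ dot s s = 0 ∧ ¬ Pl s d1) (d1 + (v.1, 0, 0, v.2)) ∨
      (fun s => s ≠ 0 ∧ dot s s = 0 ∧ ¬ Pl s d1) (d2 + (d1 + (v.1, 0, 0, v.2)))) v v0 with s | s
    exacts [h.n2 s m (h.mp_cz hy.1), h.n2 s (h.mp_add (h.mp_cz hy.2) m) (h.mp_cz hy.1)]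

theorem cl {c : G} (e : c * h.t = h.t * c) (a : c * h.co d1 = h.co d1 * c) : h.N c := by
  by_cases c2 : h.c2
  · exact h.cd c2 a
  have ct : ∀ k l : F, h.d (k, 0) * h.t * h.d (l, 0) = h.d (k + l, 0) * h.t := fun k l => by
    rw [mul_assoc, ← h.dt, ← mul_assoc, ← h.d_add]; simp
  let Z : Subgroup G :=
    { carrier := {g | ∃ k : F, g = h.d (k, 0) ∨ g = h.d (k, 0) * h.t}
      one_mem' := ⟨0, .inl h.co0.symm⟩
      mul_mem' := by
        rintro _ _ ⟨k, rfl | rfl⟩ ⟨l, rfl | rfl⟩ <;> refine ⟨k + l, ?_⟩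
        · exact .inl (by rw [← h.d_add]; simp)
        · exact .inr (by rw [← mul_assoc, ← h.d_add]; simp)
        · exact .inr (ct k l)
        · exact .inl (by rw [← mul_assoc, ct, mul_assoc, h.tt, mul_one])
      inv_mem' := by
        rintro _ ⟨k, rfl | rfl⟩ <;> refine ⟨-k, ?_⟩
        · exact .inl (by rw [← h.d_neg]; simp)
        · exact .inr (by rw [mul_inv_rev, h.ti, ← h.d_neg, ← h.dt]; simp) }
  have mD : ∀ {y}, y ∈ Odd.cz h.t ⊓ Odd.cz (h.co d1) → ∀ k : F, y * h.d (k, 0) = h.d (k, 0) * y :=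
    fun {y} hy k => by
      have := h.cz_smul hy.2 k
      rwa [(by decide : ∀ k : F, k • d1 = (0, k, 0)) k] at this
  obtain ⟨Q, _, _, π, q⟩ := exists_qm (Y := Odd.cz h.t ⊓ Odd.cz (h.co d1)) (Z := Z) (by
    rintro y hy _ ⟨k, rfl | rfl⟩
    · exact ⟨k, .inl (by rw [mD hy, mul_inv_cancel_right])⟩
    · exact ⟨k, .inr (by rw [← conj_mul, mD hy, mul_inv_cancel_right, mem_cz.1 hy.1])⟩)
  have c2' : ∀ v, co2 (h.co d2) (h.co d3) v = h.d (0, v) := fun v => by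
    rw [h.co2_co]; simp [d2, d3]
  have mp : ∀ {y : G} {v v'}, (co2 (h.co d2) (h.co d3) v')⁻¹ * (y * co2 (h.co d2) (h.co d3) v * y⁻¹) ∈ Z →
      h.Mp y (0, 0, v) := fun {y v v'} ⟨k, e⟩ => by
    rw [c2', c2', inv_mul_eq_iff_eq_mul, inv_mul_eq_iff_eq_mul, ← mul_assoc, ← h.d_add] at e
    exact e.elim (fun e => ⟨_, e⟩) fun e => (h.not_dt e).elim
  have o := h.ok_sL false true false
  have o' := h.ok_sL false false true
  have dY : ∀ x, h.d x ∈ Odd.cz h.t ⊓ Odd.cz (h.co d1) := fun x => ⟨mem_cz'.2 (h.dt x), h.co_cz _ _⟩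
  have wY : ∀ b c, h.w (sL false b c) ∈ Odd.cz h.t ⊓ Odd.cz (h.co d1) := fun b c =>
    ⟨mem_cz'.2 (h.w_comm (h.ok_sL ..) h.ok_t (by revert b c; decide)), h.w_cz (h.ok_sL ..) (by revert b c; decide)⟩
  refine q.hayden (p := h.co d2) (q := h.co d3) (t := h.w (sL false true false)) (t' := h.w (sL false false true))
    (dY _) (dY _) (wY ..) (wY ..) (h.co3 _) (h.co3 _) (h.coc _ _) (fun v ⟨k, e⟩ => ?_)
    (by rw [h.w_act _ o, ← h.con]; rfl) (by rw [h.w_act _ o]; rfl)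
    (by rw [h.w_act _ o']; rfl) (by rw [h.w_act _ o', ← h.con]; rfl) (N := h.N) (fun y hy e => ?_)
    (fun y hy n => ?_) (fun y hy n v => ?_) (fun y hy v v0 e => ?_) c ⟨mem_cz'.2 e, mem_cz'.2 a⟩
  · rw [c2'] at e
    exact e.elim (fun e => congrArg Prod.snd (h.d_inj e)) fun e => (h.not_dt (y := 1) (by simpa using e)).elim
  · exact h.n2 (v := d1 + (0, 0, 1, 1)) (by decide) (h.mp_add (h.mp_cz hy.2)
      ((e (1, 1)).elim fun _ => mp)) (h.mp_cz hy.2)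
  · obtain ⟨⟨x, w⟩, hp, e⟩ := h.nh n (mem_cz'.1 hy.1)
    have : h.nn (x, w) ∈ Odd.cz (h.co d1) := e.elim (· ▸ hy.2) fun e =>
      (mul_mem_cancel_right (mem_cz'.2 (h.dt _).symm)).1 (e ▸ hy.2)
    obtain ⟨b, c, s⟩ := (by decide +kernel : ∀ w : W48, w.1.val % 2 = 0 → sg w (1, 0, 0) = (1, 0, 0) →
      ∃ b c, em false w = sL false b c) w (hp.resolve_left c2)
        (h.d_inj ((h.nn_act hp 0 _).symm.trans (mem_cz.1 this)))
    obtain ⟨i, j, k, e1, -, e2⟩ := h.w_sL false b c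
    rw [e1 rfl, Fin.val_zero, pow_zero, one_mul] at e2
    have : h.nn (x, w) = h.d (0, x.2) * h.w (sL false b c) * h.d (x.1, 0) := by
      rw [mul_assoc, mD (wY b c), ← mul_assoc, ← h.d_add, ← s, show (0, x.2) + (x.1, 0) = x by simp]; rfl
    refine ⟨j, k, x.2, x.1, ?_⟩
    rw [← e2, c2']
    exact e.imp (fun e => by rw [e, this, inv_mul_cancel_left]) fun e => by
      rw [e, this, mul_assoc _ (h.d _), inv_mul_cancel_left]
  · obtain ⟨p, hp, e⟩ := h.nh n (mem_cz'.1 hy.1)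
    refine ⟨(sg p.2 (0, v)).2, (sg p.2 (0, v)).1, .inl ?_⟩
    rw [c2', c2', inv_mul_eq_iff_eq_mul, ← h.d_add, show (0, (sg p.2 (0, v)).2) + ((sg p.2 (0, v)).1, 0) =
      sg p.2 (0, v) by simp]
    refine Eq.trans ?_ (h.nn_act hp 0 _)
    rcases e with rfl | rfl
    · rfl
    · rw [mul_assoc (h.nn p), ← h.dt]; group
  · have m := mp e
    have m1 := h.mp_cz hy.2
    have k : ∀ c, c * h.co d1 = h.co d1 * c → c * h.co d3 = h.co d3 * c → h.N c := fun c a b =>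
      h.n_conj h.ok_tau (h.cu (h.cz_conj h.ok_tau b) (h.cz_conj h.ok_tau a))
    rcases (by decide +kernel : ∀ v : V2, v ≠ 0 → ((0, 0, v) : V) = d2 ∨ ((0, 0, v) : V) = -d2 ∨
      ((0, 0, v) : V) = d3 ∨ ((0, 0, v) : V) = -d3 ∨
      (fun s => s ≠ 0 ∧ dot s s = 0 ∧ ¬ Pl s d1) (d1 + (0, 0, v))) v v0 with s | s | s | s | s
    · exact h.na2 (fun _ => h.cu) m1 (s ▸ m)
    · exact h.na2 (fun _ => h.cu) m1 (h.mp_neg (s ▸ m))
    · exact h.na2 k m1 (s ▸ m)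
    · exact h.na2 k m1 (h.mp_neg (s ▸ m))
    · exact h.n2 s (h.mp_add m1 m) m1

end CL.O8.Fr
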