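/- The subgroup `D`, its fusion in `C(t)`, and the four quaternion groups. -/
import Mathlib
import Cfsg.Agent.PERM.O8.Bas

set_option autoImplicit false
set_option maxRecDepth 100000
set_option synthInstance.maxSize 2000

namespace CL.O8

open Subgroup CL.Odd CL.Odd.MO

/-- singular vectors of `D` -/
def Sg (l : V3) : Prop := l.1 ≠ 0 ∧ l.2.1 ≠ 0 ∧ l.2.2 ≠ 0
instance (l : V3) : Decidable (Sg l) := by unfold Sg; infer_instance
/-- sign changes -/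
def Dg (w : W48) : Prop := w.1.val % 6 = 0
instance (w : W48) : Decidable (Dg w) := by unfold Dg; infer_instance
/-- the sign change taking `(1,1,1)` to `l` -/
def pw (l : V3) : W48 :=
  (([(0, false), (6, false), (12, false), (18, false), (0, true), (6, true), (12, true), (18, true)] :
    List W48).find? fun w => sg w cc = l).getD (0, false)
def m1 : MO := mk 0 (18, true)
def m2 : MO := mk 0 (12, true)
def m3 : MO := mk 0 (6, true)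
def mσ : MO := mk 0 (0, true)
def mr : MO := mk 0 (7, true)
def mτ : MO := mk 0 (2, false)

theorem pw_ok : ∀ l, Dg (pw l) ∧ (pw l).1.val % 2 = 0 ∧ (Sg l → sg (pw l) cc = l) ∧
    ∀ x, sg (pw l) (sg (pw l) x) = x := by decide +kernel
theorem dot_sg : ∀ w l x, MO.dot (sg w l) (sg w x) = MO.dot l x := by decide +kernel
theorem sg_sg : ∀ w l, Sg l → Sg (sg w l) := by decide +kernel
theorem sg_neg : ∀ w x, sg w (-x) = -sg w x := by decide +kernel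
theorem sg_eq_zero : ∀ w x, sg w x = 0 → x = 0 := by decide +kernel
theorem sg_inv (p : MO) (x : V3) : sg p.2 (sg (p⁻¹).2 x) = x := by
  rw [← sg_wm]; exact (congrArg (fun q : MO => sg q.2 x) (mul_inv_cancel p)).trans (sg_one x)
theorem inv_sg (p : MO) (x : V3) : sg (p⁻¹).2 (sg p.2 x) = x := by simpa using sg_inv p⁻¹ x
theorem al_facts : (∀ k : Fin 3, k ≠ 0 → ∀ x, ((al^[k] x = x ∨ al^[k] x = x * .a 2) → x = 1 ∨ x = .a 2) ∧
    (x * al^[k] x * al^[k] (al^[k] x) = 1 ∨ x * al^[k] x * al^[k] (al^[k] x) = .a 2) ∧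
    ∃ y, x = al^[k] y * y⁻¹ ∨ x = al^[k] y * y⁻¹ * .a 2) ∧
    ∀ x : Q8, x ^ 4 = 1 ∧ (x * x = 1 ∨ x * x = .a 2) ∧ (x * x = 1 → x = 1 ∨ x = .a 2) ∧
      (x = 1 ∨ x = .a 2 ∨ ∃ y, y * x * y⁻¹ = x * .a 2) ∧ .a 2 * x = x * .a 2 ∧
      ∀ y, y * x * y⁻¹ = x ∨ y * x * y⁻¹ = x * .a 2 := by decide +kernel

namespace Fr

variable {G : Type*} [Group G] (h : Fr G)

/-- the centralizer of `t` -/
abbrev H : Subgroup G := Odd.cz h.t
/-- the centralizer of `t` in `J` -/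
def D : Subgroup G where
  carrier := {g | ∃ x, g = h.d x}
  one_mem' := ⟨0, h.co0.symm⟩
  mul_mem' := by rintro _ _ ⟨x, rfl⟩ ⟨y, rfl⟩; exact ⟨_, (h.d_add x y).symm⟩
  inv_mem' := by rintro _ ⟨x, rfl⟩; exact ⟨_, (h.d_neg x).symm⟩
/-- the centralizer of `t` in `N(J)` -/
def NH : Subgroup G where
  carrier := {g | ∃ p ∈ h.Γ, g = h.nn p ∨ g = h.nn p * h.t}
  one_mem' := ⟨1, h.Γ.one_mem, Or.inl h.nn_one.symm⟩
  mul_mem' := by
    rintro _ _ ⟨p, hp, a⟩ ⟨q, hq, b⟩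
    refine ⟨_, h.Γ.mul_mem hp hq, ?_⟩
    rw [h.nn_mul hp hq]
    rcases a with rfl | rfl <;> rcases b with rfl | rfl
    · exact Or.inl rfl
    · exact Or.inr (mul_assoc _ _ _).symm
    · exact Or.inr (by rw [mul_assoc, ← h.nn_t hq, mul_assoc])
    · exact Or.inl (by rw [mul_assoc, ← mul_assoc h.t, ← h.nn_t hq, mul_assoc, h.tt, mul_one])
  inv_mem' := by
    rintro _ ⟨p, hp, rfl | rfl⟩
    · exact ⟨_, h.Γ.inv_mem hp, Or.inl (h.nn_inv hp).symm⟩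
    · exact ⟨_, h.Γ.inv_mem hp, Or.inr (by rw [mul_inv_rev, h.ti, h.nn_t (h.Γ.inv_mem hp), h.nn_inv hp])⟩
abbrev s1 : G := h.nn m1
abbrev s2 : G := h.nn m2
abbrev s3 : G := h.nn m3
abbrev σ : G := h.nn mσ
abbrev r : G := h.nn mr

theorem tH : h.t ∈ h.H := mem_cz'.2 rfl
theorem dH (x : V3) : h.d x ∈ h.H := mem_cz'.2 (h.dt x)
theorem nnH {p : MO} (hp : p ∈ h.Γ) : h.nn p ∈ h.H := mem_cz'.2 (h.nn_t hp)
theorem dD (x : V3) : h.d x ∈ h.D := ⟨x, rfl⟩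
theorem DH : h.D ≤ h.H := by rintro _ ⟨x, rfl⟩; exact h.dH x
theorem d3' (x : V3) : h.d x ^ 3 = 1 := h.co3 _
theorem dc (x y : V3) : h.d x * h.d y = h.d y * h.d x := h.coc _ _
theorem D_p : IsPGroup 3 h.D := fun ⟨_, x, rfl⟩ => ⟨1, Subtype.ext (h.d3' x)⟩
theorem nnN {p : MO} (hp : p ∈ h.Γ) : h.nn p ∈ h.NH := ⟨p, hp, Or.inl rfl⟩
theorem tN : h.t ∈ h.NH := ⟨1, h.Γ.one_mem, Or.inr (by rw [h.nn_one, one_mul])⟩
theorem dN (x : V3) : h.d x ∈ h.NH := h.nn_tau x ▸ h.nnN (h.ev rfl)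
theorem NH_H : h.NH ≤ h.H := by
  rintro _ ⟨p, hp, rfl | rfl⟩
  exacts [h.nnH hp, mul_mem (h.nnH hp) h.tH]
theorem NH_N {g : G} (hg : g ∈ h.NH) : h.N g := by
  obtain ⟨p, hp, rfl | rfl⟩ := hg
  exacts [h.nj_nn hp, h.nj_mul (h.nj_nn hp) (h.nj_w h.ok_t)]
theorem mem_NH {g : G} (a : h.N g) (b : g ∈ h.H) : g ∈ h.NH := h.nh a (mem_cz'.1 b)
theorem nn_d {p : MO} (hp : p ∈ h.Γ) (x : V3) : h.nn p * h.d x * (h.nn p)⁻¹ = h.d (sg p.2 x) :=
  h.nn_act hp 0 x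
theorem tc {a : G} (ha : a ∈ h.H) : h.t * a * h.t⁻¹ = a := mem_cz.1 (mem_cz_comm.1 ha)
theorem ct {a : G} (ha : a ∈ h.H) : a * h.t = h.t * a := mem_cz'.1 ha
/-- conjugation by an element of `N_H(J)` -/
theorem NH_conj {g : G} {p : MO} (e : g = h.nn p ∨ g = h.nn p * h.t) {a : G} (ha : a ∈ h.H) :
    g * a * g⁻¹ = h.nn p * a * (h.nn p)⁻¹ := by
  rcases e with rfl | rfl
  · rfl
  · conv_rhs => rw [← h.tc ha]
    group
theorem NH_d {g : G} {p : MO} (hp : p ∈ h.Γ) (e : g = h.nn p ∨ g = h.nn p * h.t) (x : V3) :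
    g * h.d x * g⁻¹ = h.d (sg p.2 x) := by rw [h.NH_conj e (h.dH x), h.nn_d hp]
theorem nn_sq {p : MO} (hp : p ∈ h.Γ) (e : p * p = 1) : h.nn p * h.nn p = 1 := by
  rw [← h.nn_mul hp hp, e, h.nn_one]
theorem rΓ (c : h.c2) {p : MO} : p ∈ h.Γ := Or.inl c

/-- the quaternion groups -/
def φ (l : V3) : Q8 →* G := (MulAut.conj (h.nn (MO.mk 0 (pw l)))).toMonoidHom.comp h.ψ
/-- the quaternion groups -/
def R (l : V3) : Subgroup G := (h.φ l).range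
theorem pwΓ (l : V3) : MO.mk 0 (pw l) ∈ h.Γ := h.ev (pw_ok l).2.1
theorem φ_inj (l : V3) : Function.Injective (h.φ l) := (MulAut.conj _).injective.comp h.ψ_inj
theorem φ_t (l : V3) : h.φ l (.a 2) = h.t := by
  show _ * h.ψ _ * _⁻¹ = _
  rw [h.ψt, h.nn_t (h.pwΓ l), mul_inv_cancel_right]
theorem φ_cc (x : Q8) : h.φ cc x = h.ψ x := by
  show h.nn 1 * h.ψ _ * (h.nn 1)⁻¹ = _
  simp [h.nn_one]
theorem ψ_act (u : V3) (x : Q8) : h.d u * h.ψ x * (h.d u)⁻¹ = h.ψ (al^[(MO.dot cc u).val] x) := by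
  obtain ⟨i, j, e⟩ := (by decide +kernel : ∀ u : V3, ∃ i j : Fin 3, ((0, u) : V) =
    (MO.dot cc u).val • d1 + (i.val • zv + j.val • a0)) u
  have p : ∀ (l : ℕ) v, h.co (l • v) = h.co v ^ l := fun l v => by
    induction l with
    | zero => simpa using h.co0
    | succ l ih => rw [succ_nsmul, h.co_add, ih, pow_succ]
  have c := (((show Commute _ _ from h.ψz x).pow_right i).mul_right
    ((show Commute _ _ from h.ψa x).pow_right j)).eq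
  rw [d, e, h.co_add, h.co_add, p, p, p, mul_assoc (_ ^ _), ← c, mul_inv_rev, ← mul_assoc,
    mul_assoc (_ ^ _), mul_inv_cancel_right]
  generalize (MO.dot cc u).val = k
  induction k with
  | zero => simp
  | succ k ih => rw [Function.iterate_succ_apply', ← h.ψd, ← ih]; group
theorem φ_act {l : V3} (hl : Sg l) (u : V3) (x : Q8) :
    h.d u * h.φ l x * (h.d u)⁻¹ = h.φ l (al^[(MO.dot l u).val] x) := by
  have a := h.nn_d (h.pwΓ l) (sg (pw l) u)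
  rw [show sg (MO.mk 0 (pw l)).2 (sg (pw l) u) = u from (pw_ok l).2.2.2 u] at a
  show _ * (_ * h.ψ _ * _⁻¹) * _ = _ * h.ψ _ * _⁻¹
  rw [← dot_sg (pw l), show sg (pw l) l = cc by
    conv_lhs => rw [← (pw_ok l).2.2.1 hl]
    rw [(pw_ok l).2.2.1 hl, ← (pw_ok l).2.2.2 cc, (pw_ok l).2.2.1 hl], ← h.ψ_act, ← a]
  group

theorem R_t (l : V3) : h.t ∈ h.R l := ⟨_, h.φ_t l⟩
theorem R_H {l : V3} : h.R l ≤ h.H := by
  rintro _ ⟨x, rfl⟩
  rw [mem_cz', ← h.φ_t l, ← map_mul, ← map_mul, (al_facts.2 x).2.2.2.2.1]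
theorem R4 {l : V3} {g : G} (hg : g ∈ h.R l) : g ^ 4 = 1 := by
  obtain ⟨x, rfl⟩ := hg; rw [← map_pow, (al_facts.2 x).1, map_one]
theorem R_p (l : V3) : IsPGroup 2 (h.R l) := fun g => ⟨2, Subtype.ext (h.R4 g.2)⟩
theorem R_sq {l : V3} {g : G} (hg : g ∈ h.R l) : g * g = 1 ∨ g * g = h.t := by
  obtain ⟨x, rfl⟩ := hg
  rw [← map_mul, ← h.φ_t l]
  exact (al_facts.2 x).2.1.imp (fun e => by rw [e, map_one]) (congrArg _)
theorem R_inv {l : V3} {g : G} (hg : g ∈ h.R l) (e : g * g = 1) : g = 1 ∨ g = h.t := by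
  obtain ⟨x, rfl⟩ := hg
  rw [← h.φ_t l]
  exact ((al_facts.2 x).2.2.1 (h.φ_inj l (by simpa using e))).imp (fun e => by rw [e, map_one])
    (congrArg _)
theorem R_z {l : V3} {g : G} (hg : g ∈ h.R l) :
    g = 1 ∨ g = h.t ∨ ∃ a ∈ h.R l, a * g * a⁻¹ = g * h.t := by
  obtain ⟨x, rfl⟩ := hg
  rw [← h.φ_t l]
  exact (al_facts.2 x).2.2.2.1.imp (fun e => by rw [e, map_one]) (Or.imp (congrArg _)
    fun ⟨y, e⟩ => ⟨_, ⟨y, rfl⟩, by rw [← map_mul, ← map_mul, ← e]; simp⟩)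
theorem R_in {l : V3} {a g : G} (ha : a ∈ h.R l) (hg : g ∈ h.R l) :
    a * g * a⁻¹ = g ∨ a * g * a⁻¹ = g * h.t := by
  obtain ⟨x, rfl⟩ := hg
  obtain ⟨y, rfl⟩ := ha
  rw [← h.φ_t l, ← map_inv, ← map_mul, ← map_mul, ← map_mul]
  exact ((al_facts.2 x).2.2.2.2.2 y).imp (congrArg _) (congrArg _)
theorem R_ex (l : V3) : ∃ g ∈ h.R l, g * g = h.t :=
  ⟨_, ⟨.a 1, rfl⟩, by rw [← map_mul, ← h.φ_t l]; rfl⟩
theorem card_R (l : V3) : Nat.card (h.R l) = 8 := by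
  rw [R, ← Nat.card_congr (MonoidHom.ofInjective (h.φ_inj l)).toEquiv]; simp [QuaternionGroup.card]

section
variable {l : V3} (hl : Sg l) {u : V3} {g : G} (hg : g ∈ h.R l)
include hl hg
theorem R_d (u : V3) : h.d u * g * (h.d u)⁻¹ ∈ h.R l := by
  obtain ⟨x, rfl⟩ := hg; exact ⟨_, (h.φ_act hl u x).symm⟩
theorem R_d0 (e : MO.dot l u = 0) : g * h.d u = h.d u * g := by
  obtain ⟨x, rfl⟩ := hg
  have := h.φ_act hl u x
  rw [e, mul_inv_eq_iff_eq_mul] at this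
  exact this.symm
theorem R_fpf (e : MO.dot l u ≠ 0)
    (a : h.d u * g * (h.d u)⁻¹ = g ∨ h.d u * g * (h.d u)⁻¹ = g * h.t) : g = 1 ∨ g = h.t := by
  obtain ⟨x, rfl⟩ := hg
  rw [h.φ_act hl, ← h.φ_t l, ← map_mul] at a
  rw [← h.φ_t l]
  exact ((al_facts.1 _ e x).1 (a.imp (h.φ_inj l ·) (h.φ_inj l ·))).imp
    (fun e => by rw [e, map_one]) (congrArg _)
theorem R_nm (e : MO.dot l u ≠ 0) : nm (h.d u) g = 1 ∨ nm (h.d u) g = h.t := by
  obtain ⟨x, rfl⟩ := hg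
  have : nm (h.d u) (h.φ l x) = h.φ l (x * al^[(MO.dot l u).val] x *
      al^[(MO.dot l u).val] (al^[(MO.dot l u).val] x)) := by
    rw [map_mul, map_mul, ← h.φ_act hl u (al^[_] x), ← h.φ_act hl, nm]
  rw [this, ← h.φ_t l]
  exact (al_facts.1 _ e x).2.1.imp (fun e => (congrArg _ e).trans (map_one _)) (congrArg _)
theorem R_gen (e : MO.dot l u ≠ 0) : ∃ a ∈ h.R l, g = h.d u * a * (h.d u)⁻¹ * a⁻¹ ∨
    g = h.d u * a * (h.d u)⁻¹ * a⁻¹ * h.t := by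
  obtain ⟨x, rfl⟩ := hg
  obtain ⟨y, a⟩ := (al_facts.1 _ e x).2.2
  refine ⟨_, ⟨y, rfl⟩, ?_⟩
  rw [h.φ_act hl, ← h.φ_t l, ← map_inv, ← map_mul, ← map_mul]
  exact a.imp (congrArg _) (congrArg _)
end

theorem R_cz {l : V3} (hl : Sg l) {c : G} (hc : c ∈ h.H) (e : c * h.d l = h.d l * c) :
    ∃ a ∈ h.R l, a⁻¹ * c ∈ h.NH := by
  have a := h.nn_d (h.pwΓ l) cc
  rw [show sg (MO.mk 0 (pw l)).2 cc = l from (pw_ok l).2.2.1 hl] at a
  have n := h.nj_nn (h.pwΓ l)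
  have n' := h.nj_nn (h.Γ.inv_mem (h.pwΓ l))
  rw [h.nn_inv (h.pwΓ l)] at n'
  obtain ⟨x, b⟩ := h.cz ((h.nn (MO.mk 0 (pw l)))⁻¹ * c * h.nn (MO.mk 0 (pw l))) (by
    rw [← a] at e
    calc _ = _⁻¹ * (c * (_ * h.d cc * (h.nn (MO.mk 0 (pw l)))⁻¹)) * h.nn (MO.mk 0 (pw l)) := by
          simp [mul_assoc]; rfl
      _ = _ := by rw [e]; simp [mul_assoc]; rfl)
  refine ⟨_, ⟨x, rfl⟩, h.mem_NH ?_ (mul_mem (inv_mem (h.R_H ⟨x, rfl⟩)) hc)⟩
  have := h.nj_mul (h.nj_mul n b) n'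
  simpa [φ, mul_assoc] using this

theorem mem_R {l : V3} (hl : Sg l) {g : G} : g ∈ h.R l ↔
    g ∈ h.H ∧ (∀ u, MO.dot l u = 0 → g * h.d u = h.d u * g) ∧ g ^ 4 = 1 := by
  refine ⟨fun hg => ⟨h.R_H hg, fun u => h.R_d0 hl hg, h.R4 hg⟩, fun ⟨a, b, c⟩ => ?_⟩
  obtain ⟨x, hx, p, hp, e⟩ := h.R_cz hl a (b l ((by decide : ∀ l, Sg l → MO.dot l l = 0) l hl))
  have f : ∀ x, sg p.2 x = x := (by decide +kernel : ∀ l w, Sg l → (∀ u, MO.dot l u = 0 → sg w u = u) →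
    ∀ x, sg w x = x) l _ hl fun u hu => h.d_inj (by
      rw [← h.NH_d hp e, mul_assoc x⁻¹, b u hu, ← mul_assoc, h.R_d0 hl (inv_mem hx) hu]; group)
  obtain ⟨y, hy, rfl⟩ : ∃ y ∈ h.R l, g = y * h.d p.1 := by
    rw [h.nn_eq_d f] at e
    rcases e with e | e
    · exact ⟨x, hx, by rw [← e]; group⟩
    · exact ⟨x * h.t, mul_mem hx (h.R_t l), by rw [mul_assoc, ← h.dt, ← e]; group⟩
  have k : ∀ n : ℕ, (y * h.d p.1) ^ n * (h.d p.1 ^ n)⁻¹ ∈ h.R l := fun n => by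
    induction n with
    | zero => simp
    | succ n ih =>
      have := mul_mem hy (h.R_d hl ih p.1)
      rw [pow_succ', pow_succ]
      convert this using 1
      group
  have := k 4
  rw [c, one_mul, pow_succ, h.d3', one_mul] at this
  exact mul_mem hy ((inv_mem_iff.1 this))

theorem R_neg {l : V3} (hl : Sg l) : h.R (-l) = h.R l := Subgroup.ext fun g => by
  rw [h.mem_R hl, h.mem_R ((by decide : ∀ l, Sg l → Sg (-l)) l hl)]
  simp only [(by decide +kernel : ∀ l u : V3, MO.dot (-l) u = 0 ↔ MO.dot l u = 0)]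

theorem R_conj {l : V3} (hl : Sg l) {p : MO} (hp : p ∈ h.Γ) {g : G} (hg : g ∈ h.R l) :
    h.nn p * g * (h.nn p)⁻¹ ∈ h.R (sg p.2 l) := by
  refine (h.mem_R (sg_sg _ _ hl)).2 ⟨mul_mem (mul_mem (h.nnH hp) (h.R_H hg)) (inv_mem (h.nnH hp)),
    fun u hu => ?_, by rw [conj_pow, h.R4 hg]; simp⟩
  rw [← sg_inv p u] at hu ⊢
  rw [← h.nn_d hp, conj_mul, conj_mul, h.R_d0 hl hg (dot_sg _ _ _ ▸ hu)]

/-- linear elements fixing `l` centralize `R l` -/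
theorem R_fix {l : V3} (hl : Sg l) {w : W48} (hw : MO.mk 0 w ∈ h.Γ) (e : sg w l = l) {g : G}
    (hg : g ∈ h.R l) : h.nn (MO.mk 0 w) * g = g * h.nn (MO.mk 0 w) := by
  obtain ⟨x, rfl⟩ := hg
  obtain ⟨i, j, a, b⟩ := (by decide +kernel : ∀ l w, Sg l → sg w l = l → ∃ i : Fin 3, ∃ j : Fin 2,
    MO.mk 0 w = MO.mk 0 (pw l) * (mτ ^ i.val * mr ^ j.val) * (MO.mk 0 (pw l))⁻¹ ∧
      (w.1.val % 2 = 0 → j = 0)) l w hl e
  have τ : mτ ^ i.val ∈ h.Γ := h.Γ.pow_mem h.ev _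
  have c : mr ^ j.val ∈ h.Γ ∧ Commute (h.ψ x) (h.nn (mr ^ j.val)) := by
    rcases hw with c | c
    · exact ⟨Or.inl c, h.nn_pow (h.rΓ c) _ ▸ (show Commute _ _ from h.nn_lin _ ▸ h.ψr c x).pow_right _⟩
    · rw [b c]; exact ⟨h.Γ.one_mem, by simp [h.nn_one]⟩
  rw [a, h.nn_conj (h.pwΓ l) (h.Γ.mul_mem τ c.1), h.nn_mul τ c.1, h.nn_pow h.ev]
  show _ * (_ * h.ψ _ * _⁻¹) = _ * h.ψ _ * _⁻¹ * _
  rw [conj_mul, conj_mul, ← (((show Commute _ _ from h.nn_τ ▸ h.ψb x).pow_right _).mul_right c.2).eq]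

/-- an involution acting on `R l` like an element that inverts `l` -/
theorem q8p {l : V3} (hl : Sg l) {u : G} (uu : u * u = 1) {p : MO} (hp : p ∈ h.Γ) (e : sg p.2 l = -l)
    (a : ∀ g ∈ h.R l, u * g * u⁻¹ = h.nn p * g * (h.nn p)⁻¹ ∨
      u * g * u⁻¹ = h.nn p * g * (h.nn p)⁻¹ * h.t) : ∃ x ∈ h.R l, x * u * x⁻¹ = u * h.t := by
  have n : ∀ g ∈ h.R l, h.nn p * g * (h.nn p)⁻¹ ∈ h.R l := fun g hg =>
    h.R_neg hl ▸ e ▸ h.R_conj hl hp hg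
  obtain ⟨x, b⟩ := q8_inv (h.φ_inj l) uu (fun x => by
    rcases a _ ⟨x, rfl⟩ with b | b <;> rw [b]
    exacts [(n _ ⟨x, rfl⟩).imp fun _ => Eq.symm, (mul_mem (n _ ⟨x, rfl⟩) (h.R_t l)).imp fun _ => Eq.symm])
    fun c => by
      have k : ∀ g ∈ h.R l, h.nn p * g * (h.nn p)⁻¹ = g ∨ h.nn p * g * (h.nn p)⁻¹ = g * h.t := by
        rintro _ ⟨x, rfl⟩
        have := a _ ⟨x, rfl⟩
        rw [c, mul_inv_cancel_right] at this
        exact this.imp Eq.symm fun e => by rw [← mul_inv_eq_iff_eq_mul, h.ti]; exact e.symm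
      obtain ⟨v, v1, v2⟩ := (by decide +kernel : ∀ l w, Sg l → sg w l = -l → ∃ v,
        MO.dot l (-sg w v + v) ≠ 0 ∧ True) l _ hl e
      obtain ⟨g, hg, g2⟩ := h.R_ex l
      have c1 := h.ct (h.R_H hg)
      have : g = 1 ∨ g = h.t := h.R_fpf hl hg v1 (by
        have k1 := k _ (h.R_d hl hg v)
        rw [← conj_mul, ← conj_mul, ← conj_inv, h.nn_d hp] at k1
        have dt := h.dt (sg p.2 v)
        have dt' := h.dt v
        rw [h.d_add, h.d_neg]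
        generalize h.d (sg p.2 v) = y at *
        have yt : ∀ z, y⁻¹ * (z * h.t) * y = y⁻¹ * z * y * h.t := fun z => by
          rw [mul_assoc, mul_assoc, ← dt]; group
        have f : y⁻¹ * h.d v * g * (y⁻¹ * h.d v)⁻¹ = y⁻¹ * (h.d v * g * (h.d v)⁻¹) * y := by group
        rw [f]
        rcases k g hg with k2 | k2 <;> rw [k2] at k1 <;> rcases k1 with k1 | k1
        · exact Or.inl (by rw [← k1]; group)
        · exact Or.inr (by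
            rw [← mul_inv_eq_iff_eq_mul, h.ti] at k1; rw [← k1, yt]; group)
        · exact Or.inr (by rw [← k1]; group)
        · exact Or.inl (by
            rw [← mul_inv_eq_iff_eq_mul, h.ti] at k1
            rw [← k1, yt]; simp [mul_assoc, h.tt]))
      rcases this with rfl | rfl
      · exact h.t_ne (by simpa using g2.symm)
      · exact h.t_ne (g2.symm.trans h.tt)
  exact ⟨_, ⟨x, rfl⟩, h.φ_t l ▸ b⟩

/-- an involution of `H` inverting a singular element of `D` -/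
theorem q8s {l : V3} (hl : Sg l) {u : G} (uu : u * u = 1) (uH : u ∈ h.H)
    (e : u * h.d l * u⁻¹ = (h.d l)⁻¹) : ∃ x ∈ h.R l, x * u * x⁻¹ = u * h.t := by
  have σ : mσ ∈ h.Γ := h.ev
  have a := h.nn_d σ l
  rw [show sg mσ.2 l = -l from congrArg _ (sg_one l), h.d_neg] at a
  obtain ⟨x, hx, b⟩ := h.R_cz hl (mul_mem (inv_mem uH) (h.nnH σ)) (by
    rw [← mul_inv_eq_iff_eq_mul]
    calc _ = u⁻¹ * (h.σ * h.d l * h.σ⁻¹) * u := by group
      _ = _ := by rw [a, ← e]; group)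
  obtain ⟨p, hp, c⟩ := mul_mem b (inv_mem (h.nnN σ))
  rw [inv_eq_of_mul_eq_one_right uu, mul_assoc, mul_inv_cancel_right] at c
  have xl := h.R_d0 hl (inv_mem hx) ((by decide : ∀ l, Sg l → MO.dot l l = 0) l hl)
  have f : sg p.2 l = -l := h.d_inj (by
    rw [← h.NH_d hp c, h.d_neg]
    calc _ = x⁻¹ * (u * h.d l * u⁻¹) * x := by group
      _ = _ := by rw [e, (show Commute _ _ from xl).inv_right.eq]; group)
  refine h.q8p hl uu hp f fun g hg => ?_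
  have := h.R_in hx (h.R_neg hl ▸ f ▸ h.R_conj hl hp hg)
  rw [← h.NH_conj c (h.R_H hg)] at this ⊢
  simpa [mul_assoc] using this

variable [Finite G]

theorem nD {g : G} (e : ∀ x, ∃ v, g * h.d x * g⁻¹ = h.co v) : h.N g :=
  h.na (A := Set.range fun x => (0, x)) (fun _ a => h.c1 (v := zv) (u := d1) (by decide) (by decide)
    (by decide) (a _ ⟨_, rfl⟩) (a _ ⟨_, rfl⟩)) (by rintro _ ⟨x, rfl⟩; exact e x)

theorem inD' {y g : G} {v : V} (e : y ∈ h.NH) (c : g * h.co v * g⁻¹ = y) : y ∈ h.D :=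
  let ⟨_, hp, e⟩ := e; h.inD hp e c

theorem wcD : WC h.H h.D := by
  rintro g hg e _ ⟨x, rfl⟩
  exact h.inD' (h.mem_NH (h.nD fun y => (e _ (h.dD x) _ (h.dD y)).elim fun z e => ⟨_, e⟩)
    (mul_mem (mul_mem hg (h.dH x)) (inv_mem hg))) rfl

/-- fusion in `D` -/
theorem fusD {X : Subgroup G} (XH : X ≤ h.H) (DX : h.D ≤ X) {A : Set V3} {g : G} (hg : g ∈ X)
    (e : ∀ x ∈ A, g * h.d x * g⁻¹ ∈ h.D) : ∃ c ∈ X, c * g ∈ h.NH ∧
      ∀ x ∈ A, c * (g * h.d x * g⁻¹) * c⁻¹ = g * h.d x * g⁻¹ := by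
  obtain ⟨c, hc, a, b⟩ := (h.wcD.mono XH).ctrl DX h.D_p
    (by rintro _ ⟨x, rfl⟩ _ ⟨y, rfl⟩; exact h.dc x y) (A := h.d '' A)
    (by rintro _ ⟨x, -, rfl⟩; exact h.dD x) hg (by rintro _ ⟨x, hx, rfl⟩; exact e x hx)
  exact ⟨c, hc, h.mem_NH (h.nD fun y => (b _ (h.dD y)).elim fun z e => ⟨_, e⟩) (XH (mul_mem hc hg)),
    fun x hx => a _ ⟨x, hx, rfl⟩⟩

theorem fusD' {X : Subgroup G} (XH : X ≤ h.H) (DX : h.D ≤ X) {g : G} (hg : g ∈ X) {x y : V3}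
    (e : g * h.d x * g⁻¹ = h.d y) :
    ∃ p ∈ h.Γ, (h.nn p ∈ X ∨ h.nn p * h.t ∈ X) ∧ sg p.2 x = y := by
  obtain ⟨c, hc, ⟨p, hp, a⟩, b⟩ := h.fusD XH DX (A := {x}) hg (by rintro _ rfl; exact ⟨_, e⟩)
  refine ⟨p, hp, by rcases a with a | a <;> simp [← a, mul_mem hc hg], h.d_inj ?_⟩
  rw [← h.NH_d hp a, ← e, ← b x rfl]; group

end Fr

end CL.O8
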