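/- Non-fusion of involutions. -/
import Mathlib
import Cfsg.Agent.PERM.O8.RR
import Cfsg.Agent.PERM.O8.Long

set_option autoImplicit false
set_option maxRecDepth 100000
set_option synthInstance.maxSize 2000

namespace CL.O8.Fr

open Subgroup CL.Odd CL.Odd.MO

variable {G : Type*} [Group G] [Finite G] (h : Fr G)

omit [Finite G] in
theorem t_s3 : h.w (nu 3) * h.t * (h.w (nu 3))⁻¹ = h.s3 := by
  have o := h.ok_ev ⟨(nu_ok 3).1, (nu_ok 3).2.1⟩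
  rw [mul_inv_eq_iff_eq_mul, ← h.w_mul _ _ o h.ok_t, s3, m3, h.nn_lin,
    ← h.w_mul (em false (6, true)) _ (h.ok_em (p := m3) h.ev false) o]
  exact congrArg _ (by decide)

/-- conjugating into a subspace that is a Sylow subgroup of the centralizer of `w T` -/
theorem intoA {A : AddSubgroup V} {T : Lin} (o : OK h.c2 T)
    (hA : ∀ c, (∀ v ∈ A, c * h.co v = h.co v * c) → h.N c) (hT : ∀ v, ap T v = v ↔ v ∈ A)
    (h4 : ∀ U, Orth U → cmp U T = cmp T U → cmp (cmp U U) (cmp U U) = oneL)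
    {g y : G} (e : g * y * g⁻¹ = h.w T) {u v : V} (a : h.co u ∈ Odd.cz y) (b : h.co v ∈ Odd.cz y) :
    ∃ u' ∈ A, ∃ v' ∈ A, dot u' u' = dot u u ∧ dot v' v' = dot v v ∧ dot u' v' = dot u v ∧
      (u' = 0 → u = 0) := by
  have m : ∀ v, h.co v ∈ Odd.cz (h.w T) ↔ v ∈ A := fun v => by
    rw [mem_cz_comm, mem_cz, h.w_act _ o, h.co_inj.eq_iff, hT]
  obtain ⟨c, -, k⟩ := Tr.exists_conj_le_sylowIn (JS_p h.co_add A) (syl3 (X := Odd.cz (h.w T)) (JS_p _ _)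
    (by rintro _ ⟨v, hv, rfl⟩; exact (m v).2 hv) fun g hg n k g3 => by
      obtain ⟨U, o', b⟩ := h.nj_act (h.na hA fun v hv => (n _ ⟨v, hv, rfl⟩).imp fun _ e => e.2.symm)
      have c : cmp U T = cmp T U := lin_ext fun x => h.co_inj (by
        rw [ap_cmp, ap_cmp, ← b, ← h.w_act _ o, ← h.w_act _ o, ← b]
        calc _ = g * h.w T * h.co x * (g * h.w T)⁻¹ := by group
          _ = _ := by rw [mem_cz'.1 hg]; group)
      obtain ⟨x, d⟩ := h.cj (c := g ^ 4) fun x => by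
        rw [← mul_inv_eq_iff_eq_mul]
        conv_rhs => rw [← ap_one x, ← h4 U o'.1 c, ap_cmp, ap_cmp, ap_cmp, ← b, ← b, ← b, ← b]
        simp [pow_succ, mul_assoc]
      obtain ⟨n, e⟩ := eq_of_pow4 g3
      rw [e]
      exact Subgroup.pow_mem _ (show g ^ 4 ∈ JS h.co_add A from ⟨x, (m x).1 (d ▸ pow_mem hg 4), d.symm⟩) n)
    (((JS_p h.co_add ⊤).to_inf_left (K := Odd.cz y)).map (MulAut.conj g).toMonoidHom) (by
      rintro _ ⟨b, hb, rfl⟩; exact e ▸ conj_mem_cz g hb.2)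
  obtain ⟨u', hu, a'⟩ := k _ ⟨_, ⟨⟨u, trivial, rfl⟩, a⟩, rfl⟩
  obtain ⟨v', hv, b'⟩ := k _ ⟨_, ⟨⟨v, trivial, rfl⟩, b⟩, rfl⟩
  have a'' : c * g * h.co u * (c * g)⁻¹ = h.co u' := by rw [a']; simp [mul_assoc]
  have := h.fus2 a'' (show c * g * h.co v * (c * g)⁻¹ = h.co v' by rw [b']; simp [mul_assoc])
  refine ⟨u', hu, v', hv, this.1, this.2.1, this.2.2, fun e => ?_⟩
  rwa [e, h.co0, conj_eq_one_iff, h.co_eq_one] at a''

omit [Finite G] in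
theorem nn_mul_t {w : W48} (hw : MO.mk 0 w ∈ h.Γ) : h.nn (MO.mk 0 w) * h.t = h.w (em true w) := by
  rw [h.nn_lin, ← h.w_mul (em false w) _ (h.ok_em hw false) h.ok_t, show tL = em true (0, false) by decide, cmp_em]
  exact congrArg _ (congrArg _ (sg_inj fun x => by rw [sg_wm, sg_one]))

theorem nf1 (g : G) : g * h.t * g⁻¹ ≠ h.s3 * h.t := fun e => by
  obtain ⟨u, a, -, -, b, -, -, c⟩ := h.intoA (A := ⟨⟨⟨{v | v.1 = 0 ∧ v.2.2.2 = 0},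
    fun a b => ⟨by simp [a.1, b.1], by simp [a.2, b.2]⟩⟩, rfl, rfl⟩,
    fun a => ⟨by simp [a.1], by simp [a.2]⟩⟩) (h.ok_em (p := m3) h.ev true)
    (fun c e => h.cu (e _ ⟨rfl, rfl⟩) (e _ ⟨rfl, rfl⟩))
    (by decide +kernel : ∀ v, ap (em true (6, true)) v = v ↔ v.1 = 0 ∧ v.2.2.2 = 0)
    (fun U o => AllW.of (P := fun U => cmp U (em true (6, true)) = cmp (em true (6, true)) U →
      cmp (cmp U U) (cmp U U) = oneL) (by decide +kernel) o)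
    (e.trans (h.nn_mul_t h.ev)) (h.dH cc) (h.dH cc)
  exact absurd (c ((by decide : ∀ u : V, u.1 = 0 ∧ u.2.2.2 = 0 → dot u u = dot (0, cc) (0, cc) → u = 0)
    u a b)) (by decide)

theorem nf_rt (c : h.c2) {g y : G} (e : g * y * g⁻¹ = h.r * h.t) {u v : V} (a : h.co u ∈ Odd.cz y)
    (b : h.co v ∈ Odd.cz y) (k : dot u u = 1 ∧ dot v v = 1 ∧ dot u v = 0) : False := by
  obtain ⟨u', a, v', b, d, e, f, -⟩ := h.intoA (A := ⟨⟨⟨{v | v.1 = 0 ∧ v.2.1 = v.2.2.1},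
    fun a b => ⟨by simp [a.1, b.1], by simp [a.2, b.2]⟩⟩, rfl, rfl⟩,
    fun a => ⟨by simp [a.1], by simp [a.2]⟩⟩) (h.ok_em (p := mr) (h.rΓ c) true)
    (fun c e => h.c1 (v := zv) (u := d3) (by decide) (by decide) (by decide) (e _ ⟨rfl, rfl⟩)
      (e _ ⟨rfl, rfl⟩))
    (by decide +kernel : ∀ v, ap (em true (7, true)) v = v ↔ v.1 = 0 ∧ v.2.1 = v.2.2.1)
    (fun U o => AllW.of (P := fun U => cmp U (em true (7, true)) = cmp (em true (7, true)) U →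
      cmp (cmp U U) (cmp U U) = oneL) (by decide +kernel) o)
    (e.trans (h.nn_mul_t (h.rΓ c))) a b
  rw [k.1] at d; rw [k.2.1] at e; rw [k.2.2] at f
  exact (by decide +kernel : ∀ u v : V, u.1 = 0 ∧ u.2.1 = u.2.2.1 → v.1 = 0 ∧ v.2.1 = v.2.2.1 →
    dot u u = 1 → dot v v = 1 → dot u v ≠ 0) _ _ a b d e f

theorem nf3 (c : h.c2) (g : G) : g * h.t * g⁻¹ ≠ h.r * h.t := fun e =>
  h.nf_rt c e (h.dH (1, 0, 0)) (h.dH (0, 1, 0)) (by decide)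

theorem nf4 (c : h.c2) (g : G) : g * h.r * g⁻¹ ≠ h.r * h.t := fun e =>
  h.nf_rt c e (u := (1, 0)) (v := (0, 0, 0, 1)) (mem_cz_comm.1 (mem_cz.2 (h.nn_act (h.rΓ c) 1 0)))
    (mem_cz_comm.1 (mem_cz.2 (h.nn_act (h.rΓ c) 0 (0, 0, 1)))) (by decide)

theorem nf2 (c : h.c2) (g : G) : g * h.t * g⁻¹ ≠ h.r := fun e => by
  obtain ⟨k, hk, a⟩ := h.wcD.into h.DH h.D_p
    (((JS_p h.co_add ⊤).to_inf_left (K := Odd.cz h.r)).map (MulAut.conj g⁻¹).toMonoidHom) (by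
      rintro _ ⟨b, hb, rfl⟩
      have := conj_mem_cz g⁻¹ hb.2
      rwa [← e, show g⁻¹ * (g * h.t * g⁻¹) * g⁻¹⁻¹ = h.t by group] at this)
  have b : ∀ i x, sg mr.2 x = x → k * g⁻¹ * h.co (i, x) * (k * g⁻¹)⁻¹ ∈ h.D := fun i x hx => by
    have m : h.co (i, x) ∈ Odd.cz h.r := mem_cz_comm.1 (mem_cz.2 (by rw [h.nn_act (h.rΓ c), hx]))
    have m' := conj_mem_cz (k * g⁻¹) m
    rw [← e, show k * g⁻¹ * (g * h.t * g⁻¹) * (k * g⁻¹)⁻¹ = k * h.t * k⁻¹ by group, mem_cz.1 hk] at m'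
    refine h.inD' (h.mem_NH (h.nD fun y => ?_) m') rfl
    obtain ⟨z, e⟩ := a _ ⟨_, ⟨⟨(i, x), trivial, rfl⟩, m⟩, rfl⟩ _ (h.dD y)
    exact ⟨_, Eq.trans (by simp [mul_assoc]) e⟩
  obtain ⟨T, o, f⟩ := h.fus (A := {(1, 0), (0, 1, 1, 0), (0, 0, 0, 1)}) (g := k * g⁻¹) (by
    rintro _ (rfl | rfl | rfl) <;> exact (b _ _ (by decide)).elim fun z e => ⟨_, e⟩)
  have l : ∀ i x, sg mr.2 x = x → (i, x) ∈ ({(1, 0), (0, 1, 1, 0), (0, 0, 0, 1)} : Set V) →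
      (ap T (i, x)).1 = 0 := fun i x hx m => by
    obtain ⟨z, e⟩ := b i x hx
    rw [h.co_inj ((f _ m).symm.trans e)]
  exact AllW.of (P := fun T => (ap T (1, 0)).1 = 0 → (ap T (0, 1, 1, 0)).1 = 0 →
    (ap T (0, 0, 0, 1)).1 ≠ 0) (by decide +kernel) o.1 (l _ _ (by decide) (by simp))
    (l _ _ (by decide) (by simp)) (l _ _ (by decide) (by simp))

/-- a conjugate `u` of `s3` in `H` is not conjugate to `u t` -/
theorem nfs {g x : G} (hg : g ∈ h.H) : x * (g * h.s3 * g⁻¹) * x⁻¹ ≠ g * h.s3 * g⁻¹ * h.t := fun e =>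
  h.nf1 (g⁻¹ * x * g * h.w (nu 3)) (by
    rw [mul_assoc _ g⁻¹, h.ct (inv_mem hg), ← h.t_s3] at e
    rw [← h.t_s3]
    calc _ = g⁻¹ * (x * (g * (h.w (nu 3) * h.t * (h.w (nu 3))⁻¹) * g⁻¹) * x⁻¹) * g := by group
      _ = _ := by rw [e]; group)

theorem nfr (c : h.c2) {g x : G} (hg : g ∈ h.H) :
    x * (g * h.r * g⁻¹) * x⁻¹ ≠ g * h.r * g⁻¹ * h.t := fun e =>
  h.nf4 c (g⁻¹ * x * g) (by
    rw [mul_assoc _ g⁻¹, h.ct (inv_mem hg)] at e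
    calc _ = g⁻¹ * (x * (g * h.r * g⁻¹) * x⁻¹) * g := by group
      _ = _ := by rw [e]; group)

/-- centralizers in `H` of vectors of weight one -/
theorem cl' {x : V3} (hx : MO.dot x x = 1) {c : G} (hc : c ∈ h.H) (e : c * h.d x = h.d x * c) :
    c ∈ h.NH := by
  obtain ⟨w, a, rfl⟩ := (by decide +kernel : ∀ x : V3, MO.dot x x = 1 → ∃ w : W48, w.1.val % 2 = 0 ∧
    sg (MO.mk 0 w).2 (1, 0, 0) = x) x hx
  have a : MO.mk 0 w ∈ h.Γ := h.ev a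
  have m := h.nnN a
  rw [← h.nn_d a] at e
  generalize h.nn (MO.mk 0 w) = n at *
  have k := mul_mem (mul_mem (inv_mem (h.NH_H m)) hc) (h.NH_H m)
  have := h.mem_NH (h.cl (mem_cz'.1 k) (by
    calc _ = n⁻¹ * (c * (n * h.d (1, 0, 0) * n⁻¹)) * n := by simp [mul_assoc]; rfl
      _ = _ := by rw [e]; simp [mul_assoc]; rfl)) k
  simpa [mul_assoc] using mul_mem (mul_mem m this) (inv_mem m)

end CL.O8.Fr
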