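/- The centralizer in H = C(t) of a vector of weight two.  Tools: PERM/O8/RR (R l, R_*, q8s, fusD', nD,
mem_NH, NH_d), O8/NF (nfs, nf2, nf3, t_s3), O8/Long (cu), O8/Bas (na, c1, fus2, syl3, eq_of_pow4, nn_*), O8/Gen
(exists_qm, QM.*, class2, cm, nm_eq, cube_eq_one), `CL.Odd.theta` (PERM/S9Theta), `CL.T42.exists_W` (PERM/T42k),
`CL.coprime_le_of_forall_centralizer_le` (SOLV/CoprimeGen).
a = (1,2,0), e = (1,1,0), c = (0,0,1), x = (1,0,0), z = e + c, z' = e - c = (1,1,2), Y = H ⊓ cz (d a) ≥ D, R z, R z'.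
St = {w | sg w a = a} = {1, s3, ρ, ρ s3}, ρ = reflection in e (odd); w * w = 1 on St (decide).
(0) 3 ∤ D.relIndex Y by `syl3`: g normalizing D lies in NH (nD), g = nn p t^ε, p.2 ∈ St, g^4 = nn (p^4) ∈ D.
(1) `theta` with X = Y, S = D (27), Q = {d u | MO.dot e u = 0} (9), involution s3.  hsc: fusD' and St preserves Q.
hinv: u = g s3 g⁻¹ inverts d y with dot e y ≠ 0.  fusD' gives w ∈ St with sg w y = -y, so Sg y or y = ± e (decide).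
Sg y: q8s against nfs.  y = ± e: u maps d(1,0,0), d(0,1,0) ∈ ⟨d a, d e⟩ into D, so u ∈ NH (`na` with A = {d1,d2}, cu),
u = nn p t^ε, p * p = 1 (nn_eq_one), sg p a = a, sg p e = -e; decide: p inverts a singular vector (q8s, nfs) or p is odd
(so c2) and q p q⁻¹ = mr for some q = mk v (sign change); then u is conjugate to r or r t, and to t (t_s3): nf2, nf3.
Result K ⊴ Y, s3 ∈ K, K ⊓ D ≤ Q; d c ∈ K (commutator with s3).
(2) π from exists_qm for Y and the central Z = {d (k • a) * t^ε}.  An element d v * ζ (ζ ∈ Z) of cube 1 is d (v + k a).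
`exists_W` with Y := img K, s = π (d c), d = π s3, x = π (d x), t := 1.  hc: y ∈ K, y (d c) y⁻¹ = d (c + k a): y ∈ NH
(`na`, A = {(0,a),(0,c)}, c1 with a + c singular, u = c), p.2 ∈ {1, ρ}; ρ would give d e = [y, d e] ∈ K ⊓ D ≤ Q; so
y = d v t^ε, d v = y^4 ∈ Q.  hx: g (d x) g⁻¹ = d (x + k a): g ∈ NH (`na`, cu), p.2 ∈ {1, s3}, g * g ∈ D, g^6 = 1, the
commutator is π (d c).  Result W ⊴ Q̄, 3' group, (y s)^3 = 1 on W, every g has o ∈ W with g o or s3 g o commuting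
with s, hence (as in hc) in π NH.
(3) class2: W has class ≤ 2, C_W(s) = 1.  π (R z), π (R z') ≤ W by clause 5 of exists_W: R_gen (u = c) gives
π ρ ∈ img K, R_sq, R_nm + nm_eq.  C_W(π (d e)) = 1: a preimage lies in NH (na, cu: ⟨a,e⟩ = ⟨d1,d2⟩), its commutator
with s lies in W and has cube 1.  C_W(π (d z)) ≤ π (R z): y (d z) y⁻¹ = d (z + k a), k = 0 by fus2, y = ρ n (R_cz),
π n ∈ W with n ∈ NH ⊓ Y forces π n = 1 as before.  Same for z'.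
(4) `cm` with x = π (d z), y = π (d z') (x y = π (d e)⁻¹, x y⁻¹ = s⁻¹; nm by R_nm): ⁅π ρ, π ρ'⁆^3 = 1, so
k = ⁅ρ,ρ'⁆ ∈ Z is central in Y.  Then ⁅ρ, ·⁆ is multiplicative on Y-elements with central commutator: k^4 = ⁅ρ,ρ'^4⁆ = 1,
and as d z centralizes ρ and k, k^3 = ⁅ρ, nm (d z) ρ'⁆ = 1.  So k = 1.
(5) W ≤ π (R z * R z') by coprime generation for A = ⟨π (d e), s⟩ (order 9; its nonidentity elements are powers of
π (d e), s, π (d z), π (d z')).  With (2): g = ρ ρ' n, n ∈ NH. -/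
import Mathlib
import Cfsg.Agent.PERM.O8.NF
import Cfsg.Agent.PERM.S9Theta

set_option autoImplicit false
set_option maxRecDepth 100000
set_option synthInstance.maxSize 2000

namespace CL.O8.Fr

open Subgroup CL.Odd CL.Odd.MO

variable {G : Type*} [Group G] [Finite G] (h : Fr G)

section
omit [Finite G]

/-- the centralizer in `H` of `d (1,2,0)` -/
abbrev sY : Subgroup G := h.H ⊓ Odd.cz (h.d (1, 2, 0))

/-- hyperplanes of `D` -/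
def Dl (l : V3) : Subgroup G where
  carrier := {g | ∃ x, MO.dot l x = 0 ∧ g = h.d x}
  one_mem' := ⟨0, by simp [MO.dot], h.co0.symm⟩
  mul_mem' := by
    rintro _ _ ⟨x, a, rfl⟩ ⟨y, b, rfl⟩
    exact ⟨_, (by decide +kernel : ∀ l x y : V3, MO.dot l x = 0 → MO.dot l y = 0 → MO.dot l (x + y) = 0) l x y a b, (h.d_add x y).symm⟩
  inv_mem' := by
    rintro _ ⟨x, a, rfl⟩
    exact ⟨_, (by decide +kernel : ∀ l x : V3, MO.dot l x = 0 → MO.dot l (-x) = 0) l x a, (h.d_neg x).symm⟩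

theorem Dl_le (l : V3) : h.Dl l ≤ h.D := fun _ ⟨x, _, e⟩ => ⟨x, e⟩

theorem d_mem_Dl {l x : V3} (e : h.d x ∈ h.Dl l) : MO.dot l x = 0 := let ⟨_, a, b⟩ := e; h.d_inj b ▸ a

theorem card_Dl (l : V3) : Nat.card (h.Dl l) = Fintype.card {x // MO.dot l x = 0} :=
  (Nat.card_congr (Equiv.ofBijective (fun x : {x // MO.dot l x = 0} => (⟨_, x.1, x.2, rfl⟩ : h.Dl l))
    ⟨fun _ _ e => Subtype.ext (h.d_inj (congrArg Subtype.val e)), fun ⟨_, x, a, e⟩ => ⟨⟨x, a⟩, Subtype.ext e.symm⟩⟩)).symm.trans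
    Nat.card_eq_fintype_card

theorem d_smul (k : F) (x : V3) : h.d (k • x) = h.d x ^ k.val := by rw [← h.co_smul]; simp

theorem dY (x : V3) : h.d x ∈ h.sY := ⟨h.dH x, h.co_cz _ _⟩
theorem tY : h.t ∈ h.sY := ⟨h.tH, mem_cz'.2 (h.dt _).symm⟩
theorem s3Y : h.s3 ∈ h.sY := ⟨h.nnH h.ev, mem_cz.2 (h.nn_d h.ev _)⟩
theorem RY {l : V3} (hl : Sg l) (e : MO.dot l (1, 2, 0) = 0) : h.R l ≤ h.sY := fun _ hg => ⟨h.R_H hg, mem_cz'.2 (h.R_d0 hl hg e)⟩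

theorem sg_a {g : G} (hg : g ∈ h.sY) {p : MO} (hp : p ∈ h.Γ) (e : g = h.nn p ∨ g = h.nn p * h.t) : sg p.2 (1, 2, 0) = (1, 2, 0) :=
  h.d_inj ((h.NH_d hp e _).symm.trans (mem_cz.1 hg.2))

theorem sq_nn {g : G} {p : MO} (hp : p ∈ h.Γ) (e : g = h.nn p ∨ g = h.nn p * h.t) : g * g = h.nn (p * p) := by
  rw [h.nn_mul hp hp]
  rcases e with rfl | rfl
  · rfl
  · rw [mul_assoc, ← mul_assoc h.t, ← h.nn_t hp, mul_assoc, h.tt, mul_one]

theorem sq_D {g : G} (hg : g ∈ h.sY) (n : g ∈ h.NH) : g * g ∈ h.D :=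
  let ⟨p, hp, e⟩ := n
  ⟨_, (h.sq_nn hp e).trans (h.nn_eq_d ((by decide +kernel : ∀ w, sg w (1, 2, 0) = (1, 2, 0) → ∀ x, sg (wm w w) x = x) _ (h.sg_a hg hp e)))⟩

/-- the central subgroup of order six -/
def sZ : Subgroup G where
  carrier := {g | ∃ k : F, g = h.d (k • (1, 2, 0)) ∨ g = h.d (k • (1, 2, 0)) * h.t}
  one_mem' := ⟨0, .inl (h.d_eq_one.2 (zero_smul ..)).symm⟩
  mul_mem' := by
    rintro _ _ ⟨k, rfl | rfl⟩ ⟨l, rfl | rfl⟩ <;> refine ⟨k + l, ?_⟩ <;> rw [add_smul, h.d_add]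
    · exact .inl rfl
    · exact .inr (mul_assoc ..).symm
    · exact .inr (by rw [mul_assoc, ← h.dt, mul_assoc])
    · exact .inl (by rw [mul_assoc, ← mul_assoc h.t, ← h.dt, mul_assoc, h.tt, mul_one])
  inv_mem' := by
    rintro _ ⟨k, rfl | rfl⟩ <;> refine ⟨-k, ?_⟩ <;> rw [neg_smul, h.d_neg]
    · exact .inl rfl
    · exact .inr (by rw [h.dt, mul_inv_rev, h.ti])

theorem cZ {y z : G} (hy : y ∈ h.sY) (hz : z ∈ h.sZ) : y * z = z * y := by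
  have c : ∀ k : F, Commute y (h.d (k • (1, 2, 0))) := fun k => h.d_smul k _ ▸ (show Commute _ _ from mem_cz'.1 hy.2).pow_right _
  obtain ⟨k, rfl | rfl⟩ := hz
  exacts [c k, (c k).mul_right (h.ct hy.1)]

end

theorem n_x {y : G} (hy : y ∈ h.sY) (a : h.Mp y d1) : y ∈ h.NH :=
  h.mem_NH (h.na2 (fun _ => h.cu) a (h.mp_add a (h.mp_add (h.mp_cz hy.2) (h.mp_cz hy.2)))) hy.1

theorem n_e {y : G} (hy : y ∈ h.sY) (a : h.Mp y (0, 1, 1, 0)) : y ∈ h.NH := h.n_x hy (h.mp_neg (h.mp_add a (h.mp_cz hy.2)))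

theorem n_c {y : G} (hy : y ∈ h.sY) (a : h.Mp y (0, 0, 0, 1)) : y ∈ h.NH :=
  h.mem_NH (h.n2 (v := (0, 1, 2, 0) + (0, 0, 0, 1)) (by decide) (h.mp_add (h.mp_cz hy.2) a) a) hy.1

theorem exists_K : ∃ K ≤ h.sY, (∀ g ∈ h.sY, ∀ n ∈ K, g * n * g⁻¹ ∈ K) ∧ h.s3 ∈ K ∧ K ⊓ h.D ≤ h.Dl (1, 1, 0) := by
  have DY : h.D ≤ h.sY := by rintro _ ⟨x, rfl⟩; exact h.dY x
  have fu : ∀ g ∈ h.sY, ∀ x y, g * h.d x * g⁻¹ = h.d y → ∃ w, sg w (1, 2, 0) = (1, 2, 0) ∧ sg w x = y := fun g hg x y e =>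
    let ⟨p, hp, a, b⟩ := h.fusD' inf_le_left DY hg e
    ⟨p.2, a.elim (h.sg_a · hp (.inl rfl)) (h.sg_a · hp (.inr rfl)), b⟩
  have s2 : h.s3 * h.s3 = 1 := h.nn_sq h.ev (by decide)
  refine theta DY h.D_p (syl3 h.D_p DY fun g hg n k e => ?_) (h.Dl_le _) ?_ ?_ h.s3Y s2 ?_
  · obtain ⟨m, e'⟩ := eq_of_pow4 e
    have := h.sq_D hg (h.mem_NH (h.nD fun x => (n _ (h.dD x)).elim fun _ e => ⟨_, e⟩) hg.1)
    rw [e', show 4 = 2 * 2 from rfl, pow_mul, pow_two g]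
    exact pow_mem (pow_mem this _) _
  · rw [show h.D = h.Dl 0 from le_antisymm (fun _ ⟨x, e⟩ => ⟨x, by simp [MO.dot], e⟩) (h.Dl_le _), h.card_Dl, h.card_Dl]
    decide +kernel
  · rintro _ ⟨x, a, rfl⟩ g hg ⟨y, e⟩
    obtain ⟨w, b, rfl⟩ := fu g hg _ _ e
    exact ⟨_, (by decide +kernel : ∀ w x, sg w (1, 2, 0) = (1, 2, 0) → MO.dot (1, 1, 0) x = 0 → MO.dot (1, 1, 0) (sg w x) = 0) w x b a, e⟩
  rintro g hg _ ⟨y, rfl⟩ e
  refine ⟨y, not_not.1 fun y0 => ?_, rfl⟩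
  have uY := mul_mem (mul_mem hg h.s3Y) (inv_mem hg)
  have uu : g * h.s3 * g⁻¹ * (g * h.s3 * g⁻¹) = 1 := by rw [conj_mul, s2]; simp
  have ns : ∀ l, Sg l → g * h.s3 * g⁻¹ * h.d l * (g * h.s3 * g⁻¹)⁻¹ ≠ h.d (-l) := fun l hl e =>
    let ⟨_, _, e⟩ := h.q8s hl uu uY.1 (e.trans (h.d_neg l)); h.nfs hg.1 e
  rw [← h.d_neg] at e
  obtain ⟨w, a, b⟩ := fu _ uY _ _ e
  have y1 := ((by decide +kernel : ∀ w y, sg w (1, 2, 0) = (1, 2, 0) → sg w y = -y → MO.dot (1, 1, 0) y ≠ 0 →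
    Sg y ∨ y = (1, 1, 0) ∨ y = (2, 2, 0)) w y a b y0).resolve_left fun s => ns y s e
  obtain ⟨p, hp, f⟩ := h.n_e uY (y1.elim (fun k => ⟨_, k ▸ e⟩) fun k => h.mp_neg ⟨_, k ▸ e⟩)
  obtain ⟨l, hl, k⟩ | ⟨o, v, k⟩ := (by decide +kernel : ∀ p : MO, sg p.2 (1, 2, 0) = (1, 2, 0) → p * p = 1 → ∀ y, y = (1, 1, 0) ∨ y = (2, 2, 0) →
    sg p.2 y = -y → (∃ l, Sg l ∧ sg p.2 l = -l) ∨ p.2.1.val % 2 ≠ 0 ∧ ∃ v, MO.mk v (12, true) * p * (MO.mk v (12, true))⁻¹ = mr) p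
    (h.sg_a uY hp f) (h.nn_eq_one (h.Γ.mul_mem hp hp) (.inl ((h.sq_nn hp f).symm.trans uu))) y y1 (h.d_inj ((h.NH_d hp f y).symm.trans e))
  · exact ns l hl (k ▸ h.NH_d hp f l)
  have c := hp.resolve_right o
  have k' : h.nn (MO.mk v (12, true)) * h.nn p * (h.nn (MO.mk v (12, true)))⁻¹ = h.r := by rw [← h.nn_conj (h.rΓ c) hp, k]
  rw [← h.t_s3] at f
  rcases f with f | f
  · exact h.nf2 c (h.nn (MO.mk v (12, true)) * g * h.w (nu 3)) (by rw [← k', ← f]; group)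
  · exact h.nf3 c (h.nn (MO.mk v (12, true)) * g * h.w (nu 3)) (by
      rw [← k', mul_assoc _ _⁻¹, h.ct (inv_mem (h.nnH (h.rΓ c))), ← mul_assoc, mul_assoc _ (h.nn p), ← f]; group)

theorem short : (∀ a ∈ h.R (1, 1, 1), ∀ b ∈ h.R (1, 1, 2), a * b = b * a) ∧
    ∀ g ∈ h.H, g * h.d (1, 2, 0) = h.d (1, 2, 0) * g →
      ∃ a ∈ h.R (1, 1, 1), ∃ b ∈ h.R (1, 1, 2), ∃ n ∈ h.NH, g = a * b * n := by
  obtain ⟨K, KY, nK, sK, KD⟩ := h.exists_K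
  obtain ⟨Q, _, _, π, q⟩ := exists_qm (Y := h.sY) (Z := h.sZ) fun y hy z hz => by rwa [h.cZ hy hz, mul_inv_cancel_right]
  have := q.img_normal KY nK
  have dY := h.dY
  have πt : π h.t = 1 := (q.ker _ h.tY).2 ⟨0, .inr (by rw [zero_smul, h.d_eq_one.2 rfl, one_mul])⟩
  have π1 : ∀ {g}, g = 1 ∨ g = h.t → π g = 1 := by rintro _ (rfl | rfl); exacts [q.one, πt]
  have πn : ∀ {g g'}, g' ∈ h.sY → g = g' ∨ g = g' * h.t → π g = π g' := by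
    rintro _ g hg (rfl | rfl); exacts [rfl, by rw [q.mul _ hg _ h.tY, πt, mul_one]]
  have d3 : ∀ v, π (h.d v) ^ 3 = 1 := fun v => by rw [← q.pow (dY v), h.d3', q.one]
  have da : ∀ u v, π (h.d (u + v)) = π (h.d u) * π (h.d v) := fun u v => by rw [h.d_add, q.mul _ (dY _) _ (dY _)]
  have dn : ∀ u, π (h.d (-u)) = (π (h.d u))⁻¹ := fun u => by rw [h.d_neg, q.inv (dY _)]
  have cm' : ∀ {a b}, a ∈ h.sY → b ∈ h.sY → a * b = b * a → π a * π b = π b * π a := fun ha hb e => by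
    rw [← q.mul _ ha _ hb, e, q.mul _ hb _ ha]
  have E : ∀ {y}, y ∈ h.sY → ∀ {v v'}, π y * π (h.d v) = π (h.d v') * π y → ∃ k : F, y * h.d v * y⁻¹ = h.d (v' + k • (1, 2, 0)) :=
    fun {y} hy v v' e => by
      rw [← mul_inv_eq_iff_eq_mul, ← q.conj hy (dY v), q.eq_iff (mul_mem (mul_mem hy (dY v)) (inv_mem hy)) (dY v')] at e
      obtain ⟨k, e⟩ := e
      rw [inv_mul_eq_iff_eq_mul, inv_mul_eq_iff_eq_mul, ← mul_assoc, ← h.d_add] at e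
      exact ⟨k, e.resolve_right h.not_dt⟩
  have E1 : ∀ {v v'}, π (h.d v) = π (h.d v') → ∃ k : F, v = v' + k • (1, 2, 0) := fun {v v'} e =>
    (@E 1 (one_mem _) v v' (by rw [q.one, one_mul, mul_one, e])).imp fun k e => h.d_inj (by simpa using e)
  have cs : h.s3 * h.d (0, 0, 1) * h.s3⁻¹ = h.d (-(0, 0, 1)) := h.nn_d h.ev _
  have s2 : h.s3 * h.s3 = 1 := h.nn_sq h.ev (by decide)
  have cK : ∀ {k u v}, k ∈ K → k * h.d u * k⁻¹ = h.d v → h.d (v + -u) ∈ K := fun {k u v} hk e => by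
    simpa [h.d_add, h.d_neg, ← e, mul_assoc] using mul_mem hk (nK _ (dY u) _ (inv_mem hk))
  have c0 : h.d (0, 0, 1) ∈ K := cK sK cs
  have dd : π h.s3 * π h.s3 = 1 := by rw [← q.mul _ h.s3Y _ h.s3Y, s2, q.one]
  obtain ⟨W, nW, cW, -, W3, W5, W6⟩ := T42.exists_W (Y := q.img K KY) (s := π (h.d (0, 0, 1))) (d := π h.s3) (x := π (h.d (1, 0, 0))) (t := 1)
    ⟨_, c0, rfl⟩ ⟨_, sK, rfl⟩ (one_mem _) (fun e => absurd (E1 (v' := 0) (e.trans (π1 (.inl h.co0)).symm)) (by decide)) (d3 _) (d3 _)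
    (one_mul 1) dd (by nth_rw 2 [← inv_eq_of_mul_eq_one_right dd]; rw [← q.conj h.s3Y (dY _), cs, dn, inv_mul_cancel])
    (cm' (dY _) h.s3Y (mul_inv_eq_iff_eq_mul.1 (h.nn_d (p := m3) h.ev (1, 0, 0))).symm) (cm' (dY _) (dY _) (h.dc _ _)) (fun g => by simp)
    (by
      rintro _ ⟨k, hk, rfl⟩ e
      obtain ⟨j, e⟩ := E (KY hk) e
      obtain ⟨p, hp, f⟩ := h.n_c (KY hk) ⟨_, e⟩
      have a := h.nn_eq_d ((by decide +kernel : ∀ w (j : F), sg w (1, 2, 0) = (1, 2, 0) → sg w (0, 0, 1) = (0, 0, 1) + j • (1, 2, 0) →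
        MO.dot (1, 1, 0) (sg w (1, 1, 0) + -(1, 1, 0)) = 0 → ∀ x, sg w x = x) p.2 j (h.sg_a (KY hk) hp f)
        (h.d_inj ((h.NH_d hp f _).symm.trans e)) (h.d_mem_Dl (KD ⟨cK hk (h.NH_d hp f _), h.dD _⟩)))
      have b := mul_mem hk hk
      rw [h.sq_nn hp f, h.nn_mul hp hp, a, ← h.d_add] at b
      obtain ⟨i, j, c⟩ := (by decide +kernel : ∀ v : V3, MO.dot (1, 1, 0) (v + v) = 0 → ∃ i j : F, v = i • (0, 0, 1) + j • (1, 2, 0)) _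
        (h.d_mem_Dl (KD ⟨b, h.dD _⟩))
      rw [a] at f
      rw [πn (dY p.1) f, c, da, (q.ker _ (dY _)).2 ⟨j, .inl rfl⟩, mul_one, h.d_smul, q.pow (dY _)]
      exact .inl (pow_mem (mem_zpowers _) _))
    fun g e => by
      obtain ⟨y, hy, rfl⟩ := q.sur g
      obtain ⟨v, e⟩ := h.sq_D hy (h.n_x hy ((E hy e).elim fun _ e => ⟨_, e⟩))
      have : π y * π y * π h.s3 * π (h.d (0, 0, 1)) * (π y * π y * π h.s3)⁻¹ * (π (h.d (0, 0, 1)))⁻¹ = π (h.d (0, 0, 1)) := by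
        rw [← q.mul _ hy _ hy, e, ← q.mul _ (dY _) _ h.s3Y, ← q.conj (mul_mem (dY _) h.s3Y) (dY _), mul_inv_rev, ← mul_assoc,
          mul_assoc (h.d v), mul_assoc (h.d v), cs, h.dc v, mul_inv_cancel_right, ← dn, ← da]; rfl
      rw [this, show 12 = 2 * (3 * 2) from rfl, pow_mul, pow_two, ← q.mul _ hy _ hy, e, pow_mul, d3, one_pow]
      exact ⟨rfl, d3 _, fun e => absurd (E1 (v' := 0) (e.trans (π1 (.inl h.co0)).symm)) (by decide)⟩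
  have W3' : ¬ 3 ∣ Nat.card W := (Nat.Prime.coprime_iff_not_dvd Nat.prime_three).1 cW.symm
  obtain ⟨f1, f2⟩ := class2 W3' (d3 _) (fun a ha => nW.conj_mem a ha _) fun a ha => (W3 a ha).elim id id
  have nm1 : ∀ {l u g}, Sg l → MO.dot l (1, 2, 0) = 0 → MO.dot l u ≠ 0 → g ∈ h.R l → (π g * π (h.d u)) ^ 3 = 1 := fun hl a b hg => by
    rw [← q.mul _ (h.RY hl a hg) _ (dY _), ← q.pow (mul_mem (h.RY hl a hg) (dY _)), ← nm_eq (h.d3' _)]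
    exact π1 (h.R_nm hl hg b)
  have RW : ∀ {l g}, Sg l → MO.dot l (1, 2, 0) = 0 → g ∈ h.R l → π g ∈ W := fun {l g} hl a hg => by
    have b := (by decide : ∀ l, Sg l → MO.dot l (0, 0, 1) ≠ 0) l hl
    obtain ⟨α, hα, e⟩ := h.R_gen hl hg b
    have m : h.d (0, 0, 1) * α * (h.d (0, 0, 1))⁻¹ * α⁻¹ ∈ K := by
      simpa [mul_assoc] using mul_mem c0 (nK _ (h.RY hl a hα) _ (inv_mem c0))
    refine W5 _ ⟨_, m, (πn (KY m) e).symm⟩ ?_ (nm1 hl a b hg ▸ one_mem W)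
    rw [← q.mul _ (h.RY hl a hg) _ (h.RY hl a hg), π1 (h.R_sq hg)]
    exact one_mem W
  have W0 : ∀ {n}, n ∈ h.sY → n ∈ h.NH → π n ∈ W → π n = 1 := fun {n} hn ⟨p, hp, e⟩ m => f1 _ m (by
    have := mul_mem m (nW.conj_mem _ (inv_mem m) (π (h.d (0, 0, 1))))
    rw [← mul_assoc, ← mul_assoc, ← q.conj hn (dY _), h.NH_d hp e, ← dn, ← da] at this
    have := cube_eq_one W3' this (d3 _)
    rwa [da, dn, ← h.NH_d hp e, q.conj hn (dY _), mul_inv_eq_one, mul_inv_eq_iff_eq_mul] at this)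
  have C1 : ∀ {v w}, v = (1, 1, 0) ∨ v = -(1, 1, 0) ∨ v = (0, 0, 1) ∨ v = -(0, 0, 1) → w ∈ W → w * π (h.d v) = π (h.d v) * w → w = 1 :=
    fun {v w} hv hw e => by
      obtain ⟨y, hy, rfl⟩ := q.sur w
      have m : h.Mp y (0, v) := (E hy e).elim fun _ e => ⟨_, e⟩
      refine W0 hy ?_ hw
      rcases hv with rfl | rfl | rfl | rfl
      exacts [h.n_e hy m, h.n_e hy (h.mp_neg m), h.n_c hy m, h.n_c hy (h.mp_neg m)]
  have z1 : Sg (1, 1, 1) ∧ MO.dot (1, 1, 1) (1, 2, 0) = 0 := by decide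
  have z2 : Sg (1, 1, 2) ∧ MO.dot (1, 1, 2) (1, 2, 0) = 0 := by decide
  have R1 := h.RY z1.1 z1.2
  have R2 := h.RY z2.1 z2.2
  have comm : ∀ a ∈ h.R (1, 1, 1), ∀ b ∈ h.R (1, 1, 2), a * b = b * a := fun a ha b hb => by
    have aW := RW z1.1 z1.2 ha
    have bW := RW z2.1 z2.2 hb
    have a0 := h.R_d0 z1.1 ha (u := (1, 1, 1)) (by decide)
    obtain ⟨c, hc, d, hd, -, -, e1, e2, e3⟩ := cm f2 (d3 (1, 1, 1)) (d3 (1, 1, 2)) (cm' (dY _) (dY _) (h.dc _ _))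
      (fun a ha => nW.conj_mem a ha _) (fun a ha => nW.conj_mem a ha _) aW bW (cm' (dY _) (R1 ha) a0.symm)
      (cm' (dY _) (R2 hb) (h.R_d0 z2.1 hb (by decide)).symm) ((nm_eq (d3 _)).trans (nm1 z2.1 z2.2 (by decide) hb))
      ((nm_eq (d3 _)).trans (nm1 z1.1 z1.2 (by decide) ha))
    rw [← da] at e1
    rw [← dn, ← da] at e2
    rw [C1 (by decide) hc e1, C1 (by decide) hd e2, mul_one] at e3
    have e4 := cube_eq_one W3' (mul_mem (mul_mem (mul_mem aW bW) (inv_mem aW)) (inv_mem bW)) e3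
    rw [← q.conj (R1 ha) (R2 hb), ← q.inv (R2 hb), ← q.mul _ (mul_mem (mul_mem (R1 ha) (R2 hb)) (inv_mem (R1 ha))) _ (inv_mem (R2 hb)),
      q.ker _ (mul_mem (mul_mem (mul_mem (R1 ha) (R2 hb)) (inv_mem (R1 ha))) (inv_mem (R2 hb)))] at e4
    obtain ⟨k, hk, e⟩ : ∃ k ∈ h.sZ, a * b * a⁻¹ = k * b := ⟨_, e4, by group⟩
    have k4 : k ^ 4 = 1 := by
      have := congrArg (· ^ 4) e
      simpa [conj_pow, h.R4 hb, (show Commute k b from (h.cZ (R2 hb) hk).symm).mul_pow] using this.symm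
    have k3 : k ^ 3 = 1 := by
      have : a * (b * h.d (1, 1, 1)) ^ 3 * a⁻¹ = (k * (b * h.d (1, 1, 1))) ^ 3 := by
        rw [← conj_pow, ← conj_mul, e, a0, mul_inv_cancel_right, mul_assoc]
      rw [(show Commute k _ from (h.cZ (mul_mem (R2 hb) (dY _)) hk).symm).mul_pow, ← nm_eq (h.d3' _)] at this
      rcases h.R_nm z2.1 hb (u := (1, 1, 1)) (by decide) with e | e <;> rw [e] at this
      · simpa using this.symm
      · simpa [h.ct (h.R_H ha)] using this.symm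
    rw [pow_succ, k3, one_mul] at k4
    rwa [k4, one_mul, mul_inv_eq_iff_eq_mul] at e
  refine ⟨comm, fun g hg e => ?_⟩
  have nz : h.R (1, 1, 1) ≤ normalizer (h.R (1, 1, 2) : Set G) := fun a ha =>
    centralizer_le_normalizer _ fun b hb => (comm a ha b hb).symm
  have le : W ≤ q.img _ (sup_le R1 R2) := by
    have lA : h.Dl (1, 2, 0) ≤ h.sY := by rintro _ ⟨x, -, rfl⟩; exact dY x
    have A3 : ∀ a : q.img _ lA, a ^ 3 = 1 := by rintro ⟨_, _, ⟨x, _, rfl⟩, rfl⟩; exact Subtype.ext (d3 x)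
    have : IsMulCommutative (q.img _ lA) := ⟨⟨by
      rintro ⟨_, _, ⟨x, _, rfl⟩, rfl⟩ ⟨_, _, ⟨y, _, rfl⟩, rfl⟩; exact Subtype.ext (cm' (dY _) (dY _) (h.dc _ _))⟩⟩
    refine coprime_le_of_forall_centralizer_le (q.img _ lA) W _ (fun cy => ?_) (by simp [normalizer_eq_top]) ?_ ?_
    · obtain ⟨g, hg⟩ := cy.exists_ofOrder_eq_natCard
      have := Nat.le_of_dvd (by norm_num) (orderOf_dvd_of_pow_eq_one (A3 g))
      have := Nat.card_le_card_of_injective (fun x : {x // MO.dot (1, 2, 0) x = 0} => (⟨_, _, ⟨x.1, x.2, rfl⟩, rfl⟩ : q.img _ lA))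
        fun x y e => Subtype.ext ((by decide +kernel : ∀ x y : V3, MO.dot (1, 2, 0) x = 0 → MO.dot (1, 2, 0) y = 0 →
          (∃ k : F, x = y + k • (1, 2, 0)) → x = y) _ _ x.2 y.2 (E1 (congrArg Subtype.val e)))
      rw [Nat.card_eq_fintype_card, show Fintype.card {x // MO.dot (1, 2, 0) x = 0} = 9 by decide +kernel] at this
      omega
    · obtain ⟨n, hn⟩ := IsPGroup.exists_card_eq (p := 3) fun a => ⟨1, A3 a⟩
      exact hn ▸ cW.symm.pow_left n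
    rintro _ ⟨_, ⟨l, a, rfl⟩, rfl⟩ l1 w ⟨hw, e⟩
    replace e := mem_centralizer_singleton_iff.1 e
    obtain rfl | b | ⟨hl, b, c⟩ := (by decide +kernel : ∀ l : V3, MO.dot (1, 2, 0) l = 0 → l = 0 ∨
      (l = (1, 1, 0) ∨ l = -(1, 1, 0) ∨ l = (0, 0, 1) ∨ l = -(0, 0, 1)) ∨ Sg l ∧ MO.dot l (1, 2, 0) = 0 ∧
      (l = (1, 1, 1) ∨ l = -(1, 1, 1) ∨ l = (1, 1, 2) ∨ l = -(1, 1, 2))) l a
    · exact (l1 (π1 (.inl h.co0))).elim
    · exact C1 b hw e ▸ one_mem _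
    obtain ⟨y, hy, rfl⟩ := q.sur w
    obtain ⟨k, e⟩ := E hy e
    rw [(by decide +kernel : ∀ (l : V3) (k : F), MO.dot l (1, 2, 0) = 0 →
      dot (0, l + k • (1, 2, 0)) (0, l + k • (1, 2, 0)) = dot (0, l) (0, l) → l + k • (1, 2, 0) = l) l k b (h.fus2 e e).1,
      mul_inv_eq_iff_eq_mul] at e
    obtain ⟨α, hα, n⟩ := h.R_cz hl hy.1 e
    have αY := h.RY hl b hα
    have := W0 (mul_mem (inv_mem αY) hy) n (by rw [q.mul _ (inv_mem αY) _ hy, q.inv αY]; exact mul_mem (inv_mem (RW hl b hα)) hw)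
    rw [q.mul _ (inv_mem αY) _ hy, q.inv αY, inv_mul_eq_one] at this
    refine ⟨α, ?_, this⟩
    rcases c with rfl | rfl | rfl | rfl
    exacts [mem_sup_left hα, mem_sup_left (h.R_neg z1.1 ▸ hα), mem_sup_right hα, mem_sup_right (h.R_neg z2.1 ▸ hα)]
  have gY : g⁻¹ ∈ h.sY := inv_mem ⟨hg, mem_cz'.2 e⟩
  obtain ⟨o, ho, e⟩ := W6 (π g⁻¹)
  obtain ⟨u, hu, rfl⟩ := le ho
  have uY := sup_le R1 R2 hu
  have n : g⁻¹ * u ∈ h.NH := by
    rcases e with e | e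
    · rw [← q.mul _ gY _ uY] at e
      exact h.n_c (mul_mem gY uY) ((E (mul_mem gY uY) e).elim fun _ e => ⟨_, e⟩)
    · rw [mul_assoc (π _), ← q.mul _ gY _ uY, ← q.mul _ h.s3Y _ (mul_mem gY uY)] at e
      exact (mul_mem_cancel_left (h.nnN h.ev)).1 (h.n_c (mul_mem h.s3Y (mul_mem gY uY))
        ((E (mul_mem h.s3Y (mul_mem gY uY)) e).elim fun _ e => ⟨_, e⟩))
  obtain ⟨a, ha, b, hb, rfl⟩ := (MSS.mem_sup_of_normalizes_right nz).1 hu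
  exact ⟨a, ha, b, hb, _, inv_mem n, by group⟩

end CL.O8.Fr
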