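/- Evaluation of the transfer at an element of prime order, by fixed points of a `p`-subgroup. -/
import Mathlib
import Cfsg.Agent.PERM.S9Gen

set_option autoImplicit false

namespace CL.O8

open Subgroup MulAction

variable {G : Type*} [Group G] [Finite G] {p : ℕ} [hp : Fact p.Prime]

open Classical in
theorem tr_eval {M : Subgroup G} [Fintype (G ⧸ M)] (φ : G → ZMod p)
    (hφ : ∀ a ∈ M, ∀ b ∈ M, φ (a * b) = φ a + φ b) {x : G} (xp : x ^ p = 1) :
    ((MonoidHom.mk' (fun m : M => Multiplicative.ofAdd (φ m))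
      fun a b => congrArg _ (hφ _ a.2 _ b.2)).transfer x).toAdd =
      ∑ ω : G ⧸ M, if x • ω = ω then φ (ω.out⁻¹ * x * ω.out) else 0 := by
  have := Fintype.ofFinite (Quotient (orbitRel (zpowers x) (G ⧸ M)))
  have h1 : φ 1 = 0 := by simpa using hφ 1 M.one_mem 1 M.one_mem
  rw [MonoidHom.transfer_eq_prod_quotient_orbitRel_zpowers_quot, toAdd_prod]
  refine Finset.sum_of_injOn Quotient.out (fun _ _ _ _ e => Quotient.out_injective e)
    (fun _ _ => Finset.mem_univ _) (fun ω _ h => if_neg fun e => h ⟨Quotient.mk _ ω, by simp, ?_⟩)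
    fun q _ => ?_
  · obtain ⟨⟨_, k, rfl⟩, h⟩ := Quotient.mk_out (s := orbitRel (zpowers x) (G ⧸ M)) ω
    exact h.symm.trans ((stabilizer G ω).zpow_mem e k)
  · show φ (_ * x ^ _ * _) = _
    have : Function.IsPeriodicPt (x • ·) p q.out := by
      rw [Function.IsPeriodicPt, Function.IsFixedPt, smul_iterate, xp]; exact one_smul _ _
    split_ifs with e
    · rw [Function.minimalPeriod_eq_one_iff_isFixedPt.2 e, pow_one]
    · rw [Function.minimalPeriod_eq_prime this e, xp]; simp [h1]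

theorem tr_top {M B : Subgroup G} (φ : G → ZMod p) (hφ : ∀ a ∈ M, ∀ b ∈ M, φ (a * b) = φ a + φ b)
    (hB : IsPGroup p B) {x : G} (xB : x ∈ B) (xp : x ^ p = 1) (xc : ∀ b ∈ B, b * x = x * b)
    (x0 : φ x ≠ 0) (hi : ¬ p ∣ M.index)
    (h : ∀ g, (∀ b ∈ B, g⁻¹ * b * g ∈ M) → φ (g⁻¹ * x * g) = φ x) :
    ∃ χ : G → ZMod p, (∀ a b, χ (a * b) = χ a + χ b) ∧ χ x ≠ 0 ∧
      ∀ s, s ^ p = 1 → (∀ g, g⁻¹ * s * g ∈ M → φ (g⁻¹ * s * g) = 0) → χ s = 0 := by
  classical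
  have := Fintype.ofFinite (G ⧸ M)
  have fx : ∀ (s : G) (ω : G ⧸ M), s • ω = ω → ω.out⁻¹ * s * ω.out ∈ M := fun s ω e => by
    rw [mul_assoc, ← QuotientGroup.eq, QuotientGroup.out_eq', ← smul_eq_mul, Quotient.coe_smul_out, e]
  have h1 : φ 1 = 0 := by simpa using hφ 1 M.one_mem 1 M.one_mem
  refine ⟨fun g => ((MonoidHom.mk' (fun m : M => Multiplicative.ofAdd (φ m))
      fun a b => congrArg _ (hφ _ a.2 _ b.2)).transfer g).toAdd, fun a b => by simp, ?_,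
    fun s sp hs => (tr_eval φ hφ sp).trans (Finset.sum_eq_zero fun ω _ => ?_)⟩
  swap
  · split_ifs with e
    exacts [hs _ (fx s ω e), rfl]
  simp only [tr_eval φ hφ xp]
  set f : G ⧸ M → ZMod p := fun ω => if x • ω = ω then φ (ω.out⁻¹ * x * ω.out) else 0
  have inv : ∀ (b : B) ω, f (b • ω) = f ω := fun b ω => by
    have c : x • (b : G) • ω = (b : G) • x • ω := by rw [← mul_smul, ← xc b b.2, mul_smul]
    show (if x • (b : G) • ω = (b : G) • ω then _ else _) = _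
    simp only [f, c, smul_left_cancel_iff]
    split_ifs with e
    swap; · rfl
    obtain ⟨m, hm⟩ := QuotientGroup.mk_out_eq_mul M ((b : G) * ω.out)
    have e1 : (b • ω : G ⧸ M) = ((b : G) * ω.out : G) := (Quotient.coe_smul_out M (b : G) ω).symm
    have e2 : ((b : G) * ω.out * m)⁻¹ * x * ((b : G) * ω.out * m) =
        (m : G)⁻¹ * (ω.out⁻¹ * x * ω.out) * m := by
      calc _ = (m : G)⁻¹ * ω.out⁻¹ * ((b : G)⁻¹ * (x * b)) * ω.out * m := by group
        _ = _ := by rw [← xc b b.2]; group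
    have e3 := hφ _ (M.inv_mem m.2) _ m.2
    rw [e1, hm, e2, hφ _ (M.mul_mem (M.inv_mem m.2) (fx x ω e)) _ m.2, hφ _ (M.inv_mem m.2) _ (fx x ω e)]
    rw [inv_mul_cancel, h1] at e3
    linear_combination -e3
  have z : ∑ ω, (f ω - φ x) = 0 := by
    rw [Finset.sum_comp (fun c => c) fun ω => f ω - φ x]
    refine Finset.sum_eq_zero fun c _ => ?_
    by_cases hc : c = 0
    · simp [hc]
    rw [nsmul_eq_mul, (ZMod.natCast_eq_zero_iff _ _).2, zero_mul]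
    refine CL.Odd.dvd_card_of_orbits (B := B) _ (fun b ω e => by simpa [inv] using e) fun ω e => ?_
    obtain ⟨k, hk⟩ := hB.index (stabilizer B ω)
    rcases k with _ | k
    · refine (hc ?_).elim
      have e1 : ∀ b ∈ B, b • ω = ω := fun b hb =>
        show (⟨b, hb⟩ : B) ∈ stabilizer B ω from index_eq_one.1 hk ▸ trivial
      rw [← (Finset.mem_filter.1 e).2]
      simp only [f, if_pos (e1 x xB), h _ fun b hb => fx b ω (e1 b hb), sub_self]
    · rw [hk]; exact dvd_pow_self _ k.succ_ne_zero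
  rw [Finset.sum_sub_distrib, sub_eq_zero] at z
  rw [z, Finset.sum_const, nsmul_eq_mul, Finset.card_univ, ← Nat.card_eq_fintype_card]
  exact mul_ne_zero (mt (ZMod.natCast_eq_zero_iff _ _).1 hi) x0

/-- the transfer from `X` to `M` -/
theorem tr {X M B : Subgroup G} (φ : G → ZMod p) (hφ : ∀ a ∈ M, ∀ b ∈ M, φ (a * b) = φ a + φ b)
    (hB : IsPGroup p B) (BX : B ≤ X) {x : G} (xB : x ∈ B) (xp : x ^ p = 1)
    (xc : ∀ b ∈ B, b * x = x * b) (x0 : φ x ≠ 0) (hi : ¬ p ∣ M.relIndex X)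
    (h : ∀ g ∈ X, (∀ b ∈ B, g⁻¹ * b * g ∈ M) → φ (g⁻¹ * x * g) = φ x) :
    ∃ χ : G → ZMod p, (∀ a ∈ X, ∀ b ∈ X, χ (a * b) = χ a + χ b) ∧ χ x ≠ 0 ∧
      ∀ s ∈ X, s ^ p = 1 → (∀ g ∈ X, g⁻¹ * s * g ∈ M → φ (g⁻¹ * s * g) = 0) → χ s = 0 := by
  classical
  obtain ⟨χ, h1, h2, h3⟩ := tr_top (G := X) (M := M.subgroupOf X) (B := B.subgroupOf X)
    (fun g => φ g) (fun a ha b hb => hφ _ ha _ hb) hB.comap_subtype (x := ⟨x, BX xB⟩) xB
    (Subtype.ext xp) (fun b hb => Subtype.ext (xc _ hb)) x0 hi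
    fun g hg => h g g.2 fun b hb => hg ⟨b, BX hb⟩ hb
  refine ⟨fun g => if h : g ∈ X then χ ⟨g, h⟩ else 0, fun a ha b hb => ?_, by simpa only [dif_pos (BX xB)],
    fun s hs sp e => ?_⟩
  · simp only [dif_pos ha, dif_pos hb, dif_pos (X.mul_mem ha hb)]; exact h1 ⟨a, ha⟩ ⟨b, hb⟩
  · simp only [dif_pos hs]; exact h3 _ (Subtype.ext sp) fun g hg => e g g.2 hg

/-- a unique fixed point -/
theorem not_dvd_of_fix {X M B : Subgroup G} (hB : IsPGroup p B) (BX : B ≤ X) (BM : B ≤ M)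
    (h : ∀ g ∈ X, (∀ b ∈ B, g⁻¹ * b * g ∈ M) → g ∈ M) : ¬ p ∣ M.relIndex X := fun hd => by
  obtain ⟨ω, h1, h2⟩ := (hB.comap_subtype (K := X)).exists_fixed_point_of_prime_dvd_card_of_fixed_point
    (X ⧸ M.subgroupOf X) hd (a := ((1 : X) : X ⧸ M.subgroupOf X))
    fun b => QuotientGroup.eq.2 (show ((b.1.1 * 1)⁻¹ * 1 : G) ∈ M by simpa using BM b.2)
  obtain ⟨g, rfl⟩ := QuotientGroup.mk_surjective ω
  refine h2 (QuotientGroup.eq.2 ?_)
  simpa [mem_subgroupOf] using h g g.2 fun b hb => by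
    have : (g : G)⁻¹ * (b * g) ∈ M := (QuotientGroup.eq (s := M.subgroupOf X) (a := g)
      (b := (⟨b, BX hb⟩ : X) * g)).1 (h1 ⟨⟨b, BX hb⟩, hb⟩).symm
    rwa [mul_assoc]

omit [Finite G] in
theorem relIndex_eq {X N : Subgroup G} (hn : ∀ g ∈ X, ∀ n ∈ N, g * n * g⁻¹ ∈ N) {x : G} (hx : x ∈ X)
    (xN : x ∉ N) (xp : x ^ p = 1) (h : ∀ g ∈ X, ∃ k : ℕ, g * x ^ k ∈ N) : N.relIndex X = p := by
  have : (N.subgroupOf X).Normal := ⟨fun n hn' g => hn g g.2 n hn'⟩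
  let π := QuotientGroup.mk' (N.subgroupOf X)
  have : zpowers (π ⟨x, hx⟩) = ⊤ := eq_top_iff.2 fun q _ => by
    obtain ⟨g, rfl⟩ := QuotientGroup.mk'_surjective _ q
    obtain ⟨k, hk⟩ := h g g.2
    have : π (g * ⟨x, hx⟩ ^ k) = 1 := (QuotientGroup.eq_one_iff _).2 hk
    rw [map_mul, map_pow, mul_eq_one_iff_eq_inv] at this
    exact this ▸ inv_mem (npow_mem_zpowers _ k)
  rw [relIndex, index, ← card_top, ← this, Nat.card_zpowers]
  exact orderOf_eq_prime (by rw [← map_pow]; exact (congrArg π (Subtype.ext xp)).trans (map_one π))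
    fun e => xN ((QuotientGroup.eq_one_iff (⟨x, hx⟩ : X)).1 e)

end CL.O8
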