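/- The extraspecial group `E`, the subgroup `M = E N_H(J)` and the map `Φ : M → MO`. -/
import Mathlib
import Cfsg.Agent.PERM.O8.Short
import Cfsg.Agent.PERM.O8.Tr
import Cfsg.Agent.SPOR.ES2
import Cfsg.Agent.SOLV.CoprimeGen

set_option autoImplicit false
set_option maxRecDepth 100000
set_option synthInstance.maxSize 2000

namespace CL.O8

open Subgroup CL.Odd CL.Odd.MO

/-- representatives of the four singular lines -/
def Q4 (a b c d : V3) : Prop := (Sg a ∧ Sg b ∧ Sg c ∧ Sg d) ∧ (MO.dot a b ≠ 0 ∧ MO.dot a c ≠ 0 ∧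
  MO.dot a d ≠ 0 ∧ MO.dot b c ≠ 0 ∧ MO.dot b d ≠ 0 ∧ MO.dot c d ≠ 0)
instance (a b c d : V3) : Decidable (Q4 a b c d) := by unfold Q4; infer_instance

namespace Fr

variable {G : Type*} [Group G] (h : Fr G)

/-- the extraspecial group -/
def E : Subgroup G := ⨆ l : {l // Sg l}, h.R l

theorem R_E {l : V3} (hl : Sg l) : h.R l ≤ h.E := le_iSup (fun l : {l // Sg l} => h.R l) ⟨l, hl⟩
theorem E_H : h.E ≤ h.H := iSup_le fun _ => h.R_H
theorem E_t : h.t ∈ h.E := h.R_E (l := cc) (by decide) (h.R_t _)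
theorem E_nn {p : MO} (hp : p ∈ h.Γ) {e : G} (he : e ∈ h.E) : h.nn p * e * (h.nn p)⁻¹ ∈ h.E := by
  refine iSup_induction _ (C := fun e => h.nn p * e * (h.nn p)⁻¹ ∈ h.E) he
    (fun l e he => h.R_E (sg_sg _ _ l.2) (h.R_conj l.2 hp he)) (by simp) fun a b ha hb => ?_
  rw [← conj_mul]; exact mul_mem ha hb

/-- the subgroup `E N_H(J)` -/
def M : Subgroup G where
  carrier := {g | ∃ e ∈ h.E, ∃ p ∈ h.Γ, g = e * h.nn p}
  one_mem' := ⟨1, one_mem _, 1, one_mem _, by simp [h.nn_one]⟩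
  mul_mem' := by
    rintro _ _ ⟨e, he, p, hp, rfl⟩ ⟨f, hf, q, hq, rfl⟩
    exact ⟨_, mul_mem he (h.E_nn hp hf), _, mul_mem hp hq, by rw [h.nn_mul hp hq]; group⟩
  inv_mem' := by
    rintro _ ⟨e, he, p, hp, rfl⟩
    exact ⟨_, h.E_nn (inv_mem hp) (inv_mem he), _, inv_mem hp, by rw [h.nn_inv hp]; group⟩

open Classical in
/-- the quotient map `M → M / E ≤ MO` -/
noncomputable def Φ (g : G) : MO := if hg : ∃ p ∈ h.Γ, g * (h.nn p)⁻¹ ∈ h.E then hg.choose else 1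

theorem M_H : h.M ≤ h.H := by rintro _ ⟨e, he, p, hp, rfl⟩; exact mul_mem (h.E_H he) (h.nnH hp)
theorem E_M : h.E ≤ h.M := fun e he => ⟨e, he, 1, one_mem _, by simp [h.nn_one]⟩
theorem nnM {p : MO} (hp : p ∈ h.Γ) : h.nn p ∈ h.M := ⟨1, one_mem _, p, hp, by simp⟩
theorem NH_M : h.NH ≤ h.M := by
  rintro _ ⟨p, hp, rfl | rfl⟩
  exacts [h.nnM hp, mul_mem (h.nnM hp) (h.E_M h.E_t)]
theorem dM (x : V3) : h.d x ∈ h.M := h.NH_M (h.dN x)
theorem Φ_spec {g : G} (hg : g ∈ h.M) : h.Φ g ∈ h.Γ ∧ g * (h.nn (h.Φ g))⁻¹ ∈ h.E := by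
  obtain ⟨e, he, p, hp, rfl⟩ := hg
  have : ∃ q ∈ h.Γ, e * h.nn p * (h.nn q)⁻¹ ∈ h.E := ⟨p, hp, by simpa using he⟩
  rw [Φ, dif_pos this]; exact this.choose_spec
theorem M_E {m e : G} (hm : m ∈ h.M) (he : e ∈ h.E) : m * e * m⁻¹ ∈ h.E := by
  obtain ⟨f, hf, p, hp, rfl⟩ := hm
  have := mul_mem (mul_mem hf (h.E_nn hp he)) (inv_mem hf)
  simpa [mul_assoc] using this

variable [Finite G]

theorem rcomm {l m : V3} (hl : Sg l) (hm : Sg m) (e : MO.dot l m ≠ 0) :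
    ∀ a ∈ h.R l, ∀ b ∈ h.R m, a * b = b * a := by
  obtain ⟨w, a, b, c⟩ := (by decide +kernel : ∀ l, Sg l → ∀ m, Sg m → MO.dot l m ≠ 0 → ∃ w : W48,
    w.1.val % 2 = 0 ∧ (sg (MO.mk 0 w).2 l = (1, 1, 1) ∨ sg (MO.mk 0 w).2 l = -(1, 1, 1)) ∧
      (sg (MO.mk 0 w).2 m = (1, 1, 2) ∨ sg (MO.mk 0 w).2 m = -(1, 1, 2))) l hl m hm e
  intro x hx y hy
  have a : MO.mk 0 w ∈ h.Γ := h.ev a
  have x' := h.R_conj hl a hx
  have y' := h.R_conj hm a hy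
  have := h.short.1 _ (b.elim (· ▸ x') fun b => h.R_neg (l := (1, 1, 1)) (by decide) ▸ b ▸ x') _
    (c.elim (· ▸ y') fun c => h.R_neg (l := (1, 1, 2)) (by decide) ▸ c ▸ y')
  simpa [conj_mul] using this

theorem E_dec {a b c d : V3} (q : Q4 a b c d) {e : G} (he : e ∈ h.E) :
    ∃ x ∈ h.R a, ∃ y ∈ h.R b, ∃ z ∈ h.R c, ∃ w ∈ h.R d, e = x * y * z * w := by
  obtain ⟨⟨a0, b0, c0, d0⟩, ab, ac, ad, bc, bd, cd⟩ := q
  refine iSup_induction _ (C := fun e => ∃ x ∈ h.R a, ∃ y ∈ h.R b, ∃ z ∈ h.R c, ∃ w ∈ h.R d,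
    e = x * y * z * w) he (fun l e he => ?_)
    ⟨1, one_mem _, 1, one_mem _, 1, one_mem _, 1, one_mem _, by simp⟩ ?_
  · have k : ∀ m, Sg m → l.1 = m ∨ l.1 = -m → e ∈ h.R m := fun m hm k =>
      k.elim (· ▸ he) fun k => h.R_neg hm ▸ k ▸ he
    rcases (by decide +kernel : ∀ a, Sg a → ∀ b, Sg b → MO.dot a b ≠ 0 → ∀ c, Sg c → MO.dot a c ≠ 0 →
      MO.dot b c ≠ 0 → ∀ d, Sg d → MO.dot a d ≠ 0 → MO.dot b d ≠ 0 → MO.dot c d ≠ 0 → ∀ l, Sg l →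
      (l = a ∨ l = -a) ∨ (l = b ∨ l = -b) ∨ (l = c ∨ l = -c) ∨ (l = d ∨ l = -d))
      a a0 b b0 ab c c0 ac bc d d0 ad bd cd l l.2 with f | f | f | f
    · exact ⟨e, k _ a0 f, 1, one_mem _, 1, one_mem _, 1, one_mem _, by simp⟩
    · exact ⟨1, one_mem _, e, k _ b0 f, 1, one_mem _, 1, one_mem _, by simp⟩
    · exact ⟨1, one_mem _, 1, one_mem _, e, k _ c0 f, 1, one_mem _, by simp⟩
    · exact ⟨1, one_mem _, 1, one_mem _, 1, one_mem _, e, k _ d0 f, by simp⟩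
  · rintro _ _ ⟨x, hx, y, hy, z, hz, w, hw, rfl⟩ ⟨x', hx', y', hy', z', hz', w', hw', rfl⟩
    refine ⟨_, mul_mem hx hx', _, mul_mem hy hy', _, mul_mem hz hz', _, mul_mem hw hw', ?_⟩
    have e1 : Commute y x' := (h.rcomm a0 b0 ab _ hx' _ hy).symm
    have e2 : Commute z x' := (h.rcomm a0 c0 ac _ hx' _ hz).symm
    have e3 : Commute w x' := (h.rcomm a0 d0 ad _ hx' _ hw).symm
    have e4 : Commute z y' := (h.rcomm b0 c0 bc _ hy' _ hz).symm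
    have e5 : Commute w y' := (h.rcomm b0 d0 bd _ hy' _ hw).symm
    have e6 : Commute w z' := (h.rcomm c0 d0 cd _ hz' _ hw).symm
    simp only [mul_assoc, e1.left_comm, e2.left_comm, e3.left_comm, e4.left_comm, e5.left_comm,
      e6.left_comm]

theorem E_R {l : V3} (hl : Sg l) {e g : G} (he : e ∈ h.E) (hg : g ∈ h.R l) :
    e * g * e⁻¹ = g ∨ e * g * e⁻¹ = g * h.t := by
  refine iSup_induction' _ (C := fun e _ => e * g * e⁻¹ = g ∨ e * g * e⁻¹ = g * h.t)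
    (fun m e he => ?_) (by simp) (fun a b ha _ ka kb => ?_) he
  · rcases (by decide +kernel : ∀ l, Sg l → ∀ m, Sg m → m = l ∨ m = -l ∨ MO.dot m l ≠ 0) l hl m m.2
      with f | f | f
    · exact h.R_in (f ▸ he) hg
    · exact h.R_in (h.R_neg hl ▸ f ▸ he) hg
    · exact Or.inl (by rw [h.rcomm m.2 hl f _ he _ hg]; simp)
  · have : a * b * g * (a * b)⁻¹ = a * (b * g * b⁻¹) * a⁻¹ := by group
    rw [this]
    rcases kb with kb | kb <;> rw [kb]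
    · exact ka
    · rw [← conj_mul, mem_cz.1 (h.E_H ha)]
      exact ka.symm.imp (fun e => by rw [e, mul_assoc, h.tt, mul_one]) fun e => by rw [e]

theorem E_E {e g : G} (he : e ∈ h.E) (hg : g ∈ h.E) : e * g * e⁻¹ = g ∨ e * g * e⁻¹ = g * h.t := by
  refine iSup_induction' _ (C := fun g _ => e * g * e⁻¹ = g ∨ e * g * e⁻¹ = g * h.t)
    (fun m g hg => h.E_R m.2 he hg) (by simp) (fun a b _ hb ka kb => ?_) hg
  rw [← conj_mul]
  rcases ka with ka | ka <;> rcases kb with kb | kb <;> rw [ka, kb]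
  · exact Or.inl rfl
  · exact Or.inr (mul_assoc _ _ _).symm
  · exact Or.inr (by rw [mul_assoc, ← h.ct (h.E_H hb), mul_assoc])
  · exact Or.inl (by rw [mul_assoc, ← mul_assoc h.t, ← h.ct (h.E_H hb), mul_assoc, h.tt, mul_one])

omit [Finite G] in
theorem R_key {l : V3} {x f : G} (hx : x ∈ h.R l) (a : ∀ g ∈ h.R l, g * f = f * g)
    (b : ∀ g ∈ h.R l, g * (x * f) = x * f * g) : x = 1 ∨ x = h.t :=
  (h.R_z hx).imp_right (Or.elim · id fun ⟨g, hg, e⟩ => by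
    have := b g hg
    rw [mul_assoc, ← a g hg, ← mul_assoc, ← mul_assoc, mul_left_inj] at this
    rw [this, mul_inv_cancel_right, left_eq_mul] at e
    exact (h.t_ne e).elim)

theorem E_es : LX.ES h.E h.t := by
  refine ⟨h.E_t, h.t_ne, h.tt, fun x hx => h.ct (h.E_H hx), fun e he c => ?_, fun x hx y hy => ?_,
    fun x hx => ?_, ?_⟩
  · have q : Q4 (1, 1, 1) (1, 1, 2) (1, 2, 1) (2, 1, 1) := by decide
    obtain ⟨x, hx, y, hy, z, hz, w, hw, rfl⟩ := h.E_dec q he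
    obtain ⟨⟨a0, b0, c0, d0⟩, ab, ac, ad, bc, bd, cd⟩ := q
    have k : ∀ {l x f}, x ∈ h.R l → (∀ g ∈ h.R l, g * f = f * g) → Sg l →
        (∀ g ∈ h.E, x * f * g = g * (x * f)) → (x = 1 ∨ x = h.t) ∧ ∀ g ∈ h.E, f * g = g * f :=
      fun {l x f} hx a hl b => by
        have := h.R_key hx a fun g hg => (b g (h.R_E hl hg)).symm
        refine ⟨this, fun g hg => ?_⟩
        have b := b g hg
        rcases this with rfl | rfl
        · simpa using b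
        · rwa [← mul_assoc, h.ct (h.E_H hg), mul_assoc, mul_assoc, mul_right_inj] at b
    rw [mul_assoc, mul_assoc] at c ⊢
    obtain ⟨x1, c⟩ := k hx (fun g hg => (Commute.mul_right (h.rcomm a0 b0 ab g hg _ hy)
      (Commute.mul_right (h.rcomm a0 c0 ac g hg _ hz) (h.rcomm a0 d0 ad g hg _ hw))).eq) a0 c
    obtain ⟨y1, c⟩ := k hy (fun g hg =>
      (Commute.mul_right (h.rcomm b0 c0 bc g hg _ hz) (h.rcomm b0 d0 bd g hg _ hw)).eq) b0 c
    obtain ⟨z1, c⟩ := k hz (fun g hg => h.rcomm c0 d0 cd g hg _ hw) c0 c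
    obtain ⟨w1, -⟩ := k (f := 1) hw (by simp) d0 (by simpa using c)
    rcases x1 with rfl | rfl <;> rcases y1 with rfl | rfl <;> rcases z1 with rfl | rfl <;>
      rcases w1 with rfl | rfl <;> simp [h.tt]
  · rcases h.E_E hx hy with e | e <;> rw [mul_inv_eq_iff_eq_mul] at e
    · exact Or.inl e
    · exact Or.inr (by rw [e, mul_assoc, ← h.ct (h.E_H hx), mul_assoc])
  · refine iSup_induction' _ (C := fun g _ => g * g = 1 ∨ g * g = h.t) (fun m g hg => h.R_sq hg)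
      (by simp) (fun a b ha hb ka kb => ?_) hx
    have : a * b * (a * b) = a * (b * a * b⁻¹) * (b * b) := by group
    rw [this]
    rcases h.E_E hb ha with e | e <;> rw [e] <;> rcases ka with ka | ka <;>
      rcases kb with kb | kb <;> rw [kb] <;> simp [← mul_assoc a, ka, h.tt]
  · obtain ⟨g, hg, e⟩ := h.R_ex cc
    rcases h.R_z hg with rfl | rfl | ⟨a, ha, f⟩
    · exact (h.t_ne (by simpa using e.symm)).elim
    · exact (h.t_ne (e.symm.trans h.tt)).elim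
    · refine ⟨a, h.R_E (by decide) ha, g, h.R_E (by decide) hg, fun k => h.t_ne ?_⟩
      rwa [k, mul_inv_cancel_right, left_eq_mul] at f

theorem E4 {e : G} (he : e ∈ h.E) : e ^ 4 = 1 := by
  rw [show (4 : ℕ) = 2 * 2 from rfl, pow_mul, pow_two e]
  rcases h.E_es.sq e he with f | f <;> simp [f, pow_two, h.tt]

theorem card_E : Nat.card h.E = 2 ^ 9 := by
  have k : ∀ {X : Subgroup G} {l}, h.t ∈ X → X ≤ centralizer (h.R l : Set G) →
      Nat.card (X ⊔ h.R l : Subgroup G) = Nat.card X * 4 := fun {X l} t c => by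
    have := CL.card_sup_mul_card_inf_of_le_normalizer (c.trans (centralizer_le_normalizer _))
    rw [h.card_R, show X ⊓ h.R l = zpowers h.t from le_antisymm (fun g hg =>
      (LX.mem_zpowers_of_sq h.tt).2 (h.R_key (f := 1) hg.2 (by simp) fun a ha => by
        simpa using c hg.1 a ha)) (zpowers_le.2 ⟨t, h.R_t l⟩), Nat.card_zpowers,
      orderOf_eq_prime (p := 2) (by rw [pow_two, h.tt]) h.t_ne] at this
    omega
  have q : Q4 (1, 1, 1) (1, 1, 2) (1, 2, 1) (2, 1, 1) := by decide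
  have e : h.E = h.R (1, 1, 1) ⊔ h.R (1, 1, 2) ⊔ h.R (1, 2, 1) ⊔ h.R (2, 1, 1) :=
    le_antisymm (fun e he => by
      obtain ⟨x, hx, y, hy, z, hz, w, hw, rfl⟩ := h.E_dec q he
      exact mul_mem_sup (mul_mem_sup (mul_mem_sup hx hy) hz) hw)
      (sup_le (sup_le (sup_le (h.R_E q.1.1) (h.R_E q.1.2.1)) (h.R_E q.1.2.2.1)) (h.R_E q.1.2.2.2))
  obtain ⟨⟨a0, b0, c0, d0⟩, ab, ac, ad, bc, bd, cd⟩ := q
  have c : ∀ {l m}, Sg l → Sg m → MO.dot l m ≠ 0 → h.R l ≤ centralizer (h.R m : Set G) :=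
    fun a b c x hx y hy => (h.rcomm a b c x hx y hy).symm
  rw [e, k (mem_sup_left (mem_sup_left (h.R_t _))) (sup_le (sup_le (c a0 d0 ad) (c b0 d0 bd)) (c c0 d0 cd)),
    k (mem_sup_left (h.R_t _)) (sup_le (c a0 c0 ac) (c b0 c0 bc)), k (h.R_t _) (c a0 b0 ab), h.card_R]
  rfl

theorem E_d {x : V3} (hx : h.d x ∈ h.E) : x = 0 := h.d_eq_one.1 (by
  have := h.E4 hx
  rwa [pow_succ, h.d3', one_mul] at this)

theorem E_nn_one {p : MO} (hp : p ∈ h.Γ) (e : h.nn p ∈ h.E) : p = 1 := by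
  have a : ∀ x, sg p.2 x = x := fun x => by
    have := mul_mem e (h.M_E (h.dM x) (inv_mem e))
    rw [← mul_assoc, ← mul_assoc, h.nn_d hp, ← h.d_neg, ← h.d_add] at this
    exact add_neg_eq_zero.1 (h.E_d this)
  rw [h.nn_eq_d a] at e
  exact Prod.ext (h.E_d e) (sg_inj fun x => (a x).trans (sg_one x).symm)

theorem Φ_eq {e : G} (he : e ∈ h.E) {p : MO} (hp : p ∈ h.Γ) : h.Φ (e * h.nn p) = p := by
  obtain ⟨a, b⟩ := h.Φ_spec ⟨e, he, p, hp, rfl⟩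
  have := mul_mem (inv_mem he) b
  rw [mul_assoc, inv_mul_cancel_left, ← h.nn_inv a, ← h.nn_mul hp (inv_mem a)] at this
  exact (mul_inv_eq_one.1 (h.E_nn_one (mul_mem hp (inv_mem a)) this)).symm

theorem Φ_nn {p : MO} (hp : p ∈ h.Γ) : h.Φ (h.nn p) = p := by simpa using h.Φ_eq (one_mem _) hp
theorem Φ_d (x : V3) : h.Φ (h.d x) = MO.mk x (0, false) := by rw [← h.nn_tau, h.Φ_nn (h.ev rfl)]
theorem Φ_mul {a b : G} (ha : a ∈ h.M) (hb : b ∈ h.M) : h.Φ (a * b) = h.Φ a * h.Φ b := by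
  obtain ⟨e, he, p, hp, rfl⟩ := ha
  obtain ⟨f, hf, q, hq, rfl⟩ := hb
  rw [h.Φ_eq he hp, h.Φ_eq hf hq, ← h.Φ_eq (mul_mem he (h.E_nn hp hf)) (mul_mem hp hq), h.nn_mul hp hq]
  congr 1; group
theorem Φ_eq_one {g : G} (hg : g ∈ h.M) : h.Φ g = 1 ↔ g ∈ h.E :=
  ⟨fun e => by simpa [e, h.nn_one] using (h.Φ_spec hg).2,
    fun e => by simpa [h.nn_one] using h.Φ_eq e (one_mem _)⟩
theorem Φ_inv {a : G} (ha : a ∈ h.M) : h.Φ a⁻¹ = (h.Φ a)⁻¹ := by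
  rw [eq_inv_iff_mul_eq_one, ← h.Φ_mul (inv_mem ha) ha, inv_mul_cancel, h.Φ_eq_one (one_mem _)]
  exact one_mem _
theorem Φ_conj {a b : G} (ha : a ∈ h.M) (hb : b ∈ h.M) :
    h.Φ (a * b * a⁻¹) = h.Φ a * h.Φ b * (h.Φ a)⁻¹ := by
  rw [h.Φ_mul (mul_mem ha hb) (inv_mem ha), h.Φ_mul ha hb, h.Φ_inv ha]
theorem Φ_pow {a : G} (ha : a ∈ h.M) (n : ℕ) : h.Φ (a ^ n) = h.Φ a ^ n := by
  induction n with
  | zero => simpa using (h.Φ_eq_one (one_mem _)).2 (one_mem _)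
  | succ n ih => rw [pow_succ, pow_succ, h.Φ_mul (pow_mem ha n) ha, ih]
/-- the action on `D` -/
theorem Φ_act {m : G} (hm : m ∈ h.M) {x y : V3} (e : m * h.d x * m⁻¹ = h.d y) : sg (h.Φ m).2 x = y := by
  have := congrArg h.Φ e
  rw [h.Φ_conj hm (h.dM x), ← h.Φ_nn (p := _ * _ * _) (mul_mem (mul_mem (h.Φ_spec hm).1
    (h.Φ_spec (h.dM x)).1) (inv_mem (h.Φ_spec hm).1)), h.nn_conj (h.Φ_spec hm).1 (h.Φ_spec (h.dM x)).1,
    h.Φ_d, h.nn_tau, h.nn_d (h.Φ_spec hm).1, h.Φ_d, h.Φ_d] at this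
  exact congrArg Prod.fst this

/-- preimages under `Φ` -/
def MP (P : Subgroup MO) : Subgroup G where
  carrier := {g | g ∈ h.M ∧ h.Φ g ∈ P}
  one_mem' := ⟨one_mem _, (h.Φ_eq_one (one_mem _)).2 (one_mem _) ▸ one_mem _⟩
  mul_mem' := fun a b => ⟨mul_mem a.1 b.1, h.Φ_mul a.1 b.1 ▸ mul_mem a.2 b.2⟩
  inv_mem' := fun a => ⟨inv_mem a.1, h.Φ_inv a.1 ▸ inv_mem a.2⟩

end Fr

end CL.O8
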