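/- `M` is strongly embedded with respect to `D`; involutions of `M`. -/
import Mathlib
import Cfsg.Agent.PERM.O8.EM

set_option autoImplicit false
set_option maxRecDepth 100000
set_option synthInstance.maxSize 2000

namespace CL.O8.Fr

open Subgroup CL.Odd CL.Odd.MO

variable {G : Type*} [Group G] [Finite G] (h : Fr G)

/-- centralizers of nonidentity elements of `D` -/
theorem cM {x : V3} (x0 : x ≠ 0) {g : G} (hg : g ∈ h.H) (e : g * h.d x = h.d x * g) : g ∈ h.M := by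
  rcases (by decide +kernel : ∀ x : V3, x ≠ 0 → MO.dot x x = 1 ∨ Sg x ∨ ∃ w : W48, w.1.val % 2 = 0 ∧
    sg (MO.mk 0 w).2 (1, 2, 0) = x) x x0 with a | a | ⟨w, a, rfl⟩
  · exact h.NH_M (h.cl' a hg e)
  · obtain ⟨y, hy, b⟩ := h.R_cz a hg e
    simpa using mul_mem (h.E_M (h.R_E a hy)) (h.NH_M b)
  · have a : MO.mk 0 w ∈ h.Γ := h.ev a
    have m := h.nnM a
    rw [← h.nn_d a] at e
    generalize h.nn (MO.mk 0 w) = n at *
    obtain ⟨y, hy, z, hz, k, hk, b⟩ := h.short.2 _ (mul_mem (mul_mem (inv_mem (h.M_H m)) hg) (h.M_H m)) (by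
      calc _ = n⁻¹ * (g * (n * h.d (1, 2, 0) * n⁻¹)) * n := by group
        _ = _ := by rw [e]; group)
    have := mul_mem (mul_mem (h.E_M (h.R_E (by decide) hy)) (h.E_M (h.R_E (by decide) hz))) (h.NH_M hk)
    rw [← b] at this
    simpa [mul_assoc] using mul_mem (mul_mem m this) (inv_mem m)

theorem toD {y g : G} {v : V} (hy : y ∈ h.M) (e : g * h.co v * g⁻¹ = y) :
    (h.Φ y).2 = (0, false) ∧ ∃ k ∈ h.M, k * y * k⁻¹ ∈ h.D := by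
  have y3 : y ^ 3 = 1 := by rw [← e, conj_pow, h.co3]; simp
  have hp := (h.Φ_spec hy).1
  have p3 : h.Φ y ^ 3 = 1 := by rw [← h.Φ_pow hy, y3, h.Φ_eq_one (one_mem _)]; exact one_mem _
  have zn : zpowers (h.nn (h.Φ y)) ≤ h.MP (zpowers (h.Φ y)) :=
    zpowers_le.2 ⟨h.nnM hp, by rw [h.Φ_nn hp]; exact mem_zpowers _⟩
  have pn := T42.isPGroup_zp (show h.nn (h.Φ y) ^ 3 = 1 by rw [← h.nn_pow hp, p3, h.nn_one])
  obtain ⟨k, hk, a⟩ := Tr.exists_conj_le_sylowIn pn (Tr.not_dvd_relIndex_of_maximal pn zn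
    fun Q hQ a b q hq => by
      obtain ⟨c, d⟩ := b hq
      obtain ⟨i, d⟩ := mem_powers_iff_mem_zpowers.2 d
      have f := (h.Φ_spec c).2
      have k := pow_mem (mem_zpowers (h.nn (h.Φ y))) i
      rw [← show _ ^ i = _ from d, h.nn_pow hp] at f
      obtain ⟨l, f'⟩ := hQ ⟨_, mul_mem hq (inv_mem (a k))⟩
      obtain ⟨n, f'⟩ := eq_of_pow4 (congrArg Subtype.val f')
      rw [h.E4 f, one_pow, mul_inv_eq_one] at f'
      exact f' ▸ k) (T42.isPGroup_zp y3) (zpowers_le.2 ⟨hy, mem_zpowers _⟩)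
  obtain ⟨x, b⟩ := h.inD' (g := k * g) (v := v) (zpowers_le.2 (h.nnN hp) (a y (mem_zpowers _)))
    (by rw [← e]; group)
  refine ⟨?_, k, hk.1, x, b⟩
  have := congrArg h.Φ b
  obtain ⟨i, c⟩ := hk.2
  rw [h.Φ_conj hk.1 hy, h.Φ_d, ← show _ ^ i = _ from c, ← (Commute.self_zpow _ i).eq,
    mul_inv_cancel_right] at this
  rw [this]; rfl

theorem se {x : V3} (x0 : x ≠ 0) {g : G} (hg : g ∈ h.H) (e : g * h.d x * g⁻¹ ∈ h.M) : g ∈ h.M := by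
  obtain ⟨-, k, hk, y, a⟩ := h.toD e rfl
  have a' : k * g * h.d x * (k * g)⁻¹ = h.d y := by rw [← a]; group
  obtain ⟨c, hc, b, d⟩ := h.fusD le_rfl h.DH (A := {x}) (mul_mem (h.M_H hk) hg)
    (by rintro _ rfl; exact ⟨y, a'⟩)
  have := d x rfl
  rw [a', mul_inv_eq_iff_eq_mul] at this
  have c' := h.cM (fun y0 => x0 (by rwa [y0, h.d_eq_one.2 rfl, conj_eq_one_iff, h.d_eq_one] at a')) hc this
  simpa using mul_mem (inv_mem hk) (mul_mem (inv_mem c') (h.NH_M b))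

theorem idx3 {Y : Subgroup G} (YH : Y ≤ h.H) {x : V3} (x0 : x ≠ 0) (hx : h.d x ∈ Y) :
    ¬ 3 ∣ h.M.relIndex Y := by
  exact not_dvd_of_fix (T42.isPGroup_zp (h.d3' x)) (zpowers_le.2 hx) (zpowers_le.2 (h.dM x))
    fun g hg e => inv_mem_iff.1 (h.se x0 (inv_mem (YH hg)) (by simpa using e _ (mem_zpowers _)))

theorem sigM {x y : V3} (xy : ∀ i j : F, i • x + j • y = 0 → i = 0 ∧ j = 0) {W : Subgroup G}
    (WH : W ≤ h.H) (h3 : ¬ 3 ∣ Nat.card W) (a : ∀ w ∈ W, h.d x * w * (h.d x)⁻¹ ∈ W)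
    (b : ∀ w ∈ W, h.d y * w * (h.d y)⁻¹ ∈ W) : W ≤ h.M := by
  obtain ⟨l, c, k⟩ := (by decide +kernel : ∀ x y : V3, (∀ i j : F, i • x + j • y = 0 → i = 0 ∧ j = 0) →
    ∃ l ∈ [(x.2.1 * y.2.2 - x.2.2 * y.2.1, x.2.2 * y.1 - x.1 * y.2.2, x.1 * y.2.1 - x.2.1 * y.1)],
      l ≠ 0 ∧ ∀ z, MO.dot l z = 0 → ∃ i j : F, z = i • x + j • y) x y xy
  have A3 : ∀ a : h.Dl l, a ^ 3 = 1 := by rintro ⟨_, x, _, rfl⟩; exact Subtype.ext (h.d3' x)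
  have : IsMulCommutative (h.Dl l) := ⟨⟨by
    rintro ⟨_, x, _, rfl⟩ ⟨_, y, _, rfl⟩; exact Subtype.ext (h.dc _ _)⟩⟩
  refine CL.coprime_le_of_forall_centralizer_le (h.Dl l) W _ (fun cy => ?_) ?_ ?_ ?_
  · obtain ⟨g, hg⟩ := cy.exists_ofOrder_eq_natCard
    have := Nat.le_of_dvd (by norm_num) (orderOf_dvd_of_pow_eq_one (A3 g))
    rw [hg, h.card_Dl, (by decide +kernel : ∀ l : V3, l ≠ 0 → Fintype.card {x // MO.dot l x = 0} = 9) l k.1]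
      at this
    omega
  · rintro _ ⟨z, hz, rfl⟩
    obtain ⟨i, j, rfl⟩ := k.2 z hz
    rw [h.d_add, h.d_smul, h.d_smul]
    exact mul_mem (pow_mem (Tr.mem_normalizer_of_conj_mem a) _) (pow_mem (Tr.mem_normalizer_of_conj_mem b) _)
  · obtain ⟨n, hn⟩ := IsPGroup.exists_card_eq (p := 3) fun a => ⟨1, A3 a⟩
    exact hn ▸ ((Nat.Prime.coprime_iff_not_dvd Nat.prime_three).2 h3).pow_left n
  · rintro _ ⟨z, -, rfl⟩ z0 w ⟨hw, e⟩
    exact h.cM (fun e => z0 (h.d_eq_one.2 e)) (WH hw) (mem_centralizer_singleton_iff.1 e)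

omit [Finite G] in
theorem swap {a b : V3} {n x y f : G} (nn : n * n = 1) (hx : x ∈ h.R a) (ny : n * y * n⁻¹ ∈ h.R a)
    (c1 : ∀ g ∈ h.R a, g * y = y * g) (c2 : ∀ g ∈ h.R a, g * (n * x * n⁻¹) = n * x * n⁻¹ * g)
    (c3 : ∀ g ∈ h.R a, g * f = f * g) (c4 : ∀ g ∈ h.R a, g * (n * f * n⁻¹) = n * f * n⁻¹ * g)
    (c5 : ∀ g ∈ h.R b, g * f = f * g) (hy : y ∈ h.R b)
    (e : x * y * f * n * (x * y * f * n) = 1) :
    x⁻¹ * (x * y * f * n) * x⁻¹⁻¹ = f * n ∨ x⁻¹ * (x * y * f * n) * x⁻¹⁻¹ = f * n * h.t := by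
  have ni := inv_eq_of_mul_eq_one_right nn
  have e' : x * (n * y * n⁻¹) * (y * f * (n * x * n⁻¹) * (n * f * n⁻¹)) = 1 := by
    have := ((show Commute _ _ from c1 _ ny).mul_right (c3 _ ny)).mul_right (c2 _ ny)
    rw [← e, mul_assoc x, ← mul_assoc (n * y * n⁻¹), this.eq]
    calc _ = x * y * f * n * x * y * f * n⁻¹ := by group
      _ = _ := by rw [ni]; group
  have k := h.R_key (mul_mem hx ny) (fun g hg => ((((show Commute _ _ from c1 g hg).mul_right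
    (c3 g hg)).mul_right (c2 g hg)).mul_right (c4 g hg)).eq) (by simp [e'])
  have l : x⁻¹ * (x * y * f * n) * x⁻¹⁻¹ = f * n * (n * y * n⁻¹ * x) := by
    calc _ = y * f * n * x := by group
      _ = _ := by rw [c5 y hy, ← mul_assoc, ← mul_assoc, ← mul_assoc, mul_assoc f n, nn, mul_one, ni]
  rw [l]
  have := h.ct (h.R_H hx)
  refine k.imp (fun k => ?_) fun k => ?_
  · rw [mul_eq_one_comm.1 k, mul_one]
  · rw [show n * y * n⁻¹ * x = x⁻¹ * (x * (n * y * n⁻¹)) * x by group, k, mul_assoc x⁻¹, ← this]; simp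

/-- involutions of `M` -/
theorem invM {u : G} (hu : u ∈ h.M) (uu : u * u = 1) : (∃ e ∈ h.E, e * u * e⁻¹ = u * h.t) ∨
    (h.Φ u).2 ≠ (0, true) ∧ ∃ e ∈ h.E, ∃ x, e * h.d x * u * (e * h.d x)⁻¹ = h.nn (MO.mk 0 (h.Φ u).2) ∨
      e * h.d x * u * (e * h.d x)⁻¹ = h.nn (MO.mk 0 (h.Φ u).2) * h.t := by
  refine or_iff_not_imp_left.2 fun nf => ?_
  have pp : h.Φ u * h.Φ u = 1 := by rw [← h.Φ_mul hu hu, uu, h.Φ_eq_one (one_mem _)]; exact one_mem _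
  have hp := (h.Φ_spec hu).1
  obtain ⟨x, a⟩ := (by decide +kernel : ∀ p : MO, p * p = 1 → ∃ x,
    MO.mk x (0, false) * p * (MO.mk x (0, false))⁻¹ = MO.mk 0 p.2) _ pp
  have u' := mul_mem (mul_mem (h.dM x) hu) (inv_mem (h.dM x))
  have he := (h.Φ_spec u').2
  rw [h.Φ_conj (h.dM x) hu, h.Φ_d, a] at he
  have nf' : ∀ e ∈ h.E, e * (h.d x * u * (h.d x)⁻¹) * e⁻¹ ≠ h.d x * u * (h.d x)⁻¹ * h.t := fun e he f =>
    nf ⟨_, h.M_E (inv_mem (h.dM x)) he, by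
      calc _ = (h.d x)⁻¹ * (e * (h.d x * u * (h.d x)⁻¹) * e⁻¹) * h.d x := by group
        _ = _ := by rw [f, mul_assoc, mul_assoc, ← h.dt]; group⟩
  have vv : h.d x * u * (h.d x)⁻¹ * (h.d x * u * (h.d x)⁻¹) = 1 := by simp [conj_mul, uu]
  suffices (h.Φ u).2 ≠ (0, true) ∧ ∃ e ∈ h.E, e * (h.d x * u * (h.d x)⁻¹) * e⁻¹ = h.nn (MO.mk 0 (h.Φ u).2) ∨
      e * (h.d x * u * (h.d x)⁻¹) * e⁻¹ = h.nn (MO.mk 0 (h.Φ u).2) * h.t from
    this.imp_right fun ⟨e, he, f⟩ => ⟨e, he, x, by simpa only [mul_assoc, mul_inv_rev] using f⟩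
  have ww : MO.mk 0 (h.Φ u).2 * MO.mk 0 (h.Φ u).2 = 1 := by rw [← a]; simp [conj_mul, pp]
  have hw : MO.mk 0 (h.Φ u).2 ∈ h.Γ := hp
  generalize (h.Φ u).2 = w at *
  generalize h.d x * u * (h.d x)⁻¹ = v at *
  obtain ⟨e, rfl⟩ : ∃ e, v = e * h.nn (MO.mk 0 w) := ⟨_, (inv_mul_cancel_right _ _).symm⟩
  rw [mul_inv_cancel_right] at he
  have nn := h.nn_sq hw ww
  have nH := h.nnH hw
  rcases (by decide +kernel : ∀ w, MO.mk 0 w * MO.mk 0 w = 1 → (∃ l, Sg l ∧ sg w l = -l) ∨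
    w = (0, false) ∨ w ≠ (0, true) ∧
      ∃ a ∈ [(1, 1, 1), (1, 1, 2), (1, 2, 1)], ∃ c ∈ [(1, 1, 1), (1, 1, 2), (1, 2, 1)],
      ∃ d, Q4 a (sg w a) c d ∧ sg w (sg w a) = a ∧ (d = sg w c ∧ sg w d = c ∨ sg w c = c ∧ sg w d = d))
    w ww with ⟨l, hl, b⟩ | rfl | ⟨w0, a, -, c, -, d, q, aa, b⟩
  · obtain ⟨y, hy, f⟩ := h.q8p hl vv hw b fun g hg => by
      have := h.E_R hl he (h.R_neg hl ▸ b ▸ h.R_conj hl hw hg)
      simpa only [mul_assoc, mul_inv_rev] using this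
    exact (nf' y (h.R_E hl hy) f).elim
  · rw [show h.nn (MO.mk 0 (0, false)) = 1 from h.nn_one] at *
    refine ⟨by decide, 1, one_mem _, ?_⟩
    simpa using h.E_es.cent e he fun y hy => ((h.E_E hy he).elim (fun f => by
      rw [← mul_inv_eq_iff_eq_mul.1 f]) fun f => (nf' y hy (by simpa using f)).elim)
  obtain ⟨y, hy, y', hy', z, hz, z', hz', rfl⟩ := h.E_dec q he
  obtain ⟨⟨a0, b0, c0, d0⟩, ab, ac, ad, bc, bd, cd⟩ := q
  have cj := fun {l} (hl : Sg l) {g} (hg : g ∈ h.R l) => h.R_conj hl hw hg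
  have zE := mul_mem (h.R_E c0 hz) (h.R_E d0 hz')
  have zz : ∀ {l}, Sg l → MO.dot l c ≠ 0 → MO.dot l d ≠ 0 → ∀ g ∈ h.R l, ∀ z ∈ h.R c, ∀ z' ∈ h.R d,
      g * (z * z') = z * z' * g := fun hl a b g hg z hz z' hz' =>
    (Commute.mul_right (h.rcomm hl c0 a g hg z hz) (h.rcomm hl d0 b g hg z' hz')).eq
  have nz : ∃ s ∈ h.R c, ∃ s' ∈ h.R d, h.nn (MO.mk 0 w) * (z * z') * (h.nn (MO.mk 0 w))⁻¹ = s * s' := by
    rw [← conj_mul]
    rcases b with ⟨b, b'⟩ | ⟨b, b'⟩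
    · exact ⟨_, b' ▸ cj d0 hz', _, b ▸ cj c0 hz,
        (h.rcomm c0 d0 cd _ (b' ▸ cj d0 hz') _ (b ▸ cj c0 hz)).symm⟩
    · exact ⟨_, b ▸ cj c0 hz, _, b' ▸ cj d0 hz', rfl⟩
  obtain ⟨s, hs, s', hs', nz⟩ := nz
  rw [mul_assoc (y * y')] at *
  have k := h.swap nn hy (aa ▸ cj b0 hy') (fun g hg => h.rcomm a0 b0 ab g hg _ hy')
    (fun g hg => h.rcomm a0 b0 ab g hg _ (cj a0 hy)) (fun g hg => zz a0 ac ad g hg _ hz _ hz')
    (fun g hg => nz ▸ zz a0 ac ad g hg _ hs _ hs') (fun g hg => zz b0 bc bd g hg _ hz _ hz') hy' vv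
  have yE := inv_mem (h.R_E a0 hy)
  generalize y * y' * (z * z') * h.nn (MO.mk 0 w) = v at *
  have vH := mul_mem (h.E_H zE) nH
  suffices ∃ e ∈ h.E, e * (z * z' * h.nn (MO.mk 0 w)) * e⁻¹ = h.nn (MO.mk 0 w) ∨
      e * (z * z' * h.nn (MO.mk 0 w)) * e⁻¹ = h.nn (MO.mk 0 w) * h.t by
    obtain ⟨e, he, f⟩ := this
    refine ⟨w0, _, mul_mem he yE, ?_⟩
    rw [show e * y⁻¹ * v * (e * y⁻¹)⁻¹ = e * (y⁻¹ * v * y⁻¹⁻¹) * e⁻¹ by group]
    rcases k with k | k <;> rw [k]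
    · exact f
    · rw [← conj_mul, mem_cz.1 (h.E_H he)]
      exact f.symm.imp (fun f => by rw [f, mul_assoc, h.tt, mul_one]) fun f => by rw [f]
  have v2 : z * z' * h.nn (MO.mk 0 w) * (z * z' * h.nn (MO.mk 0 w)) = 1 := by
    have : y⁻¹ * v * y⁻¹⁻¹ * (y⁻¹ * v * y⁻¹⁻¹) = 1 := by rw [conj_mul, vv]; simp
    rcases k with k | k <;> rw [k] at this
    · exact this
    · rwa [mul_assoc, ← mul_assoc h.t, ← h.ct vH, mul_assoc _ h.t, h.tt, mul_one] at this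
  rcases b with ⟨b, b'⟩ | ⟨b, b'⟩
  · refine ⟨_, inv_mem (h.R_E c0 hz), ?_⟩
    simpa using h.swap (f := 1) nn hz (b' ▸ cj d0 hz') (fun g hg => h.rcomm c0 d0 cd g hg _ hz')
      (fun g hg => h.rcomm c0 d0 cd g hg _ (b ▸ cj c0 hz)) (by simp) (by simp) (by simp) hz'
      (by simpa using v2)
  · have fx : ∀ {l s f}, Sg l → s ∈ h.R l → (∀ g ∈ h.R l, g * f = f * g) →
        s * f = z * z' * h.nn (MO.mk 0 w) → s = 1 ∨ s = h.t := fun {l s f} hl hs c e =>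
      (h.R_z hs).imp_right (Or.elim · id fun ⟨g, hg, e'⟩ => (nf' _ (mul_mem (mul_mem (inv_mem yE)
        (h.R_E hl hg)) yE) (by
          have g1 : g * (z * z' * h.nn (MO.mk 0 w)) * g⁻¹ = z * z' * h.nn (MO.mk 0 w) * h.t := by
            rw [h.ct vH, ← e, ← conj_mul, e', c g hg, h.ct (h.R_H hs)]; group
          have : g * (y⁻¹ * v * y⁻¹⁻¹) * g⁻¹ = y⁻¹ * v * y⁻¹⁻¹ * h.t := by
            rcases k with k | k <;> rw [k]
            · exact g1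
            · rw [← conj_mul, g1, mem_cz.1 (h.R_H hg)]
          calc _ = y * (g * (y⁻¹ * v * y⁻¹⁻¹) * g⁻¹) * y⁻¹ := by group
            _ = _ := by rw [this, mul_assoc, mul_assoc, ← h.ct (h.E_H yE)]; group)).elim)
    have z1 := fx c0 hz (fun g hg => (Commute.mul_right (h.rcomm c0 d0 cd g hg _ hz')
      (h.R_fix c0 hw b hg).symm).eq) (mul_assoc _ _ _).symm
    have z2 := fx d0 hz' (fun g hg => (Commute.mul_right (h.rcomm c0 d0 cd _ hz g hg).symm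
      (h.R_fix d0 hw b' hg).symm).eq) (by rw [← mul_assoc, h.rcomm c0 d0 cd _ hz _ hz'])
    refine ⟨1, one_mem _, ?_⟩
    rcases z1 with rfl | rfl <;> rcases z2 with rfl | rfl <;> simp [h.tt, h.ct nH]

/-- `M` controls the fusion of `s3` and `r` into `M` -/
theorem ctl {X : Subgroup G} (XH : X ≤ h.H) (EX : h.E ≤ X) (DX : h.D ≤ X) {u : G} (uu : u * u = 1)
    {x : V3} (x0 : x ≠ 0) (ux : u * h.d x = h.d x * u) {g : G} (hg : g ∈ X) (m : g * u * g⁻¹ ∈ h.M)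
    (nf : ∀ y, y * (g * u * g⁻¹) * y⁻¹ ≠ g * u * g⁻¹ * h.t) :
    ∃ k ∈ X, k ∈ h.M ∧ k * u * k⁻¹ = g * u * g⁻¹ := by
  obtain ⟨w0, e, he, z, a⟩ := (h.invM m (by simp [conj_mul, uu])).resolve_left fun ⟨e, _, f⟩ => nf e f
  have hw : MO.mk 0 (h.Φ (g * u * g⁻¹)).2 ∈ h.Γ := (h.Φ_spec m).1
  have ww : h.Φ (g * u * g⁻¹) * h.Φ (g * u * g⁻¹) = 1 := by
    rw [← h.Φ_mul m m, h.Φ_eq_one (mul_mem m m)]; simp [conj_mul, uu]
  obtain ⟨y, y0, b⟩ := (by decide +kernel : ∀ w : W48, wm w w = (0, false) → w ≠ (0, true) →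
    ∃ y, y ≠ 0 ∧ sg w y = y) _ (congrArg Prod.snd ww) w0
  have kX := mul_mem (EX he) (DX (h.dD z))
  have kM := mul_mem (h.E_M he) (h.dM z)
  have yv : h.d y ∈ X ⊓ Odd.cz (e * h.d z * (g * u * g⁻¹) * (e * h.d z)⁻¹) :=
    ⟨DX (h.dD y), mem_cz_comm.1 (mem_cz.2 ((h.NH_d hw a y).trans (congrArg _ b)))⟩
  clear a
  generalize e * h.d z = k at *
  obtain ⟨S, -, S1, S2, S3⟩ := Tr.exists_sylowIn_ge (IsPGroup.of_bot (p := 3))
    (bot_le : ⊥ ≤ h.M ⊓ (X ⊓ Odd.cz (k * (g * u * g⁻¹) * k⁻¹)))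
  obtain ⟨c, hc, f⟩ := Tr.exists_conj_le_sylowIn (H := X ⊓ Odd.cz (k * (g * u * g⁻¹) * k⁻¹)) S2 (by
    rw [← relIndex_mul_relIndex _ _ _ S1 inf_le_right, inf_relIndex_right]
    exact Nat.prime_three.not_dvd_mul S3 (h.idx3 (inf_le_left.trans XH) y0 yv))
    (T42.isPGroup_zp (show (k * g * h.d x * (k * g)⁻¹) ^ 3 = 1 by rw [conj_pow, h.d3']; simp))
    (zpowers_le.2 <| mem_inf.2 ⟨mul_mem (mul_mem (mul_mem kX hg) (DX (h.dD x))) (inv_mem (mul_mem kX hg)), by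
      have := conj_mem_cz (k * g) (mem_cz'.2 ux.symm)
      simpa only [mul_assoc, mul_inv_rev] using this⟩)
  have cX := mul_mem hc.1 (mul_mem kX hg)
  have cM := h.se x0 (XH cX) (by
    simpa only [mul_assoc, mul_inv_rev] using (mem_inf.1 (S1 (f _ (mem_zpowers _)))).1)
  refine ⟨_, mul_mem (inv_mem kX) cX, mul_mem (inv_mem kM) cM, ?_⟩
  calc _ = k⁻¹ * (c * (k * (g * u * g⁻¹) * k⁻¹) * c⁻¹) * k := by group
    _ = _ := by rw [mem_cz.1 hc.2]; group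

end CL.O8.Fr
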