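/- STUB (S3372): a subgroup of index two in H = C(t) in the case c2.  Tools: PERM/O8/SE (cM, se, sigM, invM, ctl), O8/EM (Φ_*),
O8/NF (nfs, nfr), O8/Gen (r2k), O8/Tr (tr, not_dvd_of_fix), O8/Bas (na, c1, syl3, eq_of_pow4), `CL.Odd.theta`.
(A) X = H ⊓ cz r ≤ M.  e = (1,1,0), c = (0,0,1), S = {d x | x.1 = x.2.1} = D ⊓ X (order 9).  3 ∤ S.relIndex X by `syl3`:
g normalizing S is in NH (`na`, c1 with zv, d3; mem_NH), g = nn p t^ε with p commuting with mr (apply Φ), so p.2^2 = 1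
(decide), g^4 = nn (p^4) ∈ D ⊓ X.  `theta` twice: involution s3 with Q = ⟨d c⟩, involution ρ = nn (m1 * mr * m1⁻¹) =
s1 r s1⁻¹ (reflection in e, commutes with r) with Q = ⟨d e⟩.  hsc: g (d x) g⁻¹ = d y, x ≠ 0 gives g ∈ M (se),
sg (Φ g).2 x = y (Φ_act) and Φ g commutes with mr (decide).  hinv: u = g s3 g⁻¹ inverts d y ≠ 1, so u ∈ M (se); ctl with
X := H (nfs) gives Φ u conjugate to m3 in MO, so sg (Φ u).2 y = -y forces MO.dot y y = 1, y = ± c; likewise for ρ (ctl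
for r, nfr): y has weight 2, y = ± e.  `r2k` with D := S, K ∋ s3 (p = d c ∈ K as a commutator, cM), L ∋ ρ (q = d e, se),
sig = sigM.
(B) `tr` with p = 2, X = H, M, φ g = ((Φ g).2.1.val : ZMod 2) (additive on MO: decide on Fin 24), B = zpowers r, x = r.
g⁻¹ r g ∈ M gives (ctl, nfr) k ∈ M with k r k⁻¹ = g⁻¹ r g, so g k ∈ X ≤ M by (A) and g ∈ M: this gives hi
(not_dvd_of_fix) and h.  The s-clause for s3: ctl, nfs. -/
import Mathlib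
import Cfsg.Agent.PERM.O8.SE
import Cfsg.Agent.PERM.S9Theta

set_option autoImplicit false
set_option maxRecDepth 100000
set_option synthInstance.maxSize 2000

namespace CL.O8.HA

open Subgroup CL.Odd CL.Odd.MO

variable {G : Type*} [Group G] (h : Fr G)

/-- the fixed points of `r` in `D` -/
def S : Subgroup G where
  carrier := {g | ∃ x : V3, x.1 = x.2.1 ∧ g = h.d x}
  one_mem' := ⟨0, rfl, h.co0.symm⟩
  mul_mem' := by
    rintro _ _ ⟨x, a, rfl⟩ ⟨y, b, rfl⟩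
    exact ⟨x + y, by simp [a, b], (h.d_add x y).symm⟩
  inv_mem' := by
    rintro _ ⟨x, a, rfl⟩
    exact ⟨-x, by simp [a], (h.d_neg x).symm⟩

theorem S_p : IsPGroup 3 (S h) := fun ⟨_, x, _, rfl⟩ => ⟨1, Subtype.ext (h.d3' x)⟩

theorem card_S : Nat.card (S h) = 9 := by
  have b : Nat.card (S h) = Nat.card {x : V3 // x.1 = x.2.1} := (Nat.card_congr (Equiv.ofBijective
    (fun x : {x : V3 // x.1 = x.2.1} => (⟨h.d x, x, x.2, rfl⟩ : S h))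
    ⟨fun x y e => Subtype.ext (h.d_inj (congrArg Subtype.val e)), by
      rintro ⟨_, x, hx, rfl⟩; exact ⟨⟨x, hx⟩, rfl⟩⟩)).symm
  rw [b, Nat.card_eq_fintype_card, Fintype.card_subtype]
  decide +kernel

theorem mem_zp {l y : V3} : h.d y ∈ zpowers (h.d l) ↔ y = 0 ∨ y = l ∨ y = -l := by
  rw [mem_zpowers_three (h.d3' l), ← h.d_neg, h.d_eq_one]
  exact or_congr_right (or_congr ⟨h.d_inj, congrArg _⟩ ⟨h.d_inj, congrArg _⟩)

theorem SX (c : h.c2) : S h ≤ h.H ⊓ Odd.cz h.r := by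
  rintro _ ⟨x, a, rfl⟩
  exact ⟨h.dH x, mem_cz_comm.1 (mem_cz.2 ((h.nn_d (h.rΓ c) x).trans (congrArg h.d
    ((by decide +kernel : ∀ x : V3, x.1 = x.2.1 → sg mr.2 x = x) x a))))⟩

theorem sq {g : G} {p : MO} (hp : p ∈ h.Γ) (e : g = h.nn p ∨ g = h.nn p * h.t) :
    g * g = h.nn (p * p) := by
  rw [h.nn_mul hp hp]
  rcases e with rfl | rfl
  · rfl
  · rw [mul_assoc, ← mul_assoc h.t, ← h.nn_t hp, mul_assoc, h.tt, mul_one]

variable [Finite G]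

theorem ΦN {g : G} {p : MO} (hp : p ∈ h.Γ) (e : g = h.nn p ∨ g = h.nn p * h.t) : h.Φ g = p := by
  rcases e with rfl | rfl
  · exact h.Φ_nn hp
  · rw [h.nn_t hp, h.Φ_eq h.E_t hp]

theorem ΦX (c : h.c2) {g : G} (a : g ∈ h.M) (b : g ∈ Odd.cz h.r) : h.Φ g * mr = mr * h.Φ g := by
  have := congrArg h.Φ (mem_cz'.1 b)
  rwa [h.Φ_mul a (h.nnM (h.rΓ c)), h.Φ_mul (h.nnM (h.rΓ c)) a, h.Φ_nn (h.rΓ c)] at this

theorem iS (c : h.c2) : ¬ 3 ∣ (S h).relIndex (h.H ⊓ Odd.cz h.r) := syl3 (S_p h) (SX h c) fun g hg n k g3 => by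
  have m : ∀ x : V3, x.1 = x.2.1 → h.Mp g (0, x) := fun x a => (n _ ⟨x, a, rfl⟩).elim fun _ e => ⟨_, e.2⟩
  have gN := h.mem_NH (h.n2 (v := zv) (u := d3) (by decide) (m _ rfl) (m _ rfl)) hg.1
  have gM := h.NH_M gN
  obtain ⟨p, hp, e⟩ := gN
  have a := ΦX h c gM hg.2
  rw [ΦN h hp e] at a
  have b := (sq h hp e).trans (h.nn_eq_d ((by decide +kernel : ∀ w, wm w mr.2 = wm mr.2 w → ∀ x,
    sg (wm w w) x = x) p.2 (congrArg Prod.snd a)))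
  have : g * g ∈ S h := ⟨_, (by decide +kernel : ∀ x : V3, sg mr.2 x = x → x.1 = x.2.1) _ (h.d_inj (by
    rw [← h.nn_d (h.rΓ c), ← b]; exact mem_cz.1 (mem_cz_comm.1 (mul_mem hg.2 hg.2)))), b⟩
  obtain ⟨m, e⟩ := eq_of_pow4 g3
  rw [e, show 4 = 2 * 2 from rfl, pow_mul, pow_two g]
  exact pow_mem (pow_mem this _) _

theorem exK (c : h.c2) {m : MO} {l x : V3} (mm : m * m = 1) (mc : m * mr = mr * m) (hl : l.1 = l.2.1)
    (l0 : l ≠ 0) (ml : sg m.2 l = -l) (x0 : x ≠ 0) (mx : sg m.2 x = x)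
    (a : ∀ w, wm w mr.2 = wm mr.2 w → sg w l = l ∨ sg w l = -l)
    (b : ∀ w (y : V3), y.1 = y.2.1 → sg (MO.mk 0 w * m * (MO.mk 0 w)⁻¹).2 y = -y → y = 0 ∨ y = l ∨ y = -l)
    (nf : ∀ g ∈ h.H, ∀ y, y * (g * h.nn m * g⁻¹) * y⁻¹ ≠ g * h.nn m * g⁻¹ * h.t) :
    ∃ K ≤ h.H ⊓ Odd.cz h.r, (∀ g ∈ h.H ⊓ Odd.cz h.r, ∀ n ∈ K, g * n * g⁻¹ ∈ K) ∧ h.d l ∈ K ∧
      K ⊓ S h ≤ zpowers (h.d l) := by
  have mΓ : m ∈ h.Γ := h.rΓ c
  have uu := h.nn_sq mΓ mm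
  obtain ⟨K, KX, nK, mK, KS⟩ := theta (Q := zpowers (h.d l)) (SX h c) (S_p h) (iS h c)
    (zpowers_le.2 ⟨l, hl, rfl⟩) (by
      rw [card_S, Nat.card_zpowers, orderOf_eq_prime (h.d3' l) (mt h.d_eq_one.1 l0)])
    (fun q hq g hg e => by
      have k : g * h.d l * g⁻¹ ∈ S h → g * h.d l * g⁻¹ ∈ zpowers (h.d l) := fun ⟨y, _, e⟩ => by
        have gM := h.se l0 hg.1 (e ▸ h.dM y)
        rw [e, mem_zp, ← h.Φ_act gM e]
        exact .inr (a _ (congrArg Prod.snd (ΦX h c gM hg.2)))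
      rcases (mem_zpowers_three (h.d3' l)).1 hq with rfl | rfl | rfl
      · simp
      · exact k e
      · rw [← conj_inv, inv_mem_iff] at e ⊢
        exact k e)
    (e := h.nn m) ⟨h.nnH mΓ, mem_cz'.2 (h.nn_comm mΓ (h.rΓ c) mc)⟩ uu (by
      rintro g hg _ ⟨y, hy, rfl⟩ e
      by_cases y0 : y = 0
      · exact (mem_zp h).2 (.inl y0)
      have uM := h.se y0 (mul_mem (mul_mem hg.1 (h.nnH mΓ)) (inv_mem hg.1)) (e ▸ inv_mem (h.dM y))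
      obtain ⟨k, -, kM, f⟩ := h.ctl le_rfl h.E_H h.DH uu x0
        (mul_inv_eq_iff_eq_mul.1 ((h.nn_d mΓ x).trans (congrArg h.d mx))) hg.1 uM (nf g hg.1)
      have := h.Φ_act uM (e.trans (h.d_neg y).symm)
      rw [← f, h.Φ_conj kM (h.nnM mΓ), h.Φ_nn mΓ] at this
      exact (mem_zp h).2 (b (h.Φ k).2 y hy this))
  refine ⟨K, KX, nK, ?_, KS⟩
  have := mul_mem (nK _ (SX h c ⟨-l, by simp [hl], rfl⟩) _ mK) (inv_mem mK)
  rwa [mul_assoc, mul_assoc, ← h.d_neg, ← mul_assoc (h.nn m), h.nn_d mΓ, ← h.d_add, neg_neg, ml,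
    (by decide : ∀ l : V3, -l + -l = l)] at this

theorem XM (c : h.c2) : h.H ⊓ Odd.cz h.r ≤ h.M := by
  obtain ⟨K, KX, nK, cK, KS⟩ := exK h c (m := m3) (l := (0, 0, 1)) (x := (1, 0, 0)) (by decide) (by decide)
    rfl (by decide) (by decide) (by decide) (by decide) (by decide +kernel) (by decide +kernel)
    fun g hg y => h.nfs hg
  obtain ⟨L, LX, nL, eL, LS⟩ := exK h c (m := m1 * mr * m1⁻¹) (l := (1, 1, 0)) (x := (0, 0, 1))
    (by decide) (by decide) rfl (by decide) (by decide) (by decide) (by decide) (by decide +kernel)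
    (by decide +kernel) fun g hg y => by
      have := h.nfr c (x := y) (mul_mem hg (h.nnH (p := m1) (h.rΓ c)))
      rw [h.nn_conj (h.rΓ c) (h.rΓ c)]
      simpa only [mul_assoc, mul_inv_rev] using this
  refine r2k (S_p h) (iS h c) (SX h c) KX LX nK nL ?_ (fun W WX h3 n => h.sigM (x := (0, 0, 1))
    (y := (1, 1, 0)) (by decide) (WX.trans inf_le_left) h3 (n _ ⟨_, rfl, rfl⟩) (n _ ⟨_, rfl, rfl⟩)) cK
    (h.d3' _) (fun g hg e => h.cM (by decide) hg.1 e) eL fun g hg e => h.se (by decide) hg.1 e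
  rintro _ ⟨y, hy, rfl⟩ a b
  exact h.d_eq_one.2 ((by decide : ∀ y : V3, (y = 0 ∨ y = (0, 0, 1) ∨ y = -(0, 0, 1)) →
    (y = 0 ∨ y = (1, 1, 0) ∨ y = -(1, 1, 0)) → y = 0) y ((mem_zp h).1 (KS ⟨a, y, hy, rfl⟩))
    ((mem_zp h).1 (LS ⟨b, y, hy, rfl⟩)))

end CL.O8.HA

namespace CL.O8.Fr

open Subgroup CL.Odd CL.Odd.MO

variable {G : Type*} [Group G] [Finite G] (h : Fr G)

theorem hchi2 (c : h.c2) : ∃ χ : G → ZMod 2, (∀ a ∈ h.H, ∀ b ∈ h.H, χ (a * b) = χ a + χ b) ∧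
    χ h.r ≠ 0 ∧ χ h.s3 = 0 := by
  have rΓ : mr ∈ h.Γ := h.rΓ c
  have sΓ : m3 ∈ h.Γ := h.ev
  have rr : h.r * h.r = 1 := h.nn_sq rΓ (by decide)
  have ss : h.s3 * h.s3 = 1 := h.nn_sq sΓ (by decide)
  let φ : G → ZMod 2 := fun g => ((h.Φ g).2.1.val : ZMod 2)
  have add : ∀ a ∈ h.M, ∀ b ∈ h.M, φ (a * b) = φ a + φ b := fun a ha b hb => by
    simp only [φ, h.Φ_mul ha hb]
    exact (by decide +kernel : ∀ a b : Fin 24, ((qm24 a b).val : ZMod 2) = a.val + b.val) _ _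
  have cj : ∀ a ∈ h.M, ∀ b ∈ h.M, φ (a * b * a⁻¹) = φ b := fun a ha b hb => by
    have := add _ (mul_mem (mul_mem ha hb) (inv_mem ha)) _ ha
    rw [inv_mul_cancel_right, add _ ha _ hb, add_comm] at this
    exact (add_right_cancel this).symm
  have key : ∀ g ∈ h.H, g⁻¹ * h.r * g ∈ h.M → g ∈ h.M := fun g hg m => by
    obtain ⟨k, kH, kM, e⟩ := h.ctl le_rfl h.E_H h.DH rr (x := (0, 0, 1)) (by decide)
      (mul_inv_eq_iff_eq_mul.1 (h.nn_d rΓ _)) (inv_mem hg) (by rwa [inv_inv]) fun y => h.nfr c (inv_mem hg)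
    exact (mul_mem_cancel_right kM).1 (HA.XM h c ⟨mul_mem hg kH, mem_cz.2 (by
      rw [mul_inv_rev, mul_assoc g, mul_assoc g, ← mul_assoc _ k⁻¹, e]; group)⟩)
  have hB : IsPGroup 2 (zpowers h.r) := fun ⟨_, n, rfl⟩ => ⟨1, Subtype.ext (by
    show (h.r ^ n) ^ 2 = 1
    rw [← zpow_natCast, ← zpow_mul, mul_comm, zpow_mul, zpow_natCast, pow_two, rr, one_zpow])⟩
  obtain ⟨χ, a, b, d⟩ := tr (X := h.H) (M := h.M) φ add hB (zpowers_le.2 (h.nnH rΓ)) (mem_zpowers _)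
    ((pow_two _).trans rr) (by rintro _ ⟨n, rfl⟩; exact (Commute.refl _).zpow_left n)
    (by simp only [φ, h.Φ_nn rΓ]; decide) (not_dvd_of_fix hB (zpowers_le.2 (h.nnH rΓ))
      (zpowers_le.2 (h.nnM rΓ)) fun g hg e => key g hg (e _ (mem_zpowers _))) fun g hg e => by
      simpa using cj _ (inv_mem (key g hg (e _ (mem_zpowers _)))) _ (h.nnM rΓ)
  refine ⟨χ, a, b, d _ (h.nnH sΓ) ((pow_two _).trans ss) fun g hg m => ?_⟩
  obtain ⟨k, -, kM, e⟩ := h.ctl le_rfl h.E_H h.DH ss (x := (1, 0, 0)) (by decide)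
    (mul_inv_eq_iff_eq_mul.1 (h.nn_d sΓ _)) (inv_mem hg) (by rwa [inv_inv]) fun y => h.nfs (inv_mem hg)
  rw [inv_inv] at e
  rw [← e, cj _ kM _ (h.nnM sΓ)]
  simp only [φ, h.Φ_nn sΓ]
  decide

end CL.O8.Fr
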