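/- STUB (S3372): H = C(t) equals M.  Tools: PERM/O8/SE, EM, RR (R_gen, R_ex), NF (nfs), Gen (r2k), Tr (tr), Bas (syl3), `CL.Odd.theta`.
H' = {g ∈ H | χ g = 0} contains the elements of order 3 of H, t (a square, R_ex), E (R_gen), s1, s2, s3 (conjugate under
τ = nn mτ).  Every w ∈ W48 is (sign change) * mτ^i * mr^j with j = parity (decide), a sign change is a product of m1,m2,m3;
so m ∈ M ⊓ H' has Φ m even (if Φ m is odd then c2 holds as Φ m ∈ Γ).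
`tr` with p = 3, X = H', M := M ⊓ H', φ g = (((Φ g).2.1.val % 6 / 2 : ℕ) : ZMod 3) (additive on even elements, 0 iff Dg:
decide), x = τ, B = ⟨τ, d cc⟩ (abelian of exponent 3).  g⁻¹ B g ≤ M gives g ∈ M (se), hence h; hi by idx3 or
not_dvd_of_fix.  H1 = {g ∈ H' | χ₃ g = 0} contains E, s_i (2-elements), D (inverted by σ = s1 s2 s3), and m ∈ M ⊓ H1 has
Dg (Φ m).2.  3 ∤ D.relIndex H1 (syl3, nD: g = nn p t^ε, Dg p.2, g^4 ∈ D).
`theta` (X = H1, S = D) for s3 with Q = {x.1 = 0} and Q = {x.2.1 = 0}, and for s1 with Q = {x.2.2 = 0}.  hsc: se, Φ_act,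
sign changes preserve Q.  hinv: u = g s_i g⁻¹ inverts d y ≠ 1, so u ∈ M (se), ctl with X := H1 (nfs; s1 is conjugate to
s3 by a power of τ ∈ H) gives k ∈ H1 ⊓ M with u = k s_i k⁻¹, so (Φ u).2 = (m_i).2 and y ∈ ⟨e_i⟩ (Φ_act).
`r2k` with K = K₁ ⊓ K₂ ∋ d (0,0,1) (cM), L ∋ d (1,0,0) (se), sig = sigM gives H1 ≤ M.  Finally g ∈ H has
g r^j τ^i ∈ H1 (j = 0 if χ g = 0; if ¬ c2 use h0). -/
import Mathlib
import Cfsg.Agent.PERM.O8.SE
import Cfsg.Agent.PERM.S9Theta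

set_option autoImplicit false
set_option maxRecDepth 100000
set_option synthInstance.maxSize 2000

namespace CL.O8.HB

open Subgroup CL.Odd CL.Odd.MO

variable {G : Type*} [Group G]

section
variable {A : Type} [AddCommGroup A] {X : Subgroup G} {χ : G → A}
  (add : ∀ a ∈ X, ∀ b ∈ X, χ (a * b) = χ a + χ b)
include add

theorem c_one : χ 1 = 0 := by simpa using add 1 X.one_mem 1 X.one_mem
theorem c_inv {a : G} (ha : a ∈ X) : χ a⁻¹ = -χ a := by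
  rw [eq_neg_iff_add_eq_zero, ← add _ (inv_mem ha) _ ha, inv_mul_cancel, c_one add]
theorem c_conj {a b : G} (ha : a ∈ X) (hb : b ∈ X) : χ (a * b * a⁻¹) = χ b := by
  rw [add _ (mul_mem ha hb) _ (inv_mem ha), add _ ha _ hb, c_inv add ha]; abel
theorem c_pow {a : G} (ha : a ∈ X) (n : ℕ) : χ (a ^ n) = n • χ a := by
  induction n with
  | zero => simpa using c_one add
  | succ n ih => rw [pow_succ, add _ (pow_mem ha n) _ ha, ih, succ_nsmul]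

/-- the kernel of a character -/
def ker : Subgroup G where
  carrier := {g | g ∈ X ∧ χ g = 0}
  one_mem' := ⟨one_mem _, c_one add⟩
  mul_mem' := fun a b => ⟨mul_mem a.1 b.1, by rw [add _ a.1 _ b.1, a.2, b.2, add_zero]⟩
  inv_mem' := fun a => ⟨inv_mem a.1, by rw [c_inv add a.1, a.2, neg_zero]⟩
end

theorem exB {a b : G} (a3 : a ^ 3 = 1) (b3 : b ^ 3 = 1) (ab : a * b = b * a) :
    IsPGroup 3 (closure ({a, b} : Set G)) ∧ ∀ x ∈ closure ({a, b} : Set G), x * a = a * x := by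
  have c1 : ∀ z, Commute a z → Commute b z → ∀ x ∈ closure ({a, b} : Set G), Commute x z :=
    fun z h1 h2 x hx => closure_induction (p := fun x _ => Commute x z) (by rintro _ (rfl | rfl); exacts [h1, h2])
      (Commute.one_left z) (fun _ _ _ _ => Commute.mul_left) (fun _ _ => Commute.inv_left) hx
  have ca := c1 a (Commute.refl a) ab.symm
  have cb := c1 b ab (Commute.refl b)
  refine ⟨fun x => ⟨1, Subtype.ext ?_⟩, ca⟩
  exact closure_induction (p := fun x _ => x ^ 3 = 1) (by rintro _ (rfl | rfl); exacts [a3, b3]) (one_pow 3)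
    (fun x y hx hy h1 h2 => by rw [(c1 y (ca y hy).symm (cb y hy).symm x hx).mul_pow, h1, h2, mul_one])
    (fun x _ h => by rw [inv_pow, h, inv_one]) x.2

variable (h : Fr G)

/-- preimages under `nn` -/
def P (X : Subgroup G) : Subgroup MO where
  carrier := {p | p ∈ h.Γ ∧ h.nn p ∈ X}
  one_mem' := ⟨one_mem _, h.nn_one ▸ one_mem _⟩
  mul_mem' := fun a b => ⟨mul_mem a.1 b.1, h.nn_mul a.1 b.1 ▸ mul_mem a.2 b.2⟩
  inv_mem' := fun a => ⟨inv_mem a.1, h.nn_inv a.1 ▸ inv_mem a.2⟩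

theorem dg {X : Subgroup G} (DX : h.D ≤ X) (s1 : h.s1 ∈ X) (s2 : h.s2 ∈ X) (s3 : h.s3 ∈ X) {p : MO}
    (e : Dg p.2) : p ∈ P h X := by
  obtain ⟨a, b, c, f⟩ := (by decide +kernel : ∀ w, Dg w → ∃ a b c : Fin 2,
    MO.mk 0 w = m1 ^ a.val * m2 ^ b.val * m3 ^ c.val) p.2 e
  rw [show p = MO.mk p.1 (0, false) * MO.mk 0 p.2 from (by decide +kernel : ∀ p : MO,
    p = MO.mk p.1 (0, false) * MO.mk 0 p.2) p, f]
  exact mul_mem (show _ ∈ P h X from ⟨h.ev rfl, h.nn_tau _ ▸ DX (h.dD _)⟩) (mul_mem (mul_mem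
    (pow_mem (show m1 ∈ P h X from ⟨h.ev, s1⟩) _) (pow_mem (show m2 ∈ P h X from ⟨h.ev, s2⟩) _))
    (pow_mem (show m3 ∈ P h X from ⟨h.ev, s3⟩) _))

theorem ev3 (p : MO) : p.2.1.val % 2 = 0 → Dg p.2 ∨ Dg (p * mτ).2 ∨ Dg (p * mτ⁻¹).2 :=
  (by decide +kernel : ∀ w : W48, w.1.val % 2 = 0 → Dg w ∨ Dg (wm w mτ.2) ∨ Dg (wm w (mτ⁻¹).2)) p.2

/-- hyperplanes of `D` -/
def Q (l : V3) : Subgroup G where
  carrier := {g | ∃ x, MO.dot l x = 0 ∧ g = h.d x}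
  one_mem' := ⟨0, by simp [MO.dot], h.co0.symm⟩
  mul_mem' := by
    rintro _ _ ⟨x, a, rfl⟩ ⟨y, b, rfl⟩
    refine ⟨_, ?_, (h.d_add x y).symm⟩
    simp only [MO.dot, Prod.fst_add, Prod.snd_add] at *
    linear_combination a + b
  inv_mem' := by
    rintro _ ⟨x, a, rfl⟩
    refine ⟨_, ?_, (h.d_neg x).symm⟩
    simp only [MO.dot, Prod.fst_neg, Prod.snd_neg] at *
    linear_combination -a

theorem mem_Q {l x : V3} (e : h.d x ∈ Q h l) : MO.dot l x = 0 := by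
  obtain ⟨y, a, b⟩ := e
  rwa [h.d_inj b]

theorem card_DQ {l : V3} (l0 : l ≠ 0) : Nat.card h.D = 3 * Nat.card (Q h l) := by
  have a : Nat.card h.D = Nat.card V3 := (Nat.card_congr (Equiv.ofBijective
    (fun x : V3 => (⟨h.d x, h.dD x⟩ : h.D)) ⟨fun x y e => h.d_inj (congrArg Subtype.val e), by
      rintro ⟨_, x, rfl⟩; exact ⟨x, rfl⟩⟩)).symm
  have b : Nat.card (Q h l) = Nat.card {x : V3 // MO.dot l x = 0} := (Nat.card_congr (Equiv.ofBijective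
    (fun x : {x : V3 // MO.dot l x = 0} => (⟨h.d x, x, x.2, rfl⟩ : Q h l))
    ⟨fun x y e => Subtype.ext (h.d_inj (congrArg Subtype.val e)), by
      rintro ⟨_, x, hx, rfl⟩; exact ⟨⟨x, hx⟩, rfl⟩⟩)).symm
  rw [a, b, Nat.card_eq_fintype_card, Nat.card_eq_fintype_card, Fintype.card_subtype]
  clear a b
  revert l
  decide +kernel

theorem sq {g : G} {p : MO} (hp : p ∈ h.Γ) (e : g = h.nn p ∨ g = h.nn p * h.t) :
    g * g = h.nn (p * p) := by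
  rw [h.nn_mul hp hp]
  rcases e with rfl | rfl
  · rfl
  · rw [mul_assoc, ← mul_assoc h.t, ← h.nn_t hp, mul_assoc, h.tt, mul_one]

theorem s1_eq : h.s1 = h.nn mτ * h.s3 * (h.nn mτ)⁻¹ := by
  rw [← h.nn_conj h.ev h.ev]; exact congrArg h.nn (by decide)
theorem s2_eq : h.s2 = h.nn mτ * h.s1 * (h.nn mτ)⁻¹ := by
  rw [← h.nn_conj h.ev h.ev]; exact congrArg h.nn (by decide)

variable [Finite G]

theorem ΦN {g : G} {p : MO} (hp : p ∈ h.Γ) (e : g = h.nn p ∨ g = h.nn p * h.t) : h.Φ g = p := by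
  rcases e with rfl | rfl
  · exact h.Φ_nn hp
  · rw [h.nn_t hp, h.Φ_eq h.E_t hp]

theorem ΦP {X : Subgroup G} (EX : h.E ≤ X) {g : G} (a : g ∈ h.M) (b : g ∈ X) : h.Φ g ∈ P h X :=
  ⟨(h.Φ_spec a).1, by simpa using mul_mem (inv_mem (EX (h.Φ_spec a).2)) b⟩

section
variable {X : Subgroup G} (XH : X ≤ h.H) (EX : h.E ≤ X) (DX : h.D ≤ X)
  (hD : ∀ g ∈ X, g ∈ h.M → Dg (h.Φ g).2)
include XH DX hD

theorem iD : ¬ 3 ∣ h.D.relIndex X := syl3 h.D_p DX fun g hg n k g3 => by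
  have gN := h.mem_NH (h.nD fun x => (n _ (h.dD x)).elim fun _ e => ⟨_, e⟩) (XH hg)
  have a := hD g hg (h.NH_M gN)
  obtain ⟨p, hp, e⟩ := gN
  rw [ΦN h hp e] at a
  have : g * g ∈ h.D := ⟨_, (sq h hp e).trans (h.nn_eq_d ((by decide +kernel : ∀ w, Dg w → ∀ x,
    sg (wm w w) x = x) p.2 a))⟩
  obtain ⟨m, e⟩ := eq_of_pow4 g3
  rw [e, show 4 = 2 * 2 from rfl, pow_mul, pow_two g]
  exact pow_mem (pow_mem this _) _

include EX

theorem exK {m : MO} {l x z : V3} (mΓ : m ∈ h.Γ) (mX : h.nn m ∈ X) (mm : m * m = 1) (l0 : l ≠ 0)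
    (mz : sg m.2 z = -z) (x0 : x ≠ 0) (mx : sg m.2 x = x)
    (a : ∀ w, Dg w → ∀ y, MO.dot l y = 0 → MO.dot l (sg w y) = 0)
    (b : ∀ w y, Dg w → sg (MO.mk 0 w * m * (MO.mk 0 w)⁻¹).2 y = -y → MO.dot l y = 0)
    (nf : ∀ g ∈ h.H, ∀ y, y * (g * h.nn m * g⁻¹) * y⁻¹ ≠ g * h.nn m * g⁻¹ * h.t) :
    ∃ K ≤ X, (∀ g ∈ X, ∀ n ∈ K, g * n * g⁻¹ ∈ K) ∧ h.d z ∈ K ∧ K ⊓ h.D ≤ Q h l := by
  have uu := h.nn_sq mΓ mm
  obtain ⟨K, KX, nK, mK, KS⟩ := theta (Q := Q h l) DX h.D_p (iD h XH DX hD)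
    (by rintro _ ⟨x, -, rfl⟩; exact h.dD x) (card_DQ h l0) (by
      rintro _ ⟨y, hy, rfl⟩ g hg ⟨y', e⟩
      by_cases y0 : y = 0
      · rw [h.d_eq_one.2 y0]; simp
      have gM := h.se y0 (XH hg) (e ▸ h.dM y')
      exact ⟨y', h.Φ_act gM e ▸ a _ (hD g hg gM) y hy, e⟩) mX uu (by
      rintro g hg _ ⟨y, rfl⟩ e
      by_cases y0 : y = 0
      · rw [h.d_eq_one.2 y0]; exact one_mem _
      have uM := h.se y0 (XH (mul_mem (mul_mem hg mX) (inv_mem hg))) (e ▸ inv_mem (h.dM y))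
      obtain ⟨k, kX, kM, f⟩ := h.ctl XH EX DX uu x0
        (mul_inv_eq_iff_eq_mul.1 ((h.nn_d mΓ x).trans (congrArg h.d mx))) hg uM (nf g (XH hg))
      have := h.Φ_act uM (e.trans (h.d_neg y).symm)
      rw [← f, h.Φ_conj kM (h.nnM mΓ), h.Φ_nn mΓ] at this
      exact ⟨y, b (h.Φ k).2 y (hD k kX kM) this, rfl⟩)
  refine ⟨K, KX, nK, ?_, KS⟩
  have := mul_mem (nK _ (DX (h.dD (-z))) _ mK) (inv_mem mK)
  rwa [mul_assoc, mul_assoc, ← h.d_neg, ← mul_assoc (h.nn m), h.nn_d mΓ, ← h.d_add, neg_neg, mz,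
    (by decide : ∀ l : V3, -l + -l = l)] at this

theorem XM (s1 : h.s1 ∈ X) (s3 : h.s3 ∈ X) : X ≤ h.M := by
  obtain ⟨K, KX, nK, cK, KS⟩ := exK h XH EX DX hD (m := m3) (l := (1, 0, 0)) (x := (1, 0, 0))
    (z := (0, 0, 1)) h.ev s3 (by decide) (by decide) (by decide) (by decide) (by decide)
    (by decide +kernel) (by decide +kernel) fun g hg y => h.nfs hg
  obtain ⟨K', KX', nK', cK', KS'⟩ := exK h XH EX DX hD (m := m3) (l := (0, 1, 0)) (x := (1, 0, 0))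
    (z := (0, 0, 1)) h.ev s3 (by decide) (by decide) (by decide) (by decide) (by decide)
    (by decide +kernel) (by decide +kernel) fun g hg y => h.nfs hg
  obtain ⟨L, LX, nL, eL, LS⟩ := exK h XH EX DX hD (m := m1) (l := (0, 0, 1)) (x := (0, 0, 1))
    (z := (1, 0, 0)) h.ev s1 (by decide) (by decide) (by decide) (by decide) (by decide)
    (by decide +kernel) (by decide +kernel) fun g hg y => by
      have := h.nfs (x := y) (mul_mem hg (h.nnH (p := mτ) h.ev))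
      rw [show h.nn m1 = _ from s1_eq h]
      simpa only [mul_assoc, mul_inv_rev] using this
  refine r2k (K := K ⊓ K') h.D_p (iD h XH DX hD) DX (inf_le_left.trans KX) LX
    (fun g hg n hn => ⟨nK g hg n hn.1, nK' g hg n hn.2⟩) nL ?_ (fun W WX h3 n => h.sigM (x := (1, 0, 0))
    (y := (0, 1, 0)) (by decide) (WX.trans XH) h3 (n _ (h.dD _)) (n _ (h.dD _))) ⟨cK, cK'⟩
    (h.d3' _) (fun g hg e => h.cM (by decide) (XH hg) e) eL fun g hg e => h.se (by decide) (XH hg) e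
  rintro _ ⟨y, rfl⟩ a b
  exact h.d_eq_one.2 ((by decide : ∀ y : V3, MO.dot (1, 0, 0) y = 0 → MO.dot (0, 1, 0) y = 0 →
    MO.dot (0, 0, 1) y = 0 → y = 0) y (mem_Q h (KS ⟨a.1, h.dD y⟩)) (mem_Q h (KS' ⟨a.2, h.dD y⟩))
    (mem_Q h (LS ⟨b, h.dD y⟩)))

end

theorem XM' {X : Subgroup G} (XH : X ≤ h.H) (EX : h.E ≤ X) (DX : h.D ≤ X) (s3 : h.s3 ∈ X)
    (τX : h.nn mτ ∈ X) (ev : ∀ g ∈ X, g ∈ h.M → (h.Φ g).2.1.val % 2 = 0) : X ≤ h.M := by
  have τΓ : mτ ∈ h.Γ := h.ev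
  have s1 : h.s1 ∈ X := s1_eq h ▸ mul_mem (mul_mem τX s3) (inv_mem τX)
  have s2 : h.s2 ∈ X := s2_eq h ▸ mul_mem (mul_mem τX s1) (inv_mem τX)
  have τ3 : h.nn mτ ^ 3 = 1 := by rw [← h.nn_pow τΓ, show mτ ^ 3 = 1 by decide, h.nn_one]
  obtain ⟨hB, cB⟩ := exB τ3 (h.d3' cc) (mul_inv_eq_iff_eq_mul.1 (h.nn_d τΓ cc))
  let φ : G → ZMod 3 := fun g => (((h.Φ g).2.1.val % 6 / 2 : ℕ) : ZMod 3)
  have add : ∀ a ∈ h.M ⊓ X, ∀ b ∈ h.M ⊓ X, φ (a * b) = φ a + φ b := fun a ha b hb => by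
    simp only [φ, h.Φ_mul ha.1 hb.1]
    exact (by decide +kernel : ∀ a b : Fin 24, a.val % 2 = 0 → b.val % 2 = 0 →
      (((qm24 a b).val % 6 / 2 : ℕ) : ZMod 3) = (a.val % 6 / 2 : ℕ) + (b.val % 6 / 2 : ℕ)) _ _
      (ev a ha.2 ha.1) (ev b hb.2 hb.1)
  have BX : closure {h.nn mτ, h.d cc} ≤ h.M ⊓ X := (closure_le _).2 (by
    rintro _ (rfl | rfl)
    exacts [⟨h.nnM τΓ, τX⟩, ⟨h.dM _, DX (h.dD _)⟩])
  have key : ∀ g ∈ X, (∀ b ∈ closure {h.nn mτ, h.d cc}, g⁻¹ * b * g ∈ h.M ⊓ X) → g ∈ h.M ⊓ X :=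
    fun g hg e => mem_inf.2 ⟨inv_mem_iff.1 (h.se (x := cc) (by decide) (XH (inv_mem hg))
      (by simpa using (mem_inf.1 (e (h.d cc) (subset_closure (by simp)))).1)), hg⟩
  obtain ⟨χ, a, b, -⟩ := tr (X := X) (M := h.M ⊓ X) φ add hB (BX.trans inf_le_right)
    (subset_closure (by simp)) τ3 cB (by simp only [φ, h.Φ_nn τΓ]; decide)
    (not_dvd_of_fix hB (BX.trans inf_le_right) BX key) fun g hg e => by
      simpa using c_conj add (inv_mem (key g hg e)) (BX (subset_closure (by simp)))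
  have two : ∀ g ∈ X, g ^ 4 = 1 → g ∈ ker a := fun g hg e => ⟨hg, by
    have := c_pow a hg 4
    rw [e, c_one a] at this
    exact (by decide : ∀ k : ZMod 3, 0 = 4 • k → k = 0) _ this⟩
  have sq4 : ∀ m ∈ h.Γ, m * m = 1 → h.nn m ^ 4 = 1 := fun m hm e => by
    rw [show 4 = 2 * 2 from rfl, pow_mul, pow_two (h.nn m), h.nn_sq hm e, one_pow]
  have t1 := two _ s1 (sq4 _ h.ev (by decide))
  have t2 := two _ s2 (sq4 _ h.ev (by decide))
  have t3 := two _ s3 (sq4 _ h.ev (by decide))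
  have E1 : h.E ≤ ker a := fun e he => two e (EX he) (h.E4 he)
  have D1 : h.D ≤ ker a := by
    rintro _ ⟨x, rfl⟩
    have σ := dg h DX s1 s2 s3 (p := mσ) (by decide)
    have := c_conj a σ.2 (DX (h.dD x))
    rw [h.nn_d σ.1, show sg mσ.2 x = -x from congrArg _ (sg_one x), h.d_neg, c_inv a (DX (h.dD x))] at this
    exact ⟨DX (h.dD x), (by decide : ∀ k : ZMod 3, -k = k → k = 0) _ this⟩
  have le := XM h (X := ker a) (fun g hg => XH hg.1) E1 D1 (fun g hg gM => by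
    have m := ΦP h E1 gM hg
    rcases ev3 _ (ev g hg.1 gM) with e | e | e
    · exact e
    · exact (b ((mul_mem_cancel_left m).1 (dg h D1 t1 t2 t3 e)).2.2).elim
    · exact (b (inv_mem_iff.1 ((mul_mem_cancel_left m).1 (dg h D1 t1 t2 t3 e))).2.2).elim) t1 t3
  intro g hg
  obtain ⟨i, e⟩ := (by decide : ∀ k l : ZMod 3, l ≠ 0 → ∃ i : Fin 3, k + i.val • l = 0) (χ g) _ b
  exact (mul_mem_cancel_right (pow_mem (h.nnM τΓ) i)).1 (le ⟨mul_mem hg (pow_mem τX i), by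
    rw [a _ hg _ (pow_mem τX i), c_pow a τX, e]⟩)

end CL.O8.HB

namespace CL.O8.Fr

open Subgroup CL.Odd CL.Odd.MO

variable {G : Type*} [Group G] [Finite G] (h : Fr G)

theorem hm_of {χ : G → ZMod 2} (add : ∀ a ∈ h.H, ∀ b ∈ h.H, χ (a * b) = χ a + χ b)
    (hr : h.c2 → χ h.r ≠ 0) (h0 : ¬ h.c2 → ∀ g, χ g = 0) (hs : χ h.s3 = 0) : h.H ≤ h.M := by
  have τΓ : mτ ∈ h.Γ := h.ev
  have three : ∀ g ∈ h.H, g ^ 3 = 1 → g ∈ HB.ker add := fun g hg e => ⟨hg, by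
    have := HB.c_pow add hg 3
    rw [e, HB.c_one add] at this
    exact (by decide : ∀ k : ZMod 2, 0 = 3 • k → k = 0) _ this⟩
  have D1 : h.D ≤ HB.ker add := by rintro _ ⟨x, rfl⟩; exact three _ (h.dH x) (h.d3' x)
  have τ1 := three _ (h.nnH τΓ) (by rw [← h.nn_pow τΓ, show mτ ^ 3 = 1 by decide, h.nn_one])
  have t1 : h.t ∈ HB.ker add := by
    obtain ⟨g, hg, e⟩ := h.R_ex cc
    exact ⟨h.tH, by
      rw [← e, add _ (h.R_H hg) _ (h.R_H hg)]; exact (by decide : ∀ k : ZMod 2, k + k = 0) _⟩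
  have E1 : h.E ≤ HB.ker add := iSup_le fun l g hg => by
    obtain ⟨a, ha, e⟩ := h.R_gen l.2 hg (u := (1, 0, 0)) (by simpa [MO.dot] using l.2.1)
    have aH := h.R_H ha
    have : h.d (1, 0, 0) * a * (h.d (1, 0, 0))⁻¹ * a⁻¹ ∈ HB.ker add :=
      ⟨mul_mem (mul_mem (mul_mem (h.dH _) aH) (inv_mem (h.dH _))) (inv_mem aH), by
        rw [add _ (mul_mem (mul_mem (h.dH _) aH) (inv_mem (h.dH _))) _ (inv_mem aH),
          HB.c_conj add (h.dH _) aH, HB.c_inv add aH, add_neg_cancel]⟩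
    rcases e with rfl | rfl
    exacts [this, mul_mem this t1]
  have s3 : h.s3 ∈ HB.ker add := ⟨h.nnH h.ev, hs⟩
  have s1 : h.s1 ∈ HB.ker add := HB.s1_eq h ▸ mul_mem (mul_mem τ1 s3) (inv_mem τ1)
  have s2 : h.s2 ∈ HB.ker add := HB.s2_eq h ▸ mul_mem (mul_mem τ1 s1) (inv_mem τ1)
  have evn : ∀ p : MO, p.2.1.val % 2 = 0 → p ∈ HB.P h (HB.ker add) := fun p e => by
    have τP : mτ ∈ HB.P h (HB.ker add) := ⟨τΓ, τ1⟩
    rcases HB.ev3 p e with e | e | e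
    · exact HB.dg h D1 s1 s2 s3 e
    · exact (mul_mem_cancel_right τP).1 (HB.dg h D1 s1 s2 s3 e)
    · exact (mul_mem_cancel_right (inv_mem τP)).1 (HB.dg h D1 s1 s2 s3 e)
  have le := HB.XM' h (X := HB.ker add) (fun g hg => hg.1) E1 D1 s3 τ1 fun g hg gM => by
    by_contra e
    have m := HB.ΦP h E1 gM hg
    exact hr (m.1.resolve_right e) ((mul_mem_cancel_left m).1 (evn (h.Φ g * mr)
      ((by decide +kernel : ∀ w : W48, ¬ w.1.val % 2 = 0 → (wm w mr.2).1.val % 2 = 0) _ e))).2.2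
  intro g hg
  by_cases e : χ g = 0
  · exact le ⟨hg, e⟩
  have c : h.c2 := by_contra fun c => e (h0 c g)
  exact (mul_mem_cancel_right (h.nnM (h.rΓ c))).1 (le ⟨mul_mem hg (h.nnH (p := mr) (h.rΓ c)), by
    rw [add _ hg _ (h.nnH (h.rΓ c))]
    exact (by decide : ∀ k l : ZMod 2, k ≠ 0 → l ≠ 0 → k + l = 0) _ _ e (hr c)⟩)

end CL.O8.Fr
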