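/- (S3372): a subgroup of index two in `G` in the case `c2`, by transfer to the centralizer of `t`. -/
import Mathlib
import Cfsg.Agent.PERM.O8.SE

set_option autoImplicit false
set_option maxRecDepth 100000
set_option synthInstance.maxSize 2000

namespace CL.O8

open Subgroup CL.Odd CL.Odd.MO

namespace TA

theorem fixw : ∀ w : W48, (∀ u : V3, MO.dot (1, 1, 1) (sg w u + -u) = 0 ∧
    MO.dot (1, 1, 2) (sg w u + -u) = 0) →
    sg w (1, 1, 1) = (1, 1, 1) ∧ sg w (1, 1, 2) = (1, 1, 2) ∧ sg w (1, 1, 0) = (1, 1, 0) := by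
  decide +kernel

theorem comm2 {a : MO} (b : MO) (e : a.2 = (0, false)) : (a * b * a⁻¹ * b⁻¹).2 = (0, false) := by
  show wm (wm (wm a.2 b.2) (qi24 a.2.1, a.2.2)) (qi24 b.2.1, b.2.2) = _
  rw [e]
  exact (by decide +kernel : ∀ w : W48,
    wm (wm (wm (0, false) w) (qi24 0, false)) (qi24 w.1, w.2) = (0, false)) _

theorem pow4 : ∀ p : MO, p.2 = (0, false) → p ^ 4 = 1 → p = 1 := by decide +kernel

theorem par : ∀ a b : Fin 24, ((qm24 a b).val : ZMod 2) = a.val + b.val := by decide +kernel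

theorem par_r : ((mr.2.1.val : ℕ) : ZMod 2) ≠ 0 := by decide

end TA

namespace Fr

open TA

variable {G : Type*} [Group G] [Finite G] (h : Fr G)

omit [Finite G] in
theorem ta_ne {g : G} (e : g * g = h.t) : ¬ (g = 1 ∨ g = h.t) := by
  rintro (rfl | rfl)
  · exact h.t_ne (by simpa using e.symm)
  · exact h.t_ne (e.symm.trans h.tt)

theorem ta0 {l v : V3} (hl : Sg l) {f : G} (hf : f ∈ h.E)
    (e : ∀ g ∈ h.R l, f * h.d v * g = g * (f * h.d v)) : MO.dot l v = 0 := by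
  by_contra n
  obtain ⟨g, hg, g2⟩ := h.R_ex l
  refine h.ta_ne g2 (h.R_fpf hl hg n ?_)
  have : h.d v * g * (h.d v)⁻¹ = f⁻¹ * g * f⁻¹⁻¹ := by
    calc _ = f⁻¹ * (f * h.d v * g) * (h.d v)⁻¹ := by group
      _ = _ := by rw [e g hg]; group
  rw [this]
  exact h.E_R hl (inv_mem hf) hg

theorem ta1 (c : h.c2) {y : G} (hy : y ∈ h.M) (e1 : ∀ g ∈ h.R (1, 1, 1), y * g = g * y)
    (e2 : ∀ g ∈ h.R (1, 1, 2), y * g = g * y) : y * h.d (1, 1, 0) = h.d (1, 1, 0) * y := by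
  obtain ⟨f, hf, p, hp, rfl⟩ := hy
  have k : ∀ {l}, Sg l → (∀ g ∈ h.R l, f * h.nn p * g = g * (f * h.nn p)) → ∀ u,
      MO.dot l (sg p.2 u + -u) = 0 := fun {l} hl e u => by
    refine h.ta0 hl (mul_mem hf (h.M_E (h.dM (sg p.2 u)) (inv_mem hf))) fun g hg => ?_
    have a : f * (h.d (sg p.2 u) * f⁻¹ * (h.d (sg p.2 u))⁻¹) * h.d (sg p.2 u + -u) =
        f * h.nn p * h.d u * (f * h.nn p)⁻¹ * (h.d u)⁻¹ := by
      rw [h.d_add, h.d_neg, ← h.nn_d hp]; group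
    have b := h.R_d hl hg (-u)
    rw [h.d_neg] at b
    rw [a]
    generalize f * h.nn p = y at e
    calc _ = y * h.d u * y⁻¹ * ((h.d u)⁻¹ * g * (h.d u)⁻¹⁻¹) * y * y⁻¹ * (h.d u)⁻¹ := by group
      _ = y * g * (h.d u * y⁻¹ * (h.d u)⁻¹) := by
          rw [mul_assoc _ _ y, ← e _ b]; group
      _ = _ := by rw [e g hg]; group
  obtain ⟨w1, w2, w3⟩ := fixw p.2 fun u => ⟨k (by decide) e1 u, k (by decide) e2 u⟩
  have m : MO.mk 0 p.2 ∈ h.Γ := h.rΓ c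
  have np : h.nn p = h.d p.1 * h.nn (MO.mk 0 p.2) := by rw [h.nn_lin]; rfl
  have k2 : ∀ {l}, Sg l → sg p.2 l = l → (∀ g ∈ h.R l, f * h.nn p * g = g * (f * h.nn p)) →
      ∀ g ∈ h.R l, g * f = f * g := fun {l} hl w e => by
    have a : ∀ g ∈ h.R l, f * h.d p.1 * g = g * (f * h.d p.1) := fun g hg => by
      have := e g hg
      rwa [np, ← mul_assoc f, mul_assoc _ _ g, h.R_fix hl m w hg, ← mul_assoc, ← mul_assoc g,
        mul_left_inj] at this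
    intro g hg
    have := a g hg
    rw [mul_assoc, ← h.R_d0 hl hg (h.ta0 hl hf a), ← mul_assoc, ← mul_assoc, mul_left_inj] at this
    exact this.symm
  have f1 := k2 (by decide) w1 e1
  have f2 := k2 (by decide) w2 e2
  obtain ⟨x1, h1, x2, h2, x3, h3, x4, h4, rfl⟩ :=
    h.E_dec (by decide : Q4 (1, 1, 1) (1, 1, 2) (1, 2, 1) (2, 1, 1)) hf
  have rc : ∀ {l m : V3}, Sg l ∧ Sg m ∧ MO.dot l m ≠ 0 → ∀ {a b}, a ∈ h.R l → b ∈ h.R m → Commute a b :=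
    fun q _ _ ha hb => h.rcomm q.1 q.2.1 q.2.2 _ ha _ hb
  have a1 := h.R_key h1 (f := x2 * x3 * x4)
    (fun g hg => (((rc (by decide) hg h2).mul_right (rc (by decide) hg h3)).mul_right
      (rc (by decide) hg h4)).eq) fun g hg => by simpa only [mul_assoc] using f1 g hg
  have a2 := h.R_key h2 (f := x1 * x3 * x4)
    (fun g hg => (((rc (by decide) hg h1).mul_right (rc (by decide) hg h3)).mul_right
      (rc (by decide) hg h4)).eq) fun g hg => by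
        have := f2 g hg
        rw [(rc (by decide) h1 h2).eq] at this
        simpa only [mul_assoc] using this
  have ct : ∀ {x}, x = 1 ∨ x = h.t → Commute x (h.d (1, 1, 0)) := by
    rintro _ (rfl | rfl)
    exacts [Commute.one_left _, (h.dt _).symm]
  have cn : Commute (h.nn (MO.mk 0 p.2)) (h.d (1, 1, 0)) :=
    mul_inv_eq_iff_eq_mul.1 ((h.nn_d m _).trans (congrArg _ w3))
  rw [np]
  exact (((((ct a1).mul_left (ct a2)).mul_left (h.R_d0 (by decide) h3 (by decide))).mul_left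
    (h.R_d0 (by decide) h4 (by decide))).mul_left
    ((show Commute _ _ from h.dc _ _).mul_left cn)).eq

theorem ta2 (hm : h.H ≤ h.M) {g : G} (e1 : ∀ a ∈ h.R (1, 1, 1), g⁻¹ * a * g ∈ h.H)
    (e2 : g⁻¹ * h.d (1, 1, 0) * g ∈ h.H) : g ∈ h.H := by
  have hl : Sg (1, 1, 1) := by decide
  obtain ⟨ρ, hρ, ρ2⟩ := h.R_ex (1, 1, 1)
  have m := mul_mem (h.R_d hl hρ (1, 1, 0)) (inv_mem hρ)
  have n : ¬ (h.d (1, 1, 0) * ρ * (h.d (1, 1, 0))⁻¹ * ρ⁻¹ = 1 ∨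
      h.d (1, 1, 0) * ρ * (h.d (1, 1, 0))⁻¹ * ρ⁻¹ = h.t) := fun e =>
    h.ta_ne ρ2 (h.R_fpf hl hρ (u := (1, 1, 0)) (by decide) (e.imp mul_inv_eq_one.1 fun e => by
      rw [h.ct (h.R_H hρ), ← e, inv_mul_cancel_right]))
  have s := (h.R_sq m).resolve_left fun e => n (h.R_inv m e)
  have x2 := (h.toD (g := g⁻¹) (v := (0, 1, 1, 0)) (hm e2) (by rw [inv_inv])).1
  have q := hm (e1 ρ hρ)
  have q0 := hm (e1 _ m)
  have a : g⁻¹ * (h.d (1, 1, 0) * ρ * (h.d (1, 1, 0))⁻¹ * ρ⁻¹) * g = g⁻¹ * h.d (1, 1, 0) * g *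
      (g⁻¹ * ρ * g) * (g⁻¹ * h.d (1, 1, 0) * g)⁻¹ * (g⁻¹ * ρ * g)⁻¹ := by group
  have b : g⁻¹ * (h.d (1, 1, 0) * ρ * (h.d (1, 1, 0))⁻¹ * ρ⁻¹) * g ∈ h.E := by
    refine (h.Φ_eq_one q0).1 (pow4 _ ?_ ?_)
    · rw [a, h.Φ_mul (mul_mem (mul_mem (hm e2) q) (inv_mem (hm e2))) (inv_mem q),
        h.Φ_conj (hm e2) q, h.Φ_inv q]
      exact comm2 _ x2
    · have := h.R4 m
      rw [← h.Φ_pow q0, h.Φ_eq_one (pow_mem q0 _)]
      generalize h.d (1, 1, 0) * ρ * (h.d (1, 1, 0))⁻¹ * ρ⁻¹ = z at this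
      rw [show (g⁻¹ * z * g) ^ 4 = g⁻¹ * z ^ 4 * g by simp only [pow_succ, pow_zero]; group, this]
      simp
  generalize h.d (1, 1, 0) * ρ * (h.d (1, 1, 0))⁻¹ * ρ⁻¹ = z at s b
  have := h.E_es.sq _ b
  rw [show g⁻¹ * z * g * (g⁻¹ * z * g) = g⁻¹ * (z * z) * g by group, s] at this
  rcases this with e | e
  · exact (h.t_ne (by rw [← mul_inv_cancel_left g h.t, ← mul_inv_cancel_right (g⁻¹ * h.t) g, e]; simp)).elim
  · exact mem_cz'.2 (by rw [← mul_inv_cancel_left g (h.t * g), ← mul_assoc g⁻¹, e])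

theorem chi2 (hm : h.H ≤ h.M) (c : h.c2) :
    ∃ χ : G → ZMod 2, (∀ a b, χ (a * b) = χ a + χ b) ∧ χ h.r ≠ 0 := by
  have : Fact (Nat.Prime 2) := ⟨Nat.prime_two⟩
  have rΓ : mr ∈ h.Γ := h.rΓ c
  have r2 : mr ^ 2 = 1 := by decide
  have hφ : ∀ a ∈ h.H, ∀ b ∈ h.H, (((h.Φ (a * b)).2.1.val : ℕ) : ZMod 2) =
      (h.Φ a).2.1.val + (h.Φ b).2.1.val := fun a ha b hb => by
    rw [h.Φ_mul (hm ha) (hm hb)]; exact par _ _
  have hB : IsPGroup 2 (h.MP (zpowers mr) ⊓ Odd.cz h.r : Subgroup G) := fun ⟨b, hb, _⟩ => ⟨3, by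
    obtain ⟨k, hk⟩ := hb.2
    have : b ^ 2 ∈ h.E := (h.Φ_eq_one (pow_mem hb.1 _)).1 (by
      rw [h.Φ_pow hb.1, ← hk, ← zpow_natCast, ← zpow_mul, mul_comm, zpow_mul, zpow_natCast, r2, one_zpow])
    exact Subtype.ext ((pow_mul b 2 4).trans (h.E4 this))⟩
  have EB : ∀ {e}, e ∈ h.E → h.r * e = e * h.r → e ∈ h.MP (zpowers mr) ⊓ Odd.cz h.r := fun he a =>
    ⟨⟨h.E_M he, (h.Φ_eq_one (h.E_M he)).2 he ▸ one_mem _⟩, mem_cz'.2 a.symm⟩
  have key : ∀ g ∈ (⊤ : Subgroup G), (∀ b ∈ h.MP (zpowers mr) ⊓ Odd.cz h.r, g⁻¹ * b * g ∈ h.H) →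
      g ∈ h.H := fun g _ e => by
    have cy : ∀ {b}, g⁻¹ * b * g ∈ h.H → g * h.t * g⁻¹ * b = b * (g * h.t * g⁻¹) := fun {b} hb => by
      calc _ = g * (h.t * (g⁻¹ * b * g)) * g⁻¹ := by group
        _ = _ := by rw [← h.ct hb]; group
    have RB : ∀ {l}, Sg l ∧ sg (7, true) l = l → ∀ a ∈ h.R l, g⁻¹ * a * g ∈ h.H := fun q a ha =>
      e a (EB (h.R_E q.1 ha) (h.R_fix q.1 rΓ q.2 ha))
    have := h.ta1 c (hm (mem_cz'.2 (cy (e _ (EB h.E_t (h.nn_t rΓ))))))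
      (fun a ha => cy (RB (by decide) a ha)) fun a ha => cy (RB (by decide) a ha)
    refine h.ta2 hm (RB (by decide)) (mem_cz'.2 ?_)
    calc _ = g⁻¹ * (h.d (1, 1, 0) * (g * h.t * g⁻¹)) * g := by group
      _ = _ := by rw [← this]; group
  have rH : h.r ∈ h.H := h.nnH rΓ
  obtain ⟨χ, a, b, -⟩ := tr (X := ⊤) (M := h.H) (B := h.MP (zpowers mr) ⊓ Odd.cz h.r) (x := h.r)
    (fun g => (((h.Φ g).2.1.val : ℕ) : ZMod 2)) hφ hB le_top
    ⟨⟨h.nnM rΓ, by rw [h.Φ_nn rΓ]; exact mem_zpowers _⟩, mem_cz'.2 rfl⟩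
    (by rw [← h.nn_pow rΓ, r2, h.nn_one]) (fun b hb => mem_cz'.1 hb.2)
    (by rw [h.Φ_nn rΓ]; exact par_r)
    (not_dvd_of_fix hB le_top (fun b hb => h.M_H hb.1.1) key) fun g hg e => by
      have m := key g hg e
      have e1 := hφ _ (inv_mem m) _ m
      have e0 := hφ _ (one_mem _) _ (one_mem _)
      rw [hφ _ (mul_mem (inv_mem m) rH) _ m, hφ _ (inv_mem m) _ rH]
      rw [inv_mul_cancel] at e1
      rw [mul_one] at e0
      linear_combination -e1 - e0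
  exact ⟨χ, fun x y => a x trivial y trivial, b⟩

end Fr

end CL.O8
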