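/- (S3372): a subgroup of index three in the kernel of `χ`, by transfer to the centralizer of the
3-central element `co zv`. -/
import Mathlib
import Cfsg.Agent.PERM.O8.NF
import Cfsg.Agent.PERM.O8.Tr

set_option autoImplicit false
set_option maxRecDepth 100000
set_option synthInstance.maxSize 2000

namespace CL.O8

open Subgroup CL.Odd CL.Odd.MO

namespace TB

/-- a square root of `-1` -/
def iL : Lin := ((0, 1, 0, 0), (2, 0, 0, 0), (0, 0, 0, 1), (0, 0, 2, 0))
/-- the map `-1` -/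
def nL : Lin := cmp iL iL
/-- cube equal to one -/
def C3 (T : Lin) : Prop := cmp (cmp T T) T = oneL
instance (T : Lin) : Decidable (C3 T) := by unfold C3; infer_instance

theorem iL_ok : Orth iL ∧ Ev iL := by decide +kernel
theorem nL_ok : Orth nL ∧ Ev nL := by decide +kernel
theorem stabz : AllW fun T => ap T zv = zv → (∃ k : F, ap T a0 = a0 + k • zv) ∨
    (¬ Ev T ∧ (C3 (cmp T rL) ∨ C3 (cmp (cmp T rL) tL))) := by decide +kernel
theorem stabzf : AllW fun T => ap T zv = zv → ap T f0 = f0 → C3 T →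
    T = oneL ∨ T = tauL ∨ T = cmp tauL tauL := by decide +kernel
theorem fixv : ∀ v : V, ap tauL v = v → ap q1L v = v → ∃ k : F, v = k • zv := by decide +kernel
theorem exu : ∀ k : F, ∃ u : V, u + k • zv + ap tauL (-u) = 0 := by decide +kernel

theorem tau_a0 : ap tauL a0 = a0 + (2 : F) • zv ∧ (2 : F) ≠ 0 := by decide

variable {G : Type*} [Group G] {χ : G → ZMod 2} (add : ∀ a b, χ (a * b) = χ a + χ b)
include add

theorem c_one : χ 1 = 0 := by simpa using add 1 1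
theorem c_sq (a : G) : χ (a * a) = 0 := by
  rw [add]; exact (by decide : ∀ x : ZMod 2, x + x = 0) _
theorem c_inv (a : G) : χ a⁻¹ = χ a := by
  have := add a a⁻¹
  rw [mul_inv_cancel, c_one add] at this
  exact (by decide : ∀ x y : ZMod 2, 0 = x + y → y = x) _ _ this
theorem c_cube {a : G} (e : a ^ 3 = 1) : χ a = 0 := by
  have := add (a * a) a
  rw [c_sq add, zero_add, ← pow_two, ← pow_succ, e, c_one add] at this
  exact this.symm
theorem c_comm (a b : G) : χ (a * b * a⁻¹ * b⁻¹) = 0 := by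
  rw [add, add, add, c_inv add, c_inv add]
  exact (by decide : ∀ x y : ZMod 2, x + y + x + y = 0) _ _

/-- the kernel -/
def ker : Subgroup G where
  carrier := {g | χ g = 0}
  one_mem' := c_one add
  mul_mem' := fun {a b} ha hb => by
    show χ _ = 0
    rw [add, show χ a = 0 from ha, show χ b = 0 from hb, add_zero]
  inv_mem' := fun {a} ha => (c_inv add a).trans ha

theorem ker_index : ¬ 3 ∣ (ker add).index := by
  have : (ker add) = (MonoidHom.mk' (fun g => Multiplicative.ofAdd (χ g))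
    fun a b => congrArg _ (add a b)).ker := rfl
  rw [this, index_ker]
  intro e
  have := e.trans (card_subgroup_dvd_card _)
  simp at this

end TB

namespace Fr

open TB

section
variable {G : Type*} [Group G] (h : Fr G)

theorem tb_smul (k : F) {c : G} {v : V} (e : c * h.co v = h.co v * c) :
    c * h.co (k • v) = h.co (k • v) * c := by
  have : k = 0 ∨ k = 1 ∨ k = 1 + 1 := by revert k; decide
  rcases this with rfl | rfl | rfl
  · simp [h.co0]
  · simpa using e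
  · rw [add_smul, one_smul, h.co_add, ← mul_assoc, e, mul_assoc, e, mul_assoc]

section
variable {χ : G → ZMod 2} (add : ∀ a b, χ (a * b) = χ a + χ b)
include add

theorem tb_t : χ h.t = 0 := by
  obtain ⟨g, -, e⟩ := h.R_ex cc
  rw [← e]; exact c_sq add g

theorem tb_ψ (x : Q8) : χ (h.ψ x) = 0 := by
  obtain ⟨a, -, e⟩ := h.R_gen (l := cc) (u := (1, 0, 0)) (by decide) (g := h.ψ x) ⟨x, h.φ_cc x⟩
    (by decide)
  rcases e with e | e <;> rw [e]
  · exact c_comm add _ _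
  · rw [add, c_comm add, h.tb_t add, add_zero]

theorem tb_a0 (hr : h.c2 → χ h.r ≠ 0) {c : G} (c0 : χ c = 0) (e : c * h.co zv = h.co zv * c) :
    ∃ k : F, c * h.co a0 * c⁻¹ = h.co (a0 + k • zv) := by
  obtain ⟨x, n⟩ := h.cz c e
  obtain ⟨v, T, o, e1⟩ := h.nj _ n
  have ψz := h.ψz x
  have Tz : ap T zv = zv := h.co_inj (by
    rw [← h.act o v, ← e1, mul_assoc (h.ψ x)⁻¹, e]
    calc _ = (h.ψ x)⁻¹ * h.co zv * h.ψ x := by group
      _ = _ := by rw [mul_assoc, ← ψz]; simp)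
  have wT : χ (h.w T) = 0 := by
    have := congrArg χ e1
    rw [add, add, c_inv add, h.tb_ψ add, c0, c_cube add (h.co3 v)] at this
    simpa using this.symm
  rcases stabz.of o.1 Tz with ⟨k, e2⟩ | ⟨ne, e2⟩
  · refine ⟨k, ?_⟩
    have e3 := h.act o v a0
    rw [← e1, e2] at e3
    have e4 : h.ψ x * h.co (a0 + k • zv) = h.co (a0 + k • zv) * h.ψ x := by
      rw [h.co_add, ← mul_assoc, h.ψa, mul_assoc, h.tb_smul k ψz, mul_assoc]
    rw [← mul_inv_cancel_right (h.co (a0 + k • zv)) (h.ψ x), ← e4, ← e3]; group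
  · have c2 : h.c2 := o.2.resolve_right ne
    have or : OK h.c2 rL := ⟨by decide, Or.inl c2⟩
    have rr : h.r = h.w rL := (h.nn_lin _).trans (congrArg _ (by decide))
    have o2 := h.ok_mul _ _ o or
    refine (hr c2 ?_).elim
    rcases e2 with e2 | e2
    · have := c_cube add (h.w_cube o2 e2)
      rwa [h.w_mul _ _ o or, add, wT, zero_add, ← rr] at this
    · have := c_cube add (h.w_cube (h.ok_mul _ _ o2 h.ok_t) e2)
      rwa [h.w_mul _ _ o2 h.ok_t, add, h.tb_t add, add_zero, h.w_mul _ _ o or, add, wT, zero_add,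
        ← rr] at this

end

open Classical in
/-- the action on `a0` -/
noncomputable def tbφ (c : G) : ZMod 3 :=
  if e : ∃ k : F, c * h.co a0 * c⁻¹ = h.co (a0 + k • zv) then e.choose else 0

theorem tbφ_eq {c : G} {k : F} (e : c * h.co a0 * c⁻¹ = h.co (a0 + k • zv)) : h.tbφ c = k := by
  have ex : ∃ k : F, c * h.co a0 * c⁻¹ = h.co (a0 + k • zv) := ⟨k, e⟩
  rw [tbφ, dif_pos ex]
  exact (by decide : ∀ k l : F, a0 + k • zv = a0 + l • zv → k = l) _ _
    (h.co_inj (ex.choose_spec.symm.trans e))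

end

variable {G : Type*} [Group G] [Finite G] (h : Fr G)

theorem tb_nt (k : F) (g : G) (u : V) : g * h.co u * g⁻¹ ≠ h.co (k • zv) * h.τ := fun e => by
  obtain ⟨a, e1⟩ := exu k
  refine h.tau (g := (h.co a * g)⁻¹) (v := u) ?_
  have e2 : h.co a * (h.co (k • zv) * h.τ) * (h.co a)⁻¹ = h.τ := by
    calc _ = h.co a * h.co (k • zv) * (h.τ * h.co (-a) * h.τ⁻¹) * h.τ := by rw [h.con]; group
      _ = _ := by rw [h.τa, ← h.co_add, ← h.co_add, e1, h.co0, one_mul]
  rw [← e2, ← e]; group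

/-- conjugates of `co zv` that centralize `C_S(τ)` -/
theorem tb_y {g : G} (e : ∀ b ∈ h.S ⊓ Odd.cz h.τ, g * h.co zv * g⁻¹ * b = b * (g * h.co zv * g⁻¹)) :
    g * h.co zv * g⁻¹ = h.co zv ∨ g * h.co zv * g⁻¹ = h.co (-zv) := by
  have cf : ∀ u, ap tauL u = u → h.co u ∈ h.S ⊓ Odd.cz h.τ := fun u e =>
    ⟨⟨u, 0, 0, by simp⟩, mem_cz_comm.1 (mem_cz.2 (by rw [h.τa, e]))⟩
  have ez := e _ (cf zv (by decide))
  have ef := e _ (cf f0 (by decide))
  have eτ := e h.τ ⟨⟨0, 0, 1, by simp [h.co0, ZMod.val_one]⟩, mem_cz'.2 rfl⟩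
  have eq := e h.q1 ⟨⟨0, 1, 0, by simp [h.co0, ZMod.val_one]⟩, mem_cz'.2 h.q1τ⟩
  have y3 : (g * h.co zv * g⁻¹) ^ 3 = 1 := by rw [conj_pow, h.co3]; simp
  obtain ⟨v, T, o, e1⟩ := h.nj _ (h.c1 (v := zv) (u := f0) (by decide) (by decide) (by decide) ez ef)
  have a := h.act o v
  rw [← e1] at a
  have fx : ∀ u, g * h.co zv * g⁻¹ * h.co u = h.co u * (g * h.co zv * g⁻¹) → ap T u = u :=
    fun u e => h.co_inj (by rw [← a, e, mul_inv_cancel_right])
  have T3 : C3 T := lin_ext fun u => h.co_inj (by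
    rw [ap_cmp, ap_cmp, ← a, ← a, ← a, ap_one]
    generalize g * h.co zv * g⁻¹ = y at *
    calc _ = y ^ 3 * h.co u * (y ^ 3)⁻¹ := by simp only [pow_succ, pow_zero]; group
      _ = _ := by rw [y3]; simp)
  have hT := stabzf.of o.1 (fx _ ez) (fx _ ef) T3
  have ττ : h.w (cmp tauL tauL) = h.τ * h.τ := h.w_mul _ _ h.ok_tau h.ok_tau
  have cw : ∀ {b}, Commute b h.τ → Commute b (h.w T) := fun {b} c => by
    rcases hT with rfl | rfl | rfl
    · rw [h.w_one]; exact Commute.one_right b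
    · exact c
    · rw [ττ]; exact c.mul_right c
  have cv : ∀ {b}, Commute b h.τ → g * h.co zv * g⁻¹ * b = b * (g * h.co zv * g⁻¹) →
      b * h.co v * b⁻¹ = h.co v := fun {b} c e => by
    rw [e1, mul_assoc, ← (cw c).eq, ← mul_assoc, ← mul_assoc, mul_left_inj] at e
    rw [← e, mul_inv_cancel_right]
  obtain ⟨k, rfl⟩ := fixv v (h.co_inj ((h.τa v).symm.trans (cv (Commute.refl _) eτ)))
    (h.co_inj ((h.q1a v).symm.trans (cv h.q1τ eq)))
  rcases hT with rfl | rfl | rfl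
  · rw [h.w_one, mul_one] at e1
    rw [e1]
    rcases (by decide : ∀ k : F, k • zv = 0 ∨ k • zv = zv ∨ k • zv = -zv) k with e2 | e2 | e2
    · rw [e2, h.co0, conj_eq_one_iff, h.co_eq_one] at e1
      exact absurd e1 (by decide)
    · exact Or.inl (congrArg _ e2)
    · exact Or.inr (congrArg _ e2)
  · exact (h.tb_nt k g zv e1).elim
  · refine (h.tb_nt (-k) g (-zv) ?_).elim
    have c : h.τ * h.co ((-k) • zv) = h.co ((-k) • zv) * h.τ :=
      h.tb_smul _ (mul_inv_eq_iff_eq_mul.1 ((h.τa zv).trans (congrArg _ (by decide))))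
    rw [h.con, ← conj_inv, e1, ττ, ← c, neg_smul, h.con, mul_inv_rev, mul_left_inj,
      inv_eq_iff_mul_eq_one, ← h.τ3, pow_succ, pow_two]

theorem chi3 {χ : G → ZMod 2} (add : ∀ a b, χ (a * b) = χ a + χ b) (hr : h.c2 → χ h.r ≠ 0) :
    ∃ χ₃ : G → ZMod 3, (∀ a b, χ a = 0 → χ b = 0 → χ₃ (a * b) = χ₃ a + χ₃ b) ∧ χ₃ h.τ ≠ 0 := by
  have : Fact (Nat.Prime 3) := ⟨Nat.prime_three⟩
  have pS := SS_p h.co_add h.co_inj h.q1a h.τa h.q13 h.τ3 h.q1τ
  have hφ : ∀ a ∈ TB.ker add ⊓ Odd.cz (h.co zv), ∀ b ∈ TB.ker add ⊓ Odd.cz (h.co zv),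
      h.tbφ (a * b) = h.tbφ a + h.tbφ b := fun a ha b hb => by
    obtain ⟨k, e1⟩ := h.tb_a0 add hr ha.1 (mem_cz'.1 ha.2)
    obtain ⟨l, e2⟩ := h.tb_a0 add hr hb.1 (mem_cz'.1 hb.2)
    rw [h.tbφ_eq e1, h.tbφ_eq e2]
    refine h.tbφ_eq ?_
    calc _ = a * (b * h.co a0 * b⁻¹) * a⁻¹ := by group
      _ = a * h.co a0 * a⁻¹ * (a * h.co (l • zv) * a⁻¹) := by rw [e2, h.co_add, conj_mul]
      _ = _ := by
        rw [e1, h.tb_smul l (mem_cz'.1 ha.2), mul_inv_cancel_right, ← h.co_add, add_smul, add_assoc]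
  have SM : h.S ≤ TB.ker add ⊓ Odd.cz (h.co zv) := by
    have a : ∀ {g : G}, g ^ 3 = 1 → g * h.co zv * g⁻¹ = h.co zv →
        g ∈ TB.ker add ⊓ Odd.cz (h.co zv) := fun e1 e2 => ⟨c_cube add e1, mem_cz.2 e2⟩
    rintro _ ⟨v, i, j, rfl⟩
    exact mul_mem (a (h.co3 v) (by rw [h.coc]; simp)) (mul_mem
      (pow_mem (a h.q13 ((h.q1a zv).trans (congrArg _ (by decide)))) _)
      (pow_mem (a h.τ3 ((h.τa zv).trans (congrArg _ (by decide)))) _))
  have τS : h.τ ∈ h.S ⊓ Odd.cz h.τ := ⟨⟨0, 0, 1, by simp [h.co0, ZMod.val_one]⟩, mem_cz'.2 rfl⟩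
  have cj : ∀ m ∈ TB.ker add ⊓ Odd.cz (h.co zv), h.tbφ (m⁻¹ * h.τ * m) = h.tbφ h.τ := fun m hm => by
    have e1 := hφ _ (inv_mem hm) _ hm
    have e0 := hφ _ (one_mem _) _ (one_mem _)
    rw [hφ _ (mul_mem (inv_mem hm) (SM τS.1)) _ hm, hφ _ (inv_mem hm) _ (SM τS.1)]
    rw [inv_mul_cancel] at e1
    rw [mul_one] at e0
    linear_combination -e1 - e0
  obtain ⟨χ₃, a, b, -⟩ := tr (X := TB.ker add) (M := TB.ker add ⊓ Odd.cz (h.co zv))
    (B := h.S ⊓ Odd.cz h.τ) h.tbφ hφ pS.to_inf_left ((inf_le_left.trans SM).trans inf_le_left) τS h.τ3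
    (fun b hb => mem_cz'.1 hb.2) (by
      rw [h.tbφ_eq ((h.τa a0).trans (congrArg _ tau_a0.1))]; exact tau_a0.2)
    (fun e => SS_index h.co_add h.co_inj h.q1a h.τa h.q13 h.τ3 h.q1τ h.card
      ((e.trans (relIndex_dvd_index_of_le inf_le_left)).trans (index_dvd_of_le SM)))
    fun g hg e => by
      rcases h.tb_y (g := g) (fun b hb => by
        have := mem_cz'.1 (e b hb).2
        calc _ = g * (h.co zv * (g⁻¹ * b * g)) * g⁻¹ := by group
          _ = _ := by rw [← this]; group) with e1 | e1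
      · exact cj g ⟨hg, mem_cz.2 e1⟩
      · have o := h.ok_ev nL_ok
        have oi := h.ok_ev iL_ok
        have i0 : h.w nL ∈ TB.ker add := by
          show χ (h.w (cmp iL iL)) = 0
          rw [h.w_mul _ _ oi oi]; exact c_sq add _
        have c : h.w nL * h.τ = h.τ * h.w nL := h.w_comm o h.ok_tau (by decide)
        have := cj (h.w nL * g) ⟨mul_mem i0 hg, mem_cz.2 (by
          calc _ = h.w nL * (g * h.co zv * g⁻¹) * (h.w nL)⁻¹ := by group
            _ = _ := by rw [e1, h.w_act _ o]; exact congrArg _ (by decide))⟩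
        rwa [show (h.w nL * g)⁻¹ * h.τ * (h.w nL * g) = g⁻¹ * h.τ * g by
          rw [mul_assoc, ← mul_assoc h.τ, ← c]; group] at this
  exact ⟨χ₃, fun x y hx hy => a x hx y hy, b⟩

end Fr

end CL.O8
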